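import Cfsg.Agent.H86.PrimeLocal
import Cfsg.Agent.H85.CentricExt

/-! Extensions to `P C_S(T)` acting trivially modulo `T`, for weakly normal subsystems on `T`. -/

set_option autoImplicit false

open Cfsg Cfsg.FusionSystem

namespace H86

variable {Ω : Type*} [Group Ω] {S T : Subgroup Ω}

/-- `φ` extends to `P C_S(T)` so that it acts trivially on `C_S(T)` modulo `T`. -/
def ExtC (F : FusionSystem S) (T P : Subgroup Ω) (φ : P →* Ω) : Prop :=
  ∃ ψ ∈ F.Hom (P ⊔ centralizerIn S T),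
    (∀ x : P, ψ (Subgroup.inclusion le_sup_left x) = φ x) ∧
    ∀ c : ↥(P ⊔ centralizerIn S T), (c : Ω) ∈ centralizerIn S T → (c : Ω)⁻¹ * ψ c ∈ T

theorem centralizerIn_antitone {P Q : Subgroup Ω} (h : P ≤ Q) :
    centralizerIn S Q ≤ centralizerIn S P :=
  fun _ hg => H85.mem_centralizerIn.2 ⟨hg.1, fun x hx => (H85.mem_centralizerIn.1 hg).2 x (h hx)⟩

theorem centralizerIn_mapsTo {P R : Subgroup Ω} (f : R →* Ω) (hPR : P ≤ R)
    (hf : ∀ x : R, (x : Ω) ∈ P → f x = x) (c : R) (hc : ∀ x ∈ P, x * (c : Ω) = (c : Ω) * x) :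
    ∀ x ∈ P, x * f c = f c * x := by
  intro x hx
  have h := hf ⟨x, hPR hx⟩ hx
  rw [← show f ⟨x, hPR hx⟩ = x from h, ← map_mul, ← map_mul]
  exact congrArg f (Subtype.ext (hc x hx))

/-- Congruences modulo `T` pass to powers. -/
theorem pow_congr {P A R : Subgroup Ω} (hTS : T ≤ S) (hCA : centralizerIn S T ≤ A)
    (hCR : centralizerIn S T ≤ R) (hPR : P ≤ R) (hRS : R ≤ S) (hPT : P ≤ T)
    (hTP : ∀ t ∈ T, (∀ x ∈ P, x * t = t * x) → t ∈ P) {γ : MulAut A} {f : MulAut R}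
    (hγ : ∀ c : A, (c : Ω) ∈ centralizerIn S T → (γ c : Ω) ∈ centralizerIn S T)
    (hf : ∀ x : R, (x : Ω) ∈ P → (f x : Ω) = x)
    (h : ∀ (c : Ω) (hc : c ∈ centralizerIn S T),
      ((γ ⟨c, hCA hc⟩ : A) : Ω)⁻¹ * (f ⟨c, hCR hc⟩ : R) ∈ T) (s : ℕ) :
    ∀ (c : Ω) (hc : c ∈ centralizerIn S T), ((γ ^ s) ⟨c, hCA hc⟩ : Ω) ∈ centralizerIn S T ∧
      (((γ ^ s) ⟨c, hCA hc⟩ : A) : Ω)⁻¹ * ((f ^ s) ⟨c, hCR hc⟩ : R) ∈ T := by
  induction s with
  | zero =>
    intro c hc
    exact ⟨hc, by simp [one_mem]⟩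
  | succ s ih =>
    intro c hc
    obtain ⟨h1, h2⟩ := ih c hc
    set c' := (γ ^ s) ⟨c, hCA hc⟩ with hc'def
    set d := (f ^ s) ⟨c, hCR hc⟩ with hddef
    refine ⟨by rw [pow_succ', MulAut.mul_apply]; exact hγ _ h1, ?_⟩
    rw [pow_succ', pow_succ', MulAut.mul_apply, MulAut.mul_apply, ← hc'def, ← hddef]
    -- `d` centralizes `P`, so `d = c' t` with `t ∈ P`
    have hdc : ∀ x ∈ P, x * (d : Ω) = (d : Ω) * x := by
      intro x hx
      have hfs : ∀ (j : ℕ), (f ^ j) ⟨x, hPR hx⟩ = ⟨x, hPR hx⟩ := by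
        intro j
        induction j with
        | zero => rfl
        | succ j ihj => rw [pow_succ', MulAut.mul_apply, ihj]; exact Subtype.ext (hf _ hx)
      have hcx : (⟨x, hPR hx⟩ : R) * ⟨c, hCR hc⟩ = ⟨c, hCR hc⟩ * ⟨x, hPR hx⟩ :=
        Subtype.ext ((H85.mem_centralizerIn.1 hc).2 x (hPT hx))
      have := congrArg (fun z => (((f ^ s) z : R) : Ω)) hcx
      simp only [map_mul, hfs, Subgroup.coe_mul] at this
      exact this
    have hc'P : ∀ x ∈ P, x * (c' : Ω) = (c' : Ω) * x :=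
      fun x hx => (H85.mem_centralizerIn.1 h1).2 x (hPT hx)
    have htP : (c' : Ω)⁻¹ * d ∈ P := hTP _ h2 fun x hx => by
      calc x * ((c' : Ω)⁻¹ * d) = (c' : Ω)⁻¹ * ((c' : Ω) * x * (c' : Ω)⁻¹) * d := by group
        _ = (c' : Ω)⁻¹ * x * d := by rw [← hc'P x hx, mul_inv_cancel_right]
        _ = (c' : Ω)⁻¹ * (d * x) := by rw [mul_assoc, hdc x hx]
        _ = ((c' : Ω)⁻¹ * d) * x := by group
    have hd : d = ⟨(c' : Ω), hCR h1⟩ * ⟨(c' : Ω)⁻¹ * d, hPR htP⟩ :=
      Subtype.ext (by simp)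
    rw [hd, map_mul, Subgroup.coe_mul, hf ⟨(c' : Ω)⁻¹ * d, hPR htP⟩ htP, ← mul_assoc]
    exact mul_mem (h _ h1) h2

variable [Finite S] {p : ℕ} [Fact p.Prime] {F : FusionSystem S} {E : FusionSystem T}

theorem centric_of_conj (hE : E.IsWeaklyNormalIn F p) {P Q : Subgroup Ω} (hP : E.IsCentric P)
    (h : F.IsConj P Q) : E.IsCentric Q := by
  obtain ⟨hEF, hT, -, hfr⟩ := hE.2.2
  have hn := fun (α : MulAut T) (hα : α ∈ F.autGroup T) =>
    normAut_of_strongInv (strongInv_of_invariant hE.2.2) hT.1 hα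
  obtain ⟨φ, hφ, rfl⟩ := h
  obtain ⟨α, hα, φ₀, h₀, he⟩ := hfr P hP.1 φ hφ
  have : Finite T := H85.finite_of_le hT.1
  have hc : E.IsCentric φ₀.range := H85.centric_of_isConj hP ⟨φ₀, h₀, rfl⟩
  have hi := centric_img (hn _ (inv_mem hα)) hc
  convert hi using 1
  ext y
  rw [H85.mem_img]
  constructor
  · rintro ⟨x, rfl⟩
    exact ⟨⟨φ₀ x, (E.le_of_mem h₀).2 x⟩, ⟨x, rfl⟩, (he x _).symm⟩
  · rintro ⟨s, ⟨x, hx⟩, rfl⟩
    refine ⟨x, (he x ((E.le_of_mem h₀).2 x)).trans ?_⟩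
    exact congrArg (fun z : T => ((α z : T) : Ω)) (Subtype.ext hx)

theorem fullyNormalized_weaklyNormal (hS : IsPGroup p S) (hE : E.IsWeaklyNormalIn F p)
    {P : Subgroup Ω} (hPT : P ≤ T) (hP : F.IsFullyNormalized P) : E.IsFullyNormalized P := by
  have hTc := hE.2.2.2.1
  refine ⟨hPT, fun Q hQ => ?_⟩
  obtain ⟨φ, hφ, hr⟩ := hQ
  have hQP : F.IsConj Q P := H85.isConj_symm ⟨φ, hE.2.2.1 P hφ, hr⟩
  have hQT : Q ≤ T := hr ▸ H85.range_le hφ
  obtain ⟨m, hm, hmv, -⟩ := H85.exists_map_to_fullyNormalized hS hE.2.1 hP hQP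
  have hN : normalizerIn T Q ≤ normalizerIn S Q := inf_le_inf_right _ hTc.1
  have : Finite (normalizerIn T P) :=
    H85.finite_of_le ((H85.normalizerIn_le P).trans hTc.1)
  refine Nat.card_le_card_of_injective (fun g : normalizerIn T Q =>
    (⟨m (Subgroup.inclusion hN g),
      hTc.2 _ inf_le_left _ (H85.restrict hm hN) g, (hmv _).2⟩ : normalizerIn T P)) fun a b h => ?_
  exact Subgroup.inclusion_injective hN (F.injective_of_mem hm
    (congrArg (fun z : normalizerIn T P => (z : Ω)) h))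

/-- Automorphisms of `p`-power order of centric subgroups extend as required. -/
theorem extC_pElement (hS : IsPGroup p S) (hE : E.IsWeaklyNormalIn F p) {P : Subgroup Ω}
    (hP : E.IsCentric P) {a : MulAut P} (ha : a ∈ E.autGroup P)
    (hk : ∃ k : ℕ, orderOf a = p ^ k) : ExtC F T P (P.subtype.comp a.toMonoidHom) := by
  have hF := hE.2.1
  have hTc := hE.2.2.2.1
  have hTS := hTc.1
  have : Finite T := H85.finite_of_le hTS
  have hPS : P ≤ S := hP.1.trans hTS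
  obtain ⟨P₀, hPP₀, hP₀⟩ := H85.exists_fullyNormalized F hPS
  obtain ⟨m, hm, -, himg⟩ := H85.exists_map_to_fullyNormalized hS hF hP₀ hPP₀
  have hPN : P ≤ normalizerIn S P := H85.le_normalizerIn hPS
  have hc₀ : E.IsCentric P₀ := centric_of_conj hE hP hPP₀
  have hP₀T : P₀ ≤ T := hc₀.1
  let e : P ≃* P₀ :=
    (H85.resIso m (F.injective_of_mem hm) hPN).trans (MulEquiv.subgroupCongr himg)
  have ha₀ : MulAut.congr e a ∈ E.autGroup P₀ := by
    obtain ⟨χ, hχ, hχe⟩ := strongInv_of_invariant hE.2.2 P P le_rfl hP.1 _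
      ((H85.mem_autGroup hP.1).1 ha) (fun x => (a x).2) _ (H85.restrict hm hPN)
    have hle : P₀ ≤ (P.subgroupOf P).map (m.comp (Subgroup.inclusion hPN)) := by
      intro y hy
      obtain ⟨x, hx, rfl⟩ := H85.mem_img.1 (himg.ge hy)
      exact ⟨⟨(x : Ω), hx⟩, hx, congrArg m (Subtype.ext rfl)⟩
    refine (H85.mem_autGroup hP₀T).2 (H85.hom_congr (H85.restrict hχ hle) fun y => ?_)
    obtain ⟨x, rfl⟩ := e.surjective y
    show χ ⟨(e x : Ω), hle (e x).2⟩ = (e (a (e.symm (e x))) : Ω)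
    rw [MulEquiv.symm_apply_apply]
    exact hχe x (hle (e x).2)
  obtain ⟨γ, hγ, hc⟩ := H85.fullyAutomized_conj (H85.fullyAutomized_of_fullyNormalized
    (hS.to_le hTS) hE.1 (fullyNormalized_weaklyNormal hS hE hP₀T hP₀))
    (Subgroup.zpowers_le.2 ha₀) (isPGroup_zpowers (by
      obtain ⟨k, hk⟩ := hk
      exact ⟨k, (MulEquiv.orderOf_eq (MulAut.congr e) a).trans hk⟩))
  obtain ⟨t, ht, hte⟩ := H85.mem_autInducedBy.1 (hc _ (Subgroup.mem_zpowers _))
  have htN : t ∈ Subgroup.normalizer (P₀ : Set Ω) := H85.mem_normalizer_of_induced hte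
  have hR : pc S P₀ ≤ S := pc_le hP₀.1
  obtain ⟨ct, hct, hcte⟩ := exists_aut_pc (ψ := Cfsg.conjHom (pc S P₀) t)
    (F.conj_mem hR (hTS ht)) le_rfl fun x hx => H85.conj_mem_of_mem_normalizer htN hx
  have hγF : H85.IsFIso F γ := hE.2.2.1 _ ((H85.mem_autGroup hP₀T).1 hγ)
  obtain ⟨ψ₁, hψ₁, hext⟩ :=
    H85.receptive_extend (H85.receptive_of_fullyNormalized hS hF hP₀) hγF
  have hX : pc S P₀ ≤ extender S P₀ (P₀.subtype.comp γ.toMonoidHom) :=
    sup_le (H85.le_extender hP₀.1 fun x => H85.map_mem hγF x)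
      (H85.centralizerIn_le_extender _ _)
  obtain ⟨b, hb, hbe⟩ := exists_aut_pc hψ₁ hX fun x hx => by
    rw [show ψ₁ x = (γ ⟨x, hx⟩ : Ω) from hext x hx x.2]
    exact SetLike.coe_mem _
  have hbP : ∀ x : P₀, (b (Subgroup.inclusion le_sup_left x) : Ω) = γ x :=
    fun x => (hbe _).trans (hext x x.2 _)
  set f₀ : MulAut ↥(pc S P₀) := b⁻¹ * ct * b with hf₀def
  have hf₀F : f₀ ∈ F.autGroup (pc S P₀) := mul_mem (mul_mem (inv_mem hb) hct) hb
  have hf₀P : ∀ x : P₀, (f₀ (Subgroup.inclusion le_sup_left x) : Ω) = MulAut.congr e a x := by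
    intro x
    have h1 := hte (γ x)
    rw [MulAut.mul_apply, MulAut.mul_apply, MulAut.inv_apply_self] at h1
    have h2 : ct (b (Subgroup.inclusion le_sup_left x)) =
        b (Subgroup.inclusion le_sup_left (MulAut.congr e a x)) := by
      refine Subtype.ext ?_
      rw [hcte, hbP, h1]
      show t * ((b (Subgroup.inclusion le_sup_left x) : pc S P₀) : Ω) * t⁻¹ = _
      rw [hbP x]
    rw [hf₀def, MulAut.mul_apply, MulAut.mul_apply, h2, MulAut.inv_apply_self]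
    rfl
  -- `f₀` is trivial on `C_S(P₀)` modulo `P₀`
  have hf₀C : ∀ c : pc S P₀, (c : Ω) ∈ centralizerIn S P₀ → (c : Ω)⁻¹ * f₀ c ∈ P₀ := by
    intro c hc'
    set d := b c with hddef
    have hd : ∀ x ∈ P₀, x * (d : Ω) = (d : Ω) * x := by
      intro x hx
      obtain ⟨y, hy⟩ := γ.surjective ⟨x, hx⟩
      have h1 : (b (Subgroup.inclusion le_sup_left y) : Ω) = x :=
        (hbP y).trans (congrArg Subtype.val hy)
      rw [← h1, ← Subgroup.coe_mul, ← Subgroup.coe_mul, ← map_mul, ← map_mul]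
      exact congrArg (fun z => ((b z : pc S P₀) : Ω))
        (Subtype.ext ((H85.mem_centralizerIn.1 hc').2 y y.2))
    have hdS : (d : Ω) ∈ S := hR d.2
    have hz : (d : Ω)⁻¹ * ct d ∈ P₀ := by
      have h1 : (ct d : Ω) = t * d * t⁻¹ := hcte d
      have hd' : ∀ x ∈ P₀, x * (ct d : Ω) = (ct d : Ω) * x := by
        intro x hx
        have hx' := H85.conj_mem_of_mem_normalizer' htN hx
        rw [h1]
        calc x * (t * d * t⁻¹) = t * ((t⁻¹ * x * t) * d) * t⁻¹ := by group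
          _ = t * (d * (t⁻¹ * x * t)) * t⁻¹ := by rw [hd _ hx']
          _ = t * d * t⁻¹ * x := by group
      have hzT : (d : Ω)⁻¹ * ct d ∈ T := by
        rw [h1, show (d : Ω)⁻¹ * (t * d * t⁻¹) = (d : Ω)⁻¹ * t * (d : Ω)⁻¹⁻¹ * t⁻¹ by group]
        exact mul_mem (normal_of_stronglyClosed F hTc (inv_mem hdS) ht) (inv_mem ht)
      refine H85.centric_self hc₀ (H85.mem_centralizerIn.2 ⟨hzT, fun x hx => ?_⟩)
      have h3 : (d : Ω) * x * (d : Ω)⁻¹ = x := by rw [← hd x hx, mul_inv_cancel_right]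
      calc x * ((d : Ω)⁻¹ * ct d) = (d : Ω)⁻¹ * ((d : Ω) * x * (d : Ω)⁻¹) * ct d := by group
        _ = (d : Ω)⁻¹ * (x * ct d) := by rw [h3, mul_assoc]
        _ = (d : Ω)⁻¹ * ct d * x := by rw [hd' x hx, mul_assoc]
    obtain ⟨w, hw⟩ := γ.surjective ⟨_, hz⟩
    have h4 : ct d = b (c * Subgroup.inclusion le_sup_left w) := by
      refine Subtype.ext ?_
      rw [map_mul, Subgroup.coe_mul, hbP, hw, ← hddef]
      simp
    have h5 : f₀ c = c * Subgroup.inclusion le_sup_left w := by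
      rw [hf₀def, MulAut.mul_apply, MulAut.mul_apply, ← hddef, h4, MulAut.inv_apply_self]
    rw [h5, Subgroup.coe_mul, inv_mul_cancel_left]
    exact w.2
  -- transport to `P C_S(T)`
  set R := P ⊔ centralizerIn S T with hRdef
  have hRN : R ≤ normalizerIn S P := sup_le hPN
    ((centralizerIn_antitone hP.1).trans (H85.centralizerIn_le_normalizerIn P))
  set g : R →* Ω := m.comp (Subgroup.inclusion hRN) with hgdef
  have hg : g ∈ F.Hom R := H85.restrict hm hRN
  have hgP : ∀ x : P, g (Subgroup.inclusion le_sup_left x) = e x :=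
    fun x => congrArg m (Subtype.ext rfl)
  have hgC : ∀ c : R, (c : Ω) ∈ centralizerIn S T → g c ∈ centralizerIn S P₀ := fun c hc' =>
    H85.extend_maps_centralizer (e := e) le_sup_left (fun x => hgP x) (H85.map_mem hg c)
      (centralizerIn_antitone hP.1 hc')
  have hle : R ≤ ((pc S P₀).comap g).map R.subtype := by
    refine sup_le ?_ ?_
    · exact fun x hx => ⟨⟨x, le_sup_left (α := Subgroup Ω) hx⟩,
        le_sup_left (α := Subgroup Ω) ((hgP ⟨x, hx⟩).symm ▸ (e ⟨x, hx⟩).2), rfl⟩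
    · exact fun x hx => ⟨⟨x, le_sup_right (α := Subgroup Ω) hx⟩,
        le_sup_right (α := Subgroup Ω) (hgC ⟨x, le_sup_right (α := Subgroup Ω) hx⟩ hx), rfl⟩
  have hgR : ∀ x : R, g x ∈ pc S P₀ := fun x => by
    obtain ⟨y, hy, hyx⟩ := hle x.2
    exact (Subtype.ext hyx : y = x) ▸ hy
  set g' : R →* Ω :=
    ((pc S P₀).subtype.comp f₀.toMonoidHom).comp (g.codRestrict _ hgR) with hg'def
  have hg' : g' ∈ F.Hom R := F.comp_mem hg ((H85.mem_autGroup hR).1 hf₀F) hgR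
  have hg'P : ∀ x : P, g' (Subgroup.inclusion le_sup_left x) = e (a x) := by
    intro x
    have h1 : g.codRestrict _ hgR (Subgroup.inclusion le_sup_left x) =
        Subgroup.inclusion (le_sup_left : P₀ ≤ pc S P₀) (e x) := Subtype.ext (hgP x)
    refine (congrArg (fun z => ((f₀ z : pc S P₀) : Ω)) h1).trans ((hf₀P (e x)).trans ?_)
    show (e (a (e.symm (e x))) : Ω) = _
    rw [MulEquiv.symm_apply_apply]
  have hg'C : ∀ c : R, (c : Ω) ∈ centralizerIn S T →
      ∃ w : P, g' c = g (c * Subgroup.inclusion le_sup_left w) := by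
    intro c hc'
    have hz := hf₀C ⟨g c, hgR c⟩ (hgC c hc')
    obtain ⟨w, hw⟩ := e.surjective ⟨_, hz⟩
    refine ⟨w, ?_⟩
    rw [map_mul, hgP, hw]
    show (f₀ ⟨g c, hgR c⟩ : Ω) = g c * ((g c)⁻¹ * (f₀ ⟨g c, hgR c⟩ : Ω))
    rw [mul_inv_cancel_left]
  have hle' : R ≤ (g.range.comap g').map R.subtype := by
    refine sup_le ?_ ?_
    · exact fun x hx => ⟨⟨x, le_sup_left (α := Subgroup Ω) hx⟩,
        ⟨Subgroup.inclusion le_sup_left (a ⟨x, hx⟩), (hgP _).trans (hg'P ⟨x, hx⟩).symm⟩, rfl⟩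
    · intro x hx
      obtain ⟨w, hw⟩ := hg'C ⟨x, le_sup_right (α := Subgroup Ω) hx⟩ hx
      exact ⟨⟨x, le_sup_right (α := Subgroup Ω) hx⟩, ⟨_, hw.symm⟩, rfl⟩
  have hg'R : ∀ x : R, g' x ∈ g.range := fun x => by
    obtain ⟨y, hy, hyx⟩ := hle' x.2
    exact (Subtype.ext hyx : y = x) ▸ hy
  let r := H85.isoOf g hg rfl
  refine ⟨_, F.comp_mem hg' (H85.isFIso_isoOf g hg rfl).symm hg'R, fun x => ?_, fun c hc' => ?_⟩
  · show ((r.symm ⟨g' (Subgroup.inclusion le_sup_left x), _⟩ : R) : Ω) = a x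
    rw [show (⟨g' (Subgroup.inclusion le_sup_left x), _⟩ : g.range) =
      r (Subgroup.inclusion le_sup_left (a x)) from
      Subtype.ext ((hg'P x).trans (hgP _).symm), MulEquiv.symm_apply_apply]
    rfl
  · obtain ⟨w, hw⟩ := hg'C c hc'
    show (c : Ω)⁻¹ * ((r.symm ⟨g' c, _⟩ : R) : Ω) ∈ T
    rw [show (⟨g' c, _⟩ : g.range) = r (c * Subgroup.inclusion le_sup_left w) from
      Subtype.ext hw, MulEquiv.symm_apply_apply, Subgroup.coe_mul, inv_mul_cancel_left]
    exact hP.1 w.2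

/-- Automorphisms of `P C_S(T)` fixing `P`, of order prime to `p`, agree modulo `T` with
automorphisms of `T C_S(T)` fixing `T`. -/
theorem exists_fix_aut (hS : IsPGroup p S) (hE : E.IsWeaklyNormalIn F p) {P : Subgroup Ω}
    (hP : E.IsCentric P) {f : MulAut ↥(P ⊔ centralizerIn S T)}
    (hf : f ∈ F.autGroup (P ⊔ centralizerIn S T))
    (hfP : ∀ x : ↥(P ⊔ centralizerIn S T), (x : Ω) ∈ P → (f x : Ω) = x)
    (hord : ¬ p ∣ orderOf f) :
    ∃ γ ∈ F.autGroup (T ⊔ centralizerIn S T),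
      (∀ x : ↥(T ⊔ centralizerIn S T), (x : Ω) ∈ T → (γ x : Ω) = x) ∧
      ∀ (c : Ω) (hc : c ∈ centralizerIn S T),
        ((γ ⟨c, le_sup_right (α := Subgroup Ω) hc⟩ : ↥(T ⊔ centralizerIn S T)) : Ω)⁻¹ *
          (f ⟨c, le_sup_right (α := Subgroup Ω) hc⟩ : ↥(P ⊔ centralizerIn S T)) ∈ T := by
  have hF := hE.2.1
  have hTc := hE.2.2.2.1
  have hTS := hTc.1
  suffices H : ∀ (n : ℕ) (P : Subgroup Ω), E.IsCentric P → Nat.card T - Nat.card P ≤ n →
      ∀ f : MulAut ↥(P ⊔ centralizerIn S T), f ∈ F.autGroup (P ⊔ centralizerIn S T) →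
      (∀ x : ↥(P ⊔ centralizerIn S T), (x : Ω) ∈ P → (f x : Ω) = x) → ¬ p ∣ orderOf f →
      ∃ γ ∈ F.autGroup (T ⊔ centralizerIn S T),
        (∀ x : ↥(T ⊔ centralizerIn S T), (x : Ω) ∈ T → (γ x : Ω) = x) ∧
        ∀ (c : Ω) (hc : c ∈ centralizerIn S T),
          ((γ ⟨c, le_sup_right (α := Subgroup Ω) hc⟩ : ↥(T ⊔ centralizerIn S T)) : Ω)⁻¹ *
            (f ⟨c, le_sup_right (α := Subgroup Ω) hc⟩ : ↥(P ⊔ centralizerIn S T)) ∈ T from
    H _ P hP le_rfl f hf hfP hord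
  intro n
  induction n using Nat.strong_induction_on with
  | _ n ihn =>
  intro P hP hn
  have hPT := hP.1
  rcases eq_or_lt_of_le hPT with heq | hlt
  · subst heq
    exact fun f hf hfP _ => ⟨f, hf, hfP, fun c hc => by simp [one_mem]⟩
  set C := centralizerIn S T with hCdef
  set R := P ⊔ C with hRdef
  intro f hf hfP hord
  have hPS : P ≤ S := hPT.trans hTS
  have hCS : C ≤ S := H85.centralizerIn_le T
  have hR : R ≤ S := sup_le hPS hCS
  have : Finite T := H85.finite_of_le hTS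
  have : Finite R := H85.finite_of_le hR
  have : Finite P := H85.finite_of_le hPS
  have hTP : ∀ t ∈ T, (∀ x ∈ P, x * t = t * x) → t ∈ P := fun t ht h =>
    H85.centric_self hP (H85.mem_centralizerIn.2 ⟨ht, h⟩)
  set Y := normalizerIn T P with hYdef
  have hYT : Y ≤ T := H85.normalizerIn_le P
  have hPY : P ≤ Y := H85.le_normalizerIn hPT
  have hYC : ∀ y ∈ T, ∀ c ∈ C, y * c * y⁻¹ = c := fun y hy c hc => by
    rw [(H85.mem_centralizerIn.1 hc).2 y hy, mul_inv_cancel_right]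
  -- the normal p-group of automorphisms
  let M : Subgroup (MulAut R) :=
    { carrier := {u | u ∈ F.autGroup R ∧
        (∃ y ∈ Y, ∀ x : R, (x : Ω) ∈ P → (u x : Ω) = y * x * y⁻¹) ∧
        ∀ x : R, (x : Ω) ∈ C → (x : Ω)⁻¹ * u x ∈ P}
      one_mem' := ⟨one_mem _, ⟨1, one_mem _, fun x _ => by simp⟩, fun x _ => by simp [one_mem]⟩
      mul_mem' := by
        rintro u v ⟨hu, ⟨y, hy, hyu⟩, huC⟩ ⟨hv, ⟨y', hy', hyv⟩, hvC⟩
        have huP : ∀ x : R, (x : Ω) ∈ P → (u x : Ω) ∈ P := fun x hx => by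
          rw [hyu x hx]
          exact H85.conj_mem_of_mem_normalizer hy.2 hx
        refine ⟨mul_mem hu hv, ⟨y * y', mul_mem hy hy', fun x hx => ?_⟩, fun x hx => ?_⟩
        · have h1 : ((v x : R) : Ω) ∈ P := by
            rw [hyv x hx]
            exact H85.conj_mem_of_mem_normalizer hy'.2 hx
          rw [MulAut.mul_apply, hyu _ h1, hyv x hx]
          group
        · have hw : (x : Ω)⁻¹ * v x ∈ P := hvC x hx
          have h2 : v x = x * ⟨_, le_sup_left (α := Subgroup Ω) hw⟩ := Subtype.ext (by simp)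
          rw [MulAut.mul_apply, h2, map_mul, Subgroup.coe_mul, ← mul_assoc]
          exact mul_mem (huC x hx) (huP _ hw)
      inv_mem' := by
        rintro u ⟨hu, ⟨y, hy, hyu⟩, huC⟩
        have hback : ∀ x : R, (x : Ω) ∈ P → (u⁻¹ x : Ω) = y⁻¹ * x * y⁻¹⁻¹ := by
          intro x hx
          have hz : y⁻¹ * (x : Ω) * y ∈ P := H85.conj_mem_of_mem_normalizer' hy.2 hx
          have h1 : u ⟨_, le_sup_left (α := Subgroup Ω) hz⟩ = x :=
            Subtype.ext ((hyu _ hz).trans (by group))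
          conv_lhs => rw [← h1, MulAut.inv_apply_self]
          rw [inv_inv]
        refine ⟨inv_mem hu, ⟨y⁻¹, inv_mem hy, hback⟩, fun x hx => ?_⟩
        have hw : (x : Ω)⁻¹ * u x ∈ P := huC x hx
        let w : R := ⟨_, le_sup_left (α := Subgroup Ω) hw⟩
        have h2 : u x = x * w := Subtype.ext (by simp [w])
        have h3 : u⁻¹ x = x * (u⁻¹ w)⁻¹ := by
          rw [eq_mul_inv_iff_mul_eq, ← map_mul, ← h2, MulAut.inv_apply_self]
        rw [h3, Subgroup.coe_mul, inv_mul_cancel_left]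
        have h5 : ((u⁻¹ w : R) : Ω) ∈ P := by
          rw [hback w hw]
          exact H85.conj_mem_of_mem_normalizer (Subgroup.inv_mem _ hy.2) hw
        exact Subgroup.inv_mem _ h5 }
  have hMA : M ≤ F.autGroup R := fun u hu => hu.1
  have hMp : IsPGroup p M := by
    rintro ⟨u, hu⟩
    obtain ⟨y, hy, hyu⟩ := hu.2.1
    obtain ⟨j, hj⟩ := (hS.to_le ((H85.normalizerIn_le (S := T) P).trans hTS)) ⟨y, hy⟩
    have hj' : y ^ p ^ j = 1 := congrArg Subtype.val hj
    have hpow : ∀ (k : ℕ) (x : R), (x : Ω) ∈ P → ((u ^ k) x : Ω) = y ^ k * x * (y ^ k)⁻¹ := by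
      intro k
      induction k with
      | zero => intro x _; simp
      | succ k ihk =>
        intro x hx
        have h1 : ((u x : R) : Ω) ∈ P := by
          rw [hyu x hx]
          exact H85.conj_mem_of_mem_normalizer hy.2 hx
        rw [pow_succ, MulAut.mul_apply, ihk _ h1, hyu x hx, pow_succ]
        group
    have hv : u ^ p ^ j ∈ M := pow_mem hu _
    have hfix : ∀ x : R, (x : Ω) ∈ P → (u ^ p ^ j) x = x := fun x hx =>
      Subtype.ext (by rw [hpow _ x hx, hj']; simp)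
    have hquot : ∀ x : R, (x : Ω)⁻¹ * (u ^ p ^ j) x ∈ P := by
      intro x
      have hle : R ≤ Subgroup.map R.subtype
          ({ carrier := {x : R | (x : Ω)⁻¹ * (u ^ p ^ j) x ∈ P}
             one_mem' := by simp [one_mem]
             mul_mem' := by
              intro a b ha hb
              have ha' : (u ^ p ^ j) a = a * ⟨_, le_sup_left (α := Subgroup Ω) ha⟩ :=
                Subtype.ext (by simp)
              show ((a * b : R) : Ω)⁻¹ * (u ^ p ^ j) (a * b) ∈ P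
              have hbP : ((b : R) : Ω) ∈ Subgroup.normalizer (P : Set Ω) := by
                have : R ≤ Subgroup.normalizer (P : Set Ω) := sup_le Subgroup.le_normalizer
                  ((centralizerIn_antitone hPT).trans
                    ((H85.centralizerIn_le_normalizerIn P).trans inf_le_right))
                exact this b.2
              rw [map_mul, ha', Subgroup.coe_mul, Subgroup.coe_mul, Subgroup.coe_mul]
              rw [show ((a : Ω) * b)⁻¹ * ((a : Ω) * ((a : Ω)⁻¹ * ((u ^ p ^ j) a : R)) *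
                ((u ^ p ^ j) b : R)) = ((b : Ω)⁻¹ * ((a : Ω)⁻¹ * ((u ^ p ^ j) a : R)) * b) *
                ((b : Ω)⁻¹ * ((u ^ p ^ j) b : R)) by group]
              exact mul_mem (H85.conj_mem_of_mem_normalizer' hbP ha) hb
             inv_mem' := by
              intro a ha
              have haP : ((a : R) : Ω) ∈ Subgroup.normalizer (P : Set Ω) := by
                have : R ≤ Subgroup.normalizer (P : Set Ω) := sup_le Subgroup.le_normalizer
                  ((centralizerIn_antitone hPT).trans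
                    ((H85.centralizerIn_le_normalizerIn P).trans inf_le_right))
                exact this a.2
              show ((a⁻¹ : R) : Ω)⁻¹ * (u ^ p ^ j) a⁻¹ ∈ P
              rw [map_inv, Subgroup.coe_inv, Subgroup.coe_inv, inv_inv,
                show (a : Ω) * (((u ^ p ^ j) a : R) : Ω)⁻¹ =
                  (a : Ω) * ((a : Ω)⁻¹ * ((u ^ p ^ j) a : R))⁻¹ * (a : Ω)⁻¹ by group]
              exact H85.conj_mem_of_mem_normalizer haP (inv_mem ha) } : Subgroup R) := by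
        refine sup_le ?_ ?_
        · intro z hz
          refine ⟨⟨z, le_sup_left (α := Subgroup Ω) hz⟩, ?_, rfl⟩
          show z⁻¹ * ((u ^ p ^ j) ⟨z, _⟩ : R) ∈ P
          rw [hfix _ hz]
          simp [one_mem]
        · exact fun z hz => ⟨⟨z, le_sup_right (α := Subgroup Ω) hz⟩, hv.2.2 _ hz, rfl⟩
      obtain ⟨z, hz, hzx⟩ := hle x.2
      exact (Subtype.ext hzx : z = x) ▸ hz
    obtain ⟨l, hl⟩ := H85.aut_isPElement (hS.to_le hR) (u ^ p ^ j) hfix hquot
    exact ⟨j + l, Subtype.ext (by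
      show u ^ p ^ (j + l) = 1
      rw [pow_add, pow_mul]
      exact hl)⟩
  have hfM : ∀ u ∈ M, f * u * f⁻¹ ∈ M := by
    rintro u ⟨hu, ⟨y, hy, hyu⟩, huC⟩
    have hfinv : ∀ x : R, (x : Ω) ∈ P → f⁻¹ x = x := fun x hx => by
      conv_lhs => rw [← (Subtype.ext (hfP x hx) : f x = x), MulAut.inv_apply_self]
    refine ⟨mul_mem (mul_mem hf hu) (inv_mem hf), ⟨y, hy, fun x hx => ?_⟩, fun x hx => ?_⟩
    · have h1 : ((u x : R) : Ω) ∈ P := by
        rw [hyu x hx]
        exact H85.conj_mem_of_mem_normalizer hy.2 hx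
      rw [MulAut.mul_apply, MulAut.mul_apply, hfinv x hx, hfP _ h1, hyu x hx]
    · -- `u` is trivial modulo `P` on all of `R`
      have hRP : R ≤ Subgroup.normalizer (P : Set Ω) := sup_le Subgroup.le_normalizer
        ((centralizerIn_antitone hPT).trans
          ((H85.centralizerIn_le_normalizerIn P).trans inf_le_right))
      have hcoset : R ≤ (P.subgroupOf R).map R.subtype ⊔ C := sup_le
        (le_sup_of_le_left (fun z hz => ⟨⟨z, le_sup_left (α := Subgroup Ω) hz⟩, hz, rfl⟩))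
        le_sup_right
      have hnorm : C ≤ Subgroup.normalizer (P : Set Ω) := (centralizerIn_antitone hPT).trans
        ((H85.centralizerIn_le_normalizerIn P).trans inf_le_right)
      obtain ⟨q, hq, c, hc, hqc⟩ : ∃ q ∈ P, ∃ c ∈ C, q * c = ((f⁻¹ x : R) : Ω) := by
        have h1 : ((f⁻¹ x : R) : Ω) ∈ C ⊔ P := sup_comm P C ▸ (f⁻¹ x).2
        rw [← SetLike.mem_coe, sup_comm, Subgroup.coe_mul_of_right_le_normalizer_left _ _ hnorm]
          at h1
        exact h1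
      let q' : R := ⟨q, le_sup_left (α := Subgroup Ω) hq⟩
      let c' : R := ⟨c, le_sup_right (α := Subgroup Ω) hc⟩
      have hx' : x = q' * f c' := by
        have : f⁻¹ x = q' * c' := Subtype.ext hqc.symm
        rw [← MulAut.apply_inv_self _ f x, this, map_mul, (Subtype.ext (hfP q' hq) : f q' = q')]
      have hw : (c' : Ω)⁻¹ * u c' ∈ P := huC c' hc
      let w : R := ⟨_, le_sup_left (α := Subgroup Ω) hw⟩
      have hq2 : ((u q' : R) : Ω) ∈ P := by
        rw [hyu q' hq]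
        exact H85.conj_mem_of_mem_normalizer hy.2 hq
      have huc : u c' = c' * w := Subtype.ext (by simp [w])
      have hfin : (f * u * f⁻¹) x = u q' * f c' * w := by
        rw [MulAut.mul_apply, MulAut.mul_apply]
        have h0 : f⁻¹ x = q' * c' := Subtype.ext hqc.symm
        rw [h0, map_mul, map_mul, huc, map_mul, (Subtype.ext (hfP _ hq2) : f (u q') = u q'),
          (Subtype.ext (hfP w hw) : f w = w), mul_assoc]
      rw [hfin, hx', Subgroup.coe_mul, Subgroup.coe_mul, Subgroup.coe_mul]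
      rw [show ((q' : Ω) * (f c' : R))⁻¹ * (((u q' : R) : Ω) * (f c' : R) * (w : Ω)) =
        ((f c' : R) : Ω)⁻¹ * ((q' : Ω)⁻¹ * (u q' : R)) * (f c' : R) * (w : Ω) by group]
      exact mul_mem (H85.conj_mem_of_mem_normalizer' (hRP (f c').2) (mul_mem (inv_mem hq) hq2)) hw
  -- move to a fully normalized conjugate of `R`
  obtain ⟨R₀, hRR₀, hR₀⟩ := H85.exists_fullyNormalized F hR
  obtain ⟨e, he⟩ := H85.isConj_iff.1 hRR₀
  have hMe : M.map (MulAut.congr e).toMonoidHom ≤ F.autGroup R₀ := by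
    rintro _ ⟨u, hu, rfl⟩
    exact (H85.mem_autGroup hR₀.1).2
      (((he.symm.trans ((H85.mem_autGroup hR).1 (hMA hu))).trans he).congr fun _ => rfl)
  obtain ⟨δ, hδ, hδM⟩ := H85.fullyAutomized_conj
    (H85.fullyAutomized_of_fullyNormalized hS hF hR₀) hMe (hMp.map _)
  set h' : R ≃* R₀ := e.trans δ with hh'def
  have hh' : H85.IsFIso F h' := he.trans ((H85.mem_autGroup hR₀.1).1 hδ)
  have hconjM : ∀ u ∈ M, ∃ s ∈ S, ∀ x : R, (h' (u x) : Ω) = s * h' x * s⁻¹ := by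
    intro u hu
    obtain ⟨s, hs, hse⟩ := H85.mem_autInducedBy.1 (hδM _ ⟨u, hu, rfl⟩)
    refine ⟨s, hs, fun x => Eq.trans ?_ (hse (h' x))⟩
    show _ = (((δ * MulAut.congr e u * δ⁻¹ : MulAut R₀) (δ (e x)) : R₀) : Ω)
    rw [MulAut.mul_apply, MulAut.mul_apply, MulAut.inv_apply_self]
    show _ = ((δ (e (u (e.symm (e x)))) : R₀) : Ω)
    rw [MulEquiv.symm_apply_apply]
    rfl
  have hfF : H85.IsFIso F (f : MulAut R) := (H85.mem_autGroup hR).1 hf
  have hh'' : H85.IsFIso F ((f : R ≃* R).trans h') := hfF.trans hh'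
  have hrec := H85.receptive_of_fullyNormalized hS hF hR₀
  have hYR : ∀ y ∈ Y, ∀ x : R, y * (x : Ω) * y⁻¹ ∈ R := by
    intro y hy x
    have hle : R ≤ R.comap (MulAut.conj y).toMonoidHom := sup_le
      (fun z hz => le_sup_left (α := Subgroup Ω) (H85.conj_mem_of_mem_normalizer hy.2 hz))
      (fun z hz => le_sup_right (α := Subgroup Ω) (by
        show y * z * y⁻¹ ∈ C
        rw [hYC y (hYT hy) z hz]
        exact hz))
    exact hle x.2
  have hcy : ∀ y (hy : y ∈ Y), ∃ u ∈ M, ∀ x : R, (u x : Ω) = y * x * y⁻¹ := by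
    intro y hy
    have hu : H85.conjAut S R ⟨y, hTS (hYT hy),
        H85.mem_normalizer_of_conj fun z hz => hYR y hy ⟨z, hz⟩⟩ ∈ F.autGroup R :=
      conjAut_mem F hR _
    refine ⟨_, ⟨hu, ⟨y, hy, fun x _ => rfl⟩, fun x hx => ?_⟩, fun x => rfl⟩
    show (x : Ω)⁻¹ * (y * x * y⁻¹) ∈ P
    rw [hYC y (hYT hy) x hx, inv_mul_cancel]
    exact one_mem _
  have hY1 : Y ≤ extender S R (R₀.subtype.comp h'.toMonoidHom) := by
    intro y hy
    refine H85.mem_extender.2 ⟨hTS (hYT hy),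
      H85.mem_normalizer_of_conj fun z hz => hYR y hy ⟨z, hz⟩, ?_⟩
    obtain ⟨u, hu, hue⟩ := hcy y hy
    obtain ⟨s, hs, hse⟩ := hconjM u hu
    exact ⟨s, hs, fun x hx => (congrArg (fun z => (h' z : Ω)) (Subtype.ext (hue x).symm)).trans
      (hse x)⟩
  have hY2 : Y ≤ extender S R (R₀.subtype.comp ((f : R ≃* R).trans h').toMonoidHom) := by
    intro y hy
    refine H85.mem_extender.2 ⟨hTS (hYT hy),
      H85.mem_normalizer_of_conj fun z hz => hYR y hy ⟨z, hz⟩, ?_⟩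
    obtain ⟨u, hu, hue⟩ := hcy y hy
    obtain ⟨s, hs, hse⟩ := hconjM _ (hfM u hu)
    refine ⟨s, hs, fun x hx => ?_⟩
    have h1 := hse (f x)
    rw [MulAut.mul_apply, MulAut.mul_apply, MulAut.inv_apply_self] at h1
    exact (congrArg (fun z => (h' (f z) : Ω)) (Subtype.ext (hue x).symm)).trans h1
  obtain ⟨ψ₁, hψ₁, hext₁⟩ := H85.receptive_extend hrec hh'
  obtain ⟨ψ₂, hψ₂, hext₂⟩ := H85.receptive_extend hrec hh''
  set D := Y ⊔ C with hDdef
  have hCR : C ≤ R := le_sup_right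
  have hRD : R ≤ D := sup_le (hPY.trans le_sup_left) le_sup_right
  have hD1 : D ≤ extender S R (R₀.subtype.comp h'.toMonoidHom) :=
    sup_le hY1 (hCR.trans (H85.le_extender hR fun x => H85.map_mem hh' x))
  have hD2 : D ≤ extender S R (R₀.subtype.comp ((f : R ≃* R).trans h').toMonoidHom) :=
    sup_le hY2 (hCR.trans (H85.le_extender hR fun x => H85.map_mem hh'' x))
  set φ₁ := ψ₁.comp (Subgroup.inclusion hD1) with hφ₁def
  set φ₂ := ψ₂.comp (Subgroup.inclusion hD2) with hφ₂def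
  have hφ₁ : φ₁ ∈ F.Hom D := H85.restrict hψ₁ hD1
  have hφ₂ : φ₂ ∈ F.Hom D := H85.restrict hψ₂ hD2
  have he₁ : ∀ x : R, φ₁ (Subgroup.inclusion hRD x) = h' x := fun x => hext₁ x x.2 _
  have he₂ : ∀ x : R, φ₂ (Subgroup.inclusion hRD x) = h' (f x) := fun x => hext₂ x x.2 _
  have hPD : P ≤ D := hPY.trans le_sup_left
  have hYD : Y ≤ D := le_sup_left
  have h12P : ∀ x : D, (x : Ω) ∈ P → φ₂ x = φ₁ x := by
    intro x hx
    rw [show x = Subgroup.inclusion hRD ⟨(x : Ω), le_sup_left (α := Subgroup Ω) hx⟩ from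
      Subtype.ext rfl, he₁, he₂, (Subtype.ext (hfP _ hx) : f ⟨(x : Ω), _⟩ = ⟨(x : Ω), _⟩)]
  have hc₀ : E.IsCentric (H85.img φ₁ P) := centric_of_conj hE hP (H85.isConj_img hφ₁ hPD)
  have hzY : ∀ y : D, (y : Ω) ∈ Y → ∃ z : D, (z : Ω) ∈ P ∧ φ₂ y = φ₁ (y * z) := by
    intro y hy
    have hT1 : φ₁ y ∈ T := hTc.2 Y hYT _ (H85.restrict hφ₁ hYD) ⟨y, hy⟩
    have hT2 : φ₂ y ∈ T := hTc.2 Y hYT _ (H85.restrict hφ₂ hYD) ⟨y, hy⟩
    have hmem : (φ₁ y)⁻¹ * φ₂ y ∈ centralizerIn T (H85.img φ₁ P) := by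
      refine H85.mem_centralizerIn.2 ⟨mul_mem (inv_mem hT1) hT2, ?_⟩
      intro w hw
      obtain ⟨x, hx, rfl⟩ := H85.mem_img.1 hw
      have hyx : ((y * x * y⁻¹ : D) : Ω) ∈ P := H85.conj_mem_of_mem_normalizer hy.2 hx
      have h1 := h12P _ hyx
      rw [map_mul, map_mul, map_inv, map_mul, map_mul, map_inv, h12P x hx] at h1
      calc φ₁ x * ((φ₁ y)⁻¹ * φ₂ y) = (φ₁ y)⁻¹ * (φ₁ y * φ₁ x * (φ₁ y)⁻¹) * φ₂ y := by group
        _ = (φ₁ y)⁻¹ * (φ₂ y * φ₁ x * (φ₂ y)⁻¹) * φ₂ y := by rw [h1]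
        _ = (φ₁ y)⁻¹ * φ₂ y * φ₁ x := by group
    obtain ⟨z, hz, hze⟩ := H85.mem_img.1 (H85.centric_self hc₀ hmem)
    exact ⟨z, hz, by rw [map_mul, hze, mul_inv_cancel_left]⟩
  have hle : D ≤ (φ₁.range.comap φ₂).map D.subtype := by
    refine sup_le ?_ ?_
    · intro y hy
      obtain ⟨z, -, hz⟩ := hzY ⟨y, hYD hy⟩ hy
      exact ⟨⟨y, hYD hy⟩, ⟨_, hz.symm⟩, rfl⟩
    · intro c hc
      exact ⟨Subgroup.inclusion hRD ⟨c, le_sup_right (α := Subgroup Ω) hc⟩,
        ⟨Subgroup.inclusion hRD (f ⟨c, le_sup_right (α := Subgroup Ω) hc⟩),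
          (he₁ _).trans (he₂ _).symm⟩, rfl⟩
  have hval : ∀ x : D, φ₂ x ∈ φ₁.range := fun x => by
    obtain ⟨y, hy, hyx⟩ := hle x.2
    exact (Subtype.ext hyx : y = x) ▸ hy
  let i₁ := H85.isoOf φ₁ hφ₁ rfl
  have hDS : D ≤ S := H85.source_le hφ₁
  have : Finite D := H85.finite_of_le hDS
  have hχ : D.subtype.comp (i₁.symm.toMonoidHom.comp (φ₂.codRestrict _ hval)) ∈ F.Hom D :=
    H85.hom_congr (F.comp_mem hφ₂ (H85.isFIso_isoOf φ₁ hφ₁ rfl).symm hval) fun _ => rfl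
  have hχr : (D.subtype.comp (i₁.symm.toMonoidHom.comp (φ₂.codRestrict _ hval))).range = D :=
    range_eq_self_of_le F hχ (by rintro _ ⟨x, rfl⟩; exact SetLike.coe_mem _)
  set χ : MulAut D := autOfHom _ (F.injective_of_mem hχ) hχr with hχdef
  have hχA : χ ∈ F.autGroup D := autOfHom_mem F hχ hχr
  have hχeq : ∀ x : D, φ₁ (χ x) = φ₂ x := fun x =>
    congrArg Subtype.val (i₁.apply_symm_apply ⟨φ₂ x, hval x⟩)
  have hχR : ∀ x : R, χ (Subgroup.inclusion hRD x) = Subgroup.inclusion hRD (f x) := fun x =>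
    F.injective_of_mem hφ₁ ((hχeq _).trans ((he₂ x).trans (he₁ _).symm))
  have hχP : ∀ x : D, (x : Ω) ∈ P → χ x = x := fun x hx =>
    F.injective_of_mem hφ₁ ((hχeq x).trans (h12P x hx))
  obtain ⟨l, hl⟩ := IsPGroup.iff_card.1 (hS.to_le hPS)
  have hfixY : ∀ y : D, (y : Ω) ∈ Y → (χ ^ p ^ l) y = y := by
    intro y hy
    obtain ⟨z, hz, hze⟩ := hzY y hy
    have h1 : χ y = y * z := F.injective_of_mem hφ₁ ((hχeq y).trans hze)
    have hk : ∀ k : ℕ, (χ ^ k) y = y * z ^ k := by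
      intro k
      induction k with
      | zero => simp
      | succ k ihk =>
        rw [pow_succ', MulAut.mul_apply, ihk, map_mul, h1, map_pow, hχP z hz, pow_succ', mul_assoc]
    have hzp : z ^ p ^ l = 1 := by
      refine Subtype.ext ?_
      show (z : Ω) ^ p ^ l = 1
      have := pow_card_eq_one' (G := P) (x := ⟨(z : Ω), hz⟩)
      rw [hl] at this
      exact congrArg Subtype.val this
    rw [hk, hzp, mul_one]
  have hpowR : ∀ (k : ℕ) (x : R),
      (χ ^ k) (Subgroup.inclusion hRD x) = Subgroup.inclusion hRD ((f ^ k) x) := by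
    intro k
    induction k with
    | zero => intro x; rfl
    | succ k ihk =>
      intro x
      rw [pow_succ', pow_succ', MulAut.mul_apply, MulAut.mul_apply, ihk, hχR]
  obtain ⟨i, m, hm, him⟩ := Nat.exists_eq_pow_mul_and_not_dvd (orderOf_pos (χ ^ p ^ l)).ne' p
    (Nat.Prime.ne_one Fact.out)
  set g : MulAut D := (χ ^ p ^ l) ^ p ^ i with hgdef
  have hgord : ¬ p ∣ orderOf g := by
    rw [hgdef, orderOf_pow_of_dvd (pow_ne_zero _ (Nat.Prime.ne_zero Fact.out))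
      (him ▸ dvd_mul_right _ _), him, Nat.mul_div_cancel_left _
      (Nat.pow_pos (Nat.Prime.pos Fact.out))]
    exact hm
  have hgY : ∀ x : D, (x : Ω) ∈ Y → (g x : Ω) = x := by
    intro x hx
    have : ∀ k : ℕ, ((χ ^ p ^ l) ^ k) x = x := by
      intro k
      induction k with
      | zero => rfl
      | succ k ihk => rw [pow_succ', MulAut.mul_apply, ihk, hfixY x hx]
    exact congrArg Subtype.val (this _)
  have hcardY : Nat.card P < Nat.card Y := card_lt_card_normalizerIn (hS.to_le hTS) le_rfl hlt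
  have : Nat.card Y ≤ Nat.card T := Subgroup.card_le_of_le hYT
  obtain ⟨γ, hγ, hγT, hγC⟩ := ihn (Nat.card T - Nat.card Y) (by omega) Y
    (H85.centric_mono hP hPY hYT) le_rfl g (pow_mem (pow_mem hχA _) _) hgY hgord
  have hcop : Nat.Coprime (p ^ (l + i)) (orderOf f) :=
    Nat.Coprime.pow_left _ ((Nat.Prime.coprime_iff_not_dvd Fact.out).2 hord)
  obtain ⟨s, hs⟩ : ∃ s : ℕ, (f ^ p ^ (l + i)) ^ s = f := exists_pow_eq_self_of_coprime hcop
  have hγCC : ∀ c : ↥(T ⊔ C), (c : Ω) ∈ C → (γ c : Ω) ∈ C := by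
    intro c hc
    have hR' : T ⊔ C ≤ S := sup_le hTS hCS
    refine H85.mem_centralizerIn.2 ⟨hR' (γ c).2,
      centralizerIn_mapsTo ((T ⊔ C).subtype.comp γ.toMonoidHom) le_sup_left hγT c
        (H85.mem_centralizerIn.1 hc).2⟩
  refine ⟨γ ^ s, pow_mem hγ _, fun x hx => ?_, fun c hc => ?_⟩
  · have : ∀ k : ℕ, (γ ^ k) x = x := by
      intro k
      induction k with
      | zero => rfl
      | succ k ihk => rw [pow_succ', MulAut.mul_apply, ihk]; exact Subtype.ext (hγT x hx)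
    exact congrArg Subtype.val (this s)
  · have hfk : ∀ x : R, (x : Ω) ∈ P → ((f ^ p ^ (l + i)) x : Ω) = x := by
      intro x hx
      have : ∀ k : ℕ, (f ^ k) x = x := by
        intro k
        induction k with
        | zero => rfl
        | succ k ihk => rw [pow_succ', MulAut.mul_apply, ihk]; exact Subtype.ext (hfP x hx)
      exact congrArg Subtype.val (this _)
    have h := (pow_congr (γ := γ) (f := f ^ p ^ (l + i)) hTS le_sup_right le_sup_right le_sup_left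
      hR hPT hTP hγCC hfk (fun c hc => ?_) s c hc).2
    · rw [hs] at h
      exact h
    have h1 := hγC c hc
    rw [hgdef, ← pow_mul, ← pow_add] at h1
    have h2 := congrArg (fun z : D => (z : Ω))
      (hpowR (p ^ (l + i)) ⟨c, le_sup_right (α := Subgroup Ω) hc⟩)
    exact h2 ▸ h1

end H86
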