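import Cfsg.Agent.H86.ExtAll
import Cfsg.Agent.H86.Quotient
import Cfsg.Agent.H86.Hyperfocal
import Cfsg.Agent.H85.Systems
import Cfsg.Agent.H85.Alperin

/-! The largest subgroup of `C_S(T)` centralized by a normal subsystem, and its strong closure. -/

set_option autoImplicit false

open Cfsg Cfsg.FusionSystem
open scoped Pointwise

namespace H86

variable {Ω : Type*} [Group Ω] {S T : Subgroup Ω} [Finite S] {p : ℕ} [Fact p.Prime]
  {F : FusionSystem S} {E : FusionSystem T}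

omit [Finite S] in
theorem centralizerIn_T_le_pc {P : Subgroup Ω} (hP : P ≤ T) : centralizerIn S T ≤ pc S P :=
  (centralizerIn_antitone hP).trans le_sup_right

/-- An extension of order prime to `p`. -/
theorem exists_coprime_ext (hS : IsPGroup p S) (hE : E.IsNormalIn F p) {P : Subgroup Ω}
    (hP : E.IsCentric P) {a : MulAut P} (ha : a ∈ E.autGroup P)
    (hc : Nat.Coprime (orderOf a) p) :
    ∃ f ∈ F.autGroup (pc S P), f ∈ trivMod P (pc S P) ∧ Nat.Coprime (orderOf f) p ∧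
      ∀ x : P, (f (Subgroup.inclusion le_sup_left x) : Ω) = a x := by
  obtain ⟨f, hf, hft, hfe⟩ := extAt_normal hS hE hP a ha
  have hPS : P ≤ S := hP.1.trans hE.1.2.2.2.1.1
  have := H85.finite_autGroup F (pc_le hPS)
  obtain ⟨n, hn, han⟩ := exists_exp_coprime (⟨f, hf⟩ : F.autGroup (pc S P)) a hc
  rw [← Subgroup.orderOf_coe] at hn
  refine ⟨f ^ n, pow_mem hf n, pow_mem hft n, hn, fun x => ?_⟩
  have hk : ∀ k : ℕ, ∀ x : P, (f ^ k) (Subgroup.inclusion le_sup_left x) =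
      Subgroup.inclusion le_sup_left ((a ^ k) x) := by
    intro k
    induction k with
    | zero => intro x; rfl
    | succ k ih =>
      intro x
      rw [pow_succ', pow_succ', MulAut.mul_apply, MulAut.mul_apply, ih]
      exact Subtype.ext (hfe _)
  rw [hk, han]
  rfl

/-- The displacement of an automorphism fixing `P` is fixed by `Aut_E(P)`. -/
theorem kernel_fixed (hS : IsPGroup p S) (hE : E.IsNormalIn F p) {P D : Subgroup Ω}
    (hP : E.IsCentric P) (hPD : P ≤ D) (hDX : D ≤ pc S P) {u : MulAut D}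
    (hu : u ∈ F.autGroup D) (hut : u ∈ trivMod P D)
    (hfix : ∀ x : D, (x : Ω) ∈ P → u x = x) {d : D} (hd : (d : Ω) ∈ centralizerIn S P)
    {a : MulAut P} (ha : a ∈ E.autGroup P) (z : P) (hz : (z : Ω) = (d : Ω)⁻¹ * u d) :
    a z = z := by
  have hW := hE.1
  have hTS := hW.2.2.2.1.1
  have hPS : P ≤ S := hP.1.trans hTS
  have hDS : D ≤ S := hDX.trans (pc_le hPS)
  have : Finite D := H85.finite_of_le hDS
  obtain ⟨j, hj⟩ := pow_eq_one_trivMod (hS.to_le hDS) hut hfix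
  have hpow : ∃ k : ℕ, orderOf u = p ^ k := by
    obtain ⟨k, -, hk⟩ := (Nat.dvd_prime_pow Fact.out).1 (orderOf_dvd_of_pow_eq_one hj)
    exact ⟨k, hk⟩
  obtain ⟨D₀, hDD₀, hD₀⟩ := H85.exists_fullyNormalized F hDS
  obtain ⟨e, he⟩ := H85.isConj_iff.1 hDD₀
  have hu₀ : MulAut.congr e u ∈ F.autGroup D₀ := (H85.mem_autGroup hD₀.1).2
    (((he.symm.trans ((H85.mem_autGroup hDS).1 hu)).trans he).congr fun _ => rfl)
  obtain ⟨γ, hγ, hc⟩ := H85.fullyAutomized_conj
    (H85.fullyAutomized_of_fullyNormalized hS hW.2.1 hD₀) (Subgroup.zpowers_le.2 hu₀)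
    (isPGroup_zpowers (by
      obtain ⟨k, hk⟩ := hpow
      exact ⟨k, (MulEquiv.orderOf_eq (MulAut.congr e) u).trans hk⟩))
  obtain ⟨s, hs, hse⟩ := H85.mem_autInducedBy.1 (hc _ (Subgroup.mem_zpowers _))
  set h : D ≃* D₀ := e.trans γ with hhdef
  have hh : H85.IsFIso F h := he.trans ((H85.mem_autGroup hD₀.1).1 hγ)
  have hhu : ∀ x : D, (h (u x) : Ω) = s * h x * s⁻¹ := by
    intro x
    refine Eq.trans ?_ (hse (h x))
    show _ = (((γ * MulAut.congr e u * γ⁻¹ : MulAut D₀) (γ (e x)) : D₀) : Ω)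
    rw [MulAut.mul_apply, MulAut.mul_apply, MulAut.inv_apply_self]
    show _ = ((γ (e (u (e.symm (e x)))) : D₀) : Ω)
    rw [MulEquiv.symm_apply_apply]
    rfl
  set g : D →* Ω := D₀.subtype.comp h.toMonoidHom
  let eP := H85.resIso g (F.injective_of_mem hh) hPD
  have heP : H85.IsFIso F eP := H85.isFIso_resIso hh hPD
  have hP₀c : E.IsCentric (H85.img g P) := centric_of_conj hW hP (H85.isConj_img hh hPD)
  have hePv : ∀ x : P, (eP x : Ω) = h (Subgroup.inclusion hPD x) := fun x => rfl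
  have ha₀ := autGroup_transport hW hP.1 hP₀c.1 heP ha
  obtain ⟨f, hf, hft, hfe⟩ := extAt_normal hS hE hP₀c _ ha₀
  have hsW : s ∈ centralizerIn S (H85.img g P) := by
    refine H85.mem_centralizerIn.2 ⟨hs, fun y hy => ?_⟩
    obtain ⟨x, hx, rfl⟩ := H85.mem_img.1 hy
    have h1 := hhu x
    rw [hfix x hx] at h1
    show (h x : Ω) * s = s * h x
    exact eq_mul_inv_iff_mul_eq.1 h1
  have hdW : (h d : Ω) ∈ centralizerIn S (H85.img g P) :=
    H85.extend_maps_centralizer (e := eP) (ψ := g) hPD (fun x => rfl) (hh.map_mem d) hd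
  have hfW : ∀ v : pc S (H85.img g P), (v : Ω) ∈ centralizerIn S (H85.img g P) →
      (f v : Ω) ∈ centralizerIn S (H85.img g P) := by
    intro v hv
    refine H85.mem_centralizerIn.2 ⟨pc_le (hP₀c.1.trans hTS) (f v).2, fun y hy => ?_⟩
    obtain ⟨x, hx⟩ := (MulAut.congr eP a).surjective ⟨y, hy⟩
    have h1 : Subgroup.inclusion le_sup_left x * v = v * Subgroup.inclusion le_sup_left x :=
      Subtype.ext ((H85.mem_centralizerIn.1 hv).2 x x.2)
    have h2 := congrArg (fun w => ((f w : pc S (H85.img g P)) : Ω)) h1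
    simp only [map_mul, Subgroup.coe_mul, hfe, hx] at h2
    exact h2
  have hzP : (h d : Ω)⁻¹ * s * h d * s⁻¹ = eP z := by
    rw [hePv, show Subgroup.inclusion hPD z = d⁻¹ * u d from Subtype.ext hz, map_mul, map_inv,
      Subgroup.coe_mul, Subgroup.coe_inv, hhu]
    group
  let sX : pc S (H85.img g P) := ⟨s, Subgroup.mem_sup_right hsW⟩
  let dX : pc S (H85.img g P) := ⟨h d, Subgroup.mem_sup_right hdW⟩
  have hcent : ∀ v : pc S (H85.img g P), (v : Ω) ∈ centralizerIn S (H85.img g P) →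
      ∃ q ∈ H85.img g P, (∀ y ∈ H85.img g P, y * q = q * y) ∧ (f v : Ω) = v * q := by
    intro v hv
    exact ⟨_, hft v, (H85.mem_centralizerIn.1 (mul_mem (inv_mem hv) (hfW v hv))).2,
      (mul_inv_cancel_left _ _).symm⟩
  obtain ⟨q, hq, hqC, hfd⟩ := hcent dX hdW
  obtain ⟨r, hr, hrC, hfs⟩ := hcent sX hsW
  have h1 : Subgroup.inclusion le_sup_left (eP z) = dX⁻¹ * sX * dX * sX⁻¹ := Subtype.ext hzP.symm
  have h2 := hfe (eP z)
  rw [h1, map_mul, map_mul, map_mul, map_inv, map_inv, Subgroup.coe_mul, Subgroup.coe_mul,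
    Subgroup.coe_mul, Subgroup.coe_inv, Subgroup.coe_inv, hfd, hfs] at h2
  have hqs : q * s = s * q := (H85.mem_centralizerIn.1 hsW).2 q hq
  have hqd : q * (h d : Ω) = h d * q := (H85.mem_centralizerIn.1 hdW).2 q hq
  have hrd : r * (h d : Ω) = h d * r := (H85.mem_centralizerIn.1 hdW).2 r hr
  have hqr : q * r = r * q := hrC q hq
  have h3 : ((h d : Ω) * q)⁻¹ * (s * r) * ((h d : Ω) * q) * (s * r)⁻¹ =
      (h d : Ω)⁻¹ * s * h d * s⁻¹ := by
    calc ((h d : Ω) * q)⁻¹ * (s * r) * ((h d : Ω) * q) * (s * r)⁻¹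
        = q⁻¹ * (h d : Ω)⁻¹ * s * ((r * h d) * q) * r⁻¹ * s⁻¹ := by group
      _ = q⁻¹ * (h d : Ω)⁻¹ * s * h d * (r * q) * r⁻¹ * s⁻¹ := by rw [hrd]; group
      _ = q⁻¹ * (h d : Ω)⁻¹ * s * ((h d : Ω) * q) * s⁻¹ := by rw [← hqr]; group
      _ = q⁻¹ * (h d : Ω)⁻¹ * ((s * q) * h d) * s⁻¹ := by rw [← hqd]; group
      _ = q⁻¹ * ((h d : Ω)⁻¹ * q) * s * h d * s⁻¹ := by rw [← hqs]; group
      _ = (h d : Ω)⁻¹ * s * h d * s⁻¹ := by
        rw [show (h d : Ω)⁻¹ * q = q * (h d : Ω)⁻¹ by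
          rw [eq_mul_inv_iff_mul_eq, mul_assoc, hqd, inv_mul_cancel_left]]
        group
  rw [show (dX : Ω) = h d from rfl, show (sX : Ω) = s from rfl, h3, hzP] at h2
  have h4 : MulAut.congr eP a (eP z) = eP z := Subtype.ext h2.symm
  have h5 : eP (a z) = eP z := by
    rw [← h4]
    show _ = eP (a (eP.symm (eP z)))
    rw [MulEquiv.symm_apply_apply]
  exact eP.injective h5

/-- Uniqueness of extensions of order prime to `p`. -/
theorem ext_unique (hS : IsPGroup p S) (hE : E.IsNormalIn F p) {P D : Subgroup Ω}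
    (hP : E.IsCentric P) (hPD : P ≤ D) (hDX : D ≤ pc S P) {a : MulAut P} (ha : a ∈ E.autGroup P)
    {b c : MulAut D} (hb : b ∈ F.autGroup D) (hc : c ∈ F.autGroup D) (hbt : b ∈ trivMod P D)
    (hct : c ∈ trivMod P D) (hbo : Nat.Coprime (orderOf b) p) (hco : Nat.Coprime (orderOf c) p)
    (hba : ∀ x : P, (b (Subgroup.inclusion hPD x) : Ω) = a x)
    (hca : ∀ x : P, (c (Subgroup.inclusion hPD x) : Ω) = a x) : b = c := by
  have hPS : P ≤ S := hP.1.trans hE.1.2.2.2.1.1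
  have hDS : D ≤ S := hDX.trans (pc_le hPS)
  have : Finite D := H85.finite_of_le hDS
  set u := b⁻¹ * c with hudef
  have hut : u ∈ trivMod P D := mul_mem (inv_mem hbt) hct
  have huF : u ∈ F.autGroup D := mul_mem (inv_mem hb) hc
  have hfix : ∀ x : D, (x : Ω) ∈ P → u x = x := by
    intro x hx
    rw [hudef, MulAut.mul_apply]
    apply b.injective
    rw [MulAut.apply_inv_self]
    refine Subtype.ext ?_
    rw [show x = Subgroup.inclusion hPD (⟨(x : Ω), hx⟩ : P) from Subtype.ext rfl, hba, hca]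
  have hcomm : Commute b u := by
    refine MulEquiv.ext fun x => ?_
    obtain ⟨q, hq, w, hw, hqw⟩ := mem_pc (hDX x.2)
    have hwD : w ∈ D := by
      have := D.mul_mem (D.inv_mem (hPD hq)) x.2
      rwa [← hqw, inv_mul_cancel_left] at this
    have hgen : ∀ y : D, ((y : Ω) ∈ P ∨ (y : Ω) ∈ centralizerIn S P) → b (u y) = u (b y) := by
      rintro y (hy | hy)
      · rw [hfix y hy, hfix (b y)]
        rw [show y = Subgroup.inclusion hPD (⟨(y : Ω), hy⟩ : P) from Subtype.ext rfl, hba]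
        exact SetLike.coe_mem _
      · let z : P := ⟨_, hut y⟩
        let v : P := ⟨_, hbt y⟩
        have huy : u y = y * Subgroup.inclusion hPD z := Subtype.ext (by simp [z])
        have hby : b y = y * Subgroup.inclusion hPD v := Subtype.ext (by simp [v])
        have haz : a z = z := kernel_fixed hS hE hP hPD hDX huF hut hfix hy ha z rfl
        have hzc : Subgroup.inclusion hPD v * Subgroup.inclusion hPD z =
            Subgroup.inclusion hPD z * Subgroup.inclusion hPD v := by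
          have hyc : ∀ r : P, Subgroup.inclusion hPD r * y = y * Subgroup.inclusion hPD r :=
            fun r => Subtype.ext ((H85.mem_centralizerIn.1 hy).2 r r.2)
          have h1 := congrArg (fun w => u w) (hyc v)
          simp only [map_mul, huy, hfix (Subgroup.inclusion hPD v) v.2] at h1
          rw [← mul_assoc, hyc, mul_assoc, mul_assoc] at h1
          exact mul_left_cancel h1
        rw [huy, map_mul, hby, map_mul, huy, hfix (Subgroup.inclusion hPD v) v.2,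
          show b (Subgroup.inclusion hPD z) = Subgroup.inclusion hPD z from
            Subtype.ext ((hba z).trans (congrArg Subtype.val haz)), mul_assoc, mul_assoc, hzc]
    show b (u x) = u (b x)
    rw [show x = ⟨q, hPD hq⟩ * ⟨w, hwD⟩ from Subtype.ext hqw.symm, map_mul, map_mul, map_mul, map_mul,
      hgen ⟨q, hPD hq⟩ (Or.inl hq), hgen ⟨w, hwD⟩ (Or.inr hw)]
  obtain ⟨j, hj⟩ := pow_eq_one_trivMod (hS.to_le hDS) hut hfix
  have hbc : Commute b⁻¹ c := by
    have hcb : c = b * u := by rw [hudef, mul_inv_cancel_left]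
    rw [hcb]
    exact (((Commute.refl b).mul_right hcomm)).inv_left
  have h1 : Nat.Coprime (orderOf u) p := by
    refine Nat.Coprime.of_dvd_left hbc.orderOf_mul_dvd_lcm ?_
    rw [orderOf_inv]
    exact Nat.Coprime.of_dvd_left (Nat.lcm_dvd_mul _ _) (Nat.Coprime.mul_left hbo hco)
  have h2 : orderOf u = 1 :=
    Nat.eq_one_of_dvd_coprimes (Nat.Coprime.pow_right j h1) dvd_rfl (orderOf_dvd_of_pow_eq_one hj)
  exact inv_mul_eq_one.1 (orderOf_eq_one_iff.1 h2)

/-- The elements of `C_S(T)` fixed by all extensions of order prime to `p`. -/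
def centE (p : ℕ) (F : FusionSystem S) (E : FusionSystem T) : Subgroup Ω where
  carrier := {c | c ∈ centralizerIn S T ∧ ∀ P : Subgroup Ω, E.IsCentric P →
    ∀ a ∈ E.autGroup P, Nat.Coprime (orderOf a) p → ∀ f ∈ F.autGroup (pc S P),
      f ∈ trivMod P (pc S P) → Nat.Coprime (orderOf f) p →
      (∀ x : P, (f (Subgroup.inclusion le_sup_left x) : Ω) = a x) →
      ∀ x : pc S P, (x : Ω) = c → f x = x}
  one_mem' := ⟨one_mem _, fun P _ a _ _ f _ _ _ _ x hx => by
    rw [(Subtype.ext hx : x = 1), map_one]⟩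
  mul_mem' := by
    intro c d ⟨hc, hc'⟩ ⟨hd, hd'⟩
    refine ⟨mul_mem hc hd, fun P hP a ha hao f hf hft hfo hfe x hx => ?_⟩
    rw [show x = ⟨c, centralizerIn_T_le_pc hP.1 hc⟩ * ⟨d, centralizerIn_T_le_pc hP.1 hd⟩ from
      Subtype.ext hx, map_mul, hc' P hP a ha hao f hf hft hfo hfe _ rfl,
      hd' P hP a ha hao f hf hft hfo hfe _ rfl]
  inv_mem' := by
    intro c ⟨hc, hc'⟩
    refine ⟨inv_mem hc, fun P hP a ha hao f hf hft hfo hfe x hx => ?_⟩
    rw [show x = (⟨c, centralizerIn_T_le_pc hP.1 hc⟩ : pc S P)⁻¹ from Subtype.ext hx, map_inv,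
      hc' P hP a ha hao f hf hft hfo hfe _ rfl]

omit [Finite S] [Fact p.Prime] in
theorem centE_le : centE p F E ≤ centralizerIn S T := fun _ h => h.1

/-- `E` lies in the centralizer of `Y`. -/
abbrev Cent (F : FusionSystem S) (E : FusionSystem T) (Y : Subgroup Ω) : Prop :=
  ∀ P : Subgroup Ω, E.Hom P ⊆ F.centralizerHom Y P

theorem le_centE (hS : IsPGroup p S) (hE : E.IsNormalIn F p) {Y : Subgroup Ω}
    (hY : Y ≤ centralizerIn S T) (hc : Cent F E Y) : Y ≤ centE p F E := by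
  intro c hcY
  refine ⟨hY hcY, fun P hP a ha hao f hf hft hfo hfe x hx => ?_⟩
  have hPS : P ≤ S := hP.1.trans hE.1.2.2.2.1.1
  set D := P ⊔ Y with hDdef
  obtain ⟨-, -, -, ψ, hψ, hext, hYfix⟩ := hc P ((H85.mem_autGroup hP.1).1 ha)
  have hDX : D ≤ pc S P := sup_le le_sup_left (hY.trans (centralizerIn_T_le_pc hP.1))
  have hDS : D ≤ S := hDX.trans (pc_le hPS)
  have : Finite D := H85.finite_of_le hDS
  have : Finite P := H85.finite_of_le hPS
  have hr : ψ.range = D := range_eq_self_of_le F hψ (by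
    rintro _ ⟨z, rfl⟩
    have hle : D ≤ (D.comap ψ).map D.subtype := sup_le
      (fun w hw => ⟨Subgroup.inclusion le_sup_left ⟨w, hw⟩, show ψ _ ∈ D by
        rw [hext]; exact Subgroup.mem_sup_left (SetLike.coe_mem _), rfl⟩)
      (fun w hw => ⟨Subgroup.inclusion le_sup_right ⟨w, hw⟩, show ψ _ ∈ D by
        rw [hYfix]; exact Subgroup.mem_sup_right hw, rfl⟩)
    obtain ⟨w, hw, hwz⟩ := hle z.2
    exact (Subtype.ext hwz : w = z) ▸ hw)
  set χ := autOfHom ψ (F.injective_of_mem hψ) hr with hχdef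
  have hχt : χ ∈ trivMod P D := by
    refine trivMod_of_sup (hDX.trans (normalizes_pc P)) le_rfl le_sup_left le_sup_right
      (fun z hz => ?_) (fun z hz => ?_)
    · refine P.mul_mem (P.inv_mem hz) ?_
      show ψ z ∈ P
      rw [show z = Subgroup.inclusion le_sup_left (⟨(z : Ω), hz⟩ : P) from Subtype.ext rfl, hext]
      exact SetLike.coe_mem _
    · have h1 : ψ z = z := hYfix ⟨(z : Ω), hz⟩
      show (z : Ω)⁻¹ * ψ z ∈ P
      rw [h1, inv_mul_cancel]
      exact one_mem _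
  have := H85.finite_autGroup F hDS
  obtain ⟨n, hn, han⟩ := exists_exp_coprime (⟨χ, autOfHom_mem F hψ hr⟩ : F.autGroup D) a hao
  rw [← Subgroup.orderOf_coe] at hn
  obtain ⟨f', hf', hf't, hf'o, hf'e⟩ :=
    exists_res_trivMod (pc_le hPS) hf hft (le_sup_left : P ≤ D) hDX
  have hχn : ∀ k : ℕ, ∀ z : D, ((z : Ω) ∈ Y → (χ ^ k) z = z) ∧ ∀ hz : (z : Ω) ∈ P,
      ((χ ^ k) z : Ω) = (a ^ k) ⟨(z : Ω), hz⟩ := by
    intro k
    induction k with
    | zero => exact fun z => ⟨fun _ => rfl, fun _ => rfl⟩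
    | succ k ih =>
      intro z
      constructor
      · intro hz
        rw [pow_succ', MulAut.mul_apply, (ih z).1 hz]
        exact Subtype.ext (hYfix ⟨(z : Ω), hz⟩)
      · intro hz
        rw [pow_succ', pow_succ', MulAut.mul_apply, MulAut.mul_apply,
          show (χ ^ k) z = Subgroup.inclusion le_sup_left ((a ^ k) ⟨(z : Ω), hz⟩) from
            Subtype.ext ((ih z).2 hz)]
        exact hext _
  have heq : f' = χ ^ n := by
    refine ext_unique hS hE hP le_sup_left hDX ha hf' (pow_mem (autOfHom_mem F hψ hr) n) hf't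
      (pow_mem hχt n) (Nat.Coprime.of_dvd_left hf'o hfo) hn (fun z => ?_) (fun z => ?_)
    · exact (hf'e _).trans (hfe z)
    · rw [((hχn n _).2 z.2), han]
      rfl
  have hcD : c ∈ D := Subgroup.mem_sup_right hcY
  have h1 := hf'e ⟨c, hcD⟩
  rw [heq, (hχn n ⟨c, hcD⟩).1 hcY] at h1
  refine Subtype.ext ?_
  rw [show x = Subgroup.inclusion hDX (⟨c, hcD⟩ : D) from Subtype.ext hx, ← h1]
  rfl

theorem cent_centE (hS : IsPGroup p S) (hE : E.IsNormalIn F p) : Cent F E (centE p F E) := by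
  have hW := hE.1
  have hTS := hW.2.2.2.1.1
  have : Finite T := H85.finite_of_le hTS
  have hTp := hS.to_le hTS
  set C := centE p F E with hC
  have hCS : C ≤ S := centE_le.trans inf_le_left
  have hTC : T ≤ centralizerIn S C := fun t ht => H85.mem_centralizerIn.2
    ⟨hTS ht, fun c hc => ((H85.mem_centralizerIn.1 (centE_le hc)).2 t ht).symm⟩
  let CS := H85.centralizerSystem F C hCS
  let M : FusionSystem T :=
    { Hom := fun P => {φ | φ ∈ E.Hom P ∧ φ ∈ CS.Hom P}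
      le_of_mem := fun hφ => E.le_of_mem hφ.1
      injective_of_mem := fun hφ => E.injective_of_mem hφ.1
      conj_mem := fun hP hg => ⟨E.conj_mem hP hg, CS.conj_mem (hP.trans hTC) (hTC hg)⟩
      comp_mem := fun hφ hψ hh => ⟨E.comp_mem hφ.1 hψ.1 hh, CS.comp_mem hφ.2 hψ.2 hh⟩
      inv_mem := by
        intro P φ hφ
        obtain ⟨ψ, hψ, hx⟩ := E.inv_mem hφ.1
        obtain ⟨ψ', hψ', hx'⟩ := CS.inv_mem hφ.2
        refine ⟨ψ, ⟨hψ, ?_⟩, hx⟩
        refine H85.hom_congr hψ' ?_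
        rintro ⟨_, x, rfl⟩
        rw [hx' x, hx x] }
  suffices hle : E ≤ M from fun P φ hφ => (hle P hφ).2
  refine H85.le_of_essential hTp hW.1 M fun P hP => ?_
  have hPc : E.IsCentric P ∧ E.IsFullyNormalized P := by
    rcases hP with rfl | hP
    · exact ⟨H85.centric_top E, H85.fullyNormalized_top E⟩
    · exact ⟨hP.1, hP.2.1⟩
  obtain ⟨hPc, hPn⟩ := hPc
  have hPT := hPc.1
  obtain ⟨-, R, hR⟩ := H85.fullyAutomized_of_fullyNormalized hTp hW.1 hPn
  have := H85.finite_autGroup E hPT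
  intro α hα
  suffices hle : (⊤ : Subgroup (E.autGroup P)) ≤ (M.autGroup P).subgroupOf (E.autGroup P) from
    hle (Subgroup.mem_top (⟨α, hα⟩ : E.autGroup P))
  rw [← pResidual_sup_sylow R]
  refine sup_le ?_ (hR ▸ fun a ha => H85.autInducedBy_le_autGroup M hPT ha)
  rw [Cfsg.pResidual, Subgroup.closure_le]
  intro a ha
  have hao : Nat.Coprime (orderOf (a : MulAut P)) p := by
    rw [Subgroup.orderOf_coe]
    exact ha
  have haE : P.subtype.comp (a : MulAut P).toMonoidHom ∈ E.Hom P := (H85.mem_autGroup hPT).1 a.2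
  obtain ⟨f, hf, hft, hfo, hfe⟩ := exists_coprime_ext hS hE hPc a.2 hao
  have hPS : P ≤ S := hPT.trans hTS
  have hDX : P ⊔ C ≤ pc S P := sup_le le_sup_left (centE_le.trans (centralizerIn_T_le_pc hPT))
  refine (H85.mem_autGroup hPT).2 ⟨haE, hW.2.2.1 P haE, hPT.trans hTC,
    fun x => hTC ((E.le_of_mem haE).2 x), _,
    H85.restrict ((H85.mem_autGroup (pc_le hPS)).1 hf) hDX, fun x => ?_, fun x => ?_⟩
  · exact (congrArg (fun z => ((f z : pc S P) : Ω)) (Subtype.ext rfl)).trans (hfe x)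
  · exact congrArg Subtype.val (x.2.2 P hPc a a.2 hao f hf hft hfo hfe
      (Subgroup.inclusion hDX (Subgroup.inclusion le_sup_right x)) rfl)

theorem cent_mono (hY : Cent F E (centE p F E)) {R : Subgroup Ω} (hR : R ≤ centE p F E) :
    Cent F E R := by
  intro P φ hφ
  obtain ⟨h1, h2, h3, ψ, hψ, hext, hfix⟩ := hY P hφ
  have hm : centralizerIn S (centE p F E) ≤ centralizerIn S R := centralizerIn_antitone hR
  refine ⟨h1, h2.trans hm, fun x => hm (h3 x), _,
    H85.restrict hψ (sup_le_sup_left hR P), fun x => ?_, fun x => ?_⟩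
  · exact (congrArg ψ (Subtype.ext rfl)).trans (hext x)
  · exact (congrArg ψ (Subtype.ext rfl)).trans (hfix ⟨(x : Ω), hR x.2⟩)

/-- Maps defined on `T` carry the subgroup into itself. -/
theorem centE_image (hS : IsPGroup p S) (hE : E.IsNormalIn F p) {D R : Subgroup Ω}
    (hTD : T ≤ D) (hRD : R ≤ D) (hR : R ≤ centE p F E) {φ : D →* Ω} (hφ : φ ∈ F.Hom D) (x : D)
    (hx : (x : Ω) ∈ R) : φ x ∈ centE p F E := by
  have hW := hE.1
  have hTc := hW.2.2.2.1
  have hTS := hTc.1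
  have : Finite T := H85.finite_of_le hTS
  have hφT := H85.restrict hφ hTD
  have hTr : (φ.comp (Subgroup.inclusion hTD)).range = T := range_eq_self_of_le F hφT (by
    rintro _ ⟨z, rfl⟩
    exact hTc.2 T le_rfl _ hφT z)
  set α := autOfHom _ (F.injective_of_mem hφT) hTr with hαdef
  have hα : α ∈ F.autGroup T := autOfHom_mem F hφT hTr
  have hαv : ∀ z : T, (α z : Ω) = φ (Subgroup.inclusion hTD z) := fun z => rfl
  let e := H85.isoOf φ hφ rfl
  have he : H85.IsFIso F e := H85.isFIso_isoOf φ hφ rfl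
  set R' := H85.img φ R with hR'
  have hgoodR := cent_mono (cent_centE hS hE) hR
  have hRC : R ≤ centralizerIn S T := hR.trans centE_le
  have hR'C : R' ≤ centralizerIn S T := by
    intro y hy
    obtain ⟨r, hr, rfl⟩ := H85.mem_img.1 hy
    refine H85.mem_centralizerIn.2 ⟨H85.map_mem hφ r, fun t ht => ?_⟩
    obtain ⟨v, hv⟩ := α.surjective ⟨t, ht⟩
    have h1 : t = φ (Subgroup.inclusion hTD v) := (congrArg Subtype.val hv).symm
    rw [h1, ← map_mul, ← map_mul]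
    exact congrArg φ (Subtype.ext ((H85.mem_centralizerIn.1 (hRC hr)).2 v v.2))
  refine le_centE hS hE (Y := R') hR'C (fun P χ hχ => ?_) (H85.apply_mem_img hx)
  have hPT : P ≤ T := (E.le_of_mem hχ).1
  have hTR' : T ≤ centralizerIn S R' := fun t ht => H85.mem_centralizerIn.2
    ⟨hTS ht, fun r hr => ((H85.mem_centralizerIn.1 (hR'C hr)).2 t ht).symm⟩
  set P₀ := H85.img (dmap α⁻¹) P with hP₀
  obtain ⟨χ₀, hχ₀, hχ₀e⟩ :=
    normAut_of_strongInv (strongInv_of_invariant hW.2.2) hTS (inv_mem hα) P χ hχ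
  obtain ⟨-, -, -, ψ₀, hψ₀, hψ₀e, hψ₀R⟩ := hgoodR _ hχ₀
  have hPR : P ⊔ R' ≤ φ.range := sup_le
    (fun z hz => ⟨Subgroup.inclusion hTD (α⁻¹ ⟨z, hPT hz⟩), by
      rw [← hαv, MulAut.apply_inv_self]⟩)
    (H85.img_le_range φ)
  have hsrc : P₀ ⊔ R ≤ D := sup_le (fun z hz => by
    obtain ⟨w, -, rfl⟩ := H85.mem_img.1 hz
    exact hTD (α⁻¹ w).2) hRD
  have hmemP : ∀ z : P, ((α⁻¹ ⟨(z : Ω), hPT z.2⟩ : T) : Ω) ∈ P₀ := fun z =>
    H85.apply_mem_img (φ := dmap α⁻¹) (x := (⟨(z : Ω), hPT z.2⟩ : T)) z.2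
  let ψ₁ : ↥(P ⊔ R') →* Ω :=
    (D.subtype.comp e.symm.toMonoidHom).comp (Subgroup.inclusion hPR)
  have hψ₁ : ψ₁ ∈ F.Hom (P ⊔ R') := H85.restrict he.symm hPR
  have hψ₁P : ∀ z : P, ψ₁ (Subgroup.inclusion le_sup_left z) = (α⁻¹ ⟨(z : Ω), hPT z.2⟩ : T) := by
    intro z
    show ((e.symm _ : D) : Ω) = _
    rw [show Subgroup.inclusion hPR (Subgroup.inclusion le_sup_left z) =
      e (Subgroup.inclusion hTD (α⁻¹ ⟨(z : Ω), hPT z.2⟩)) from Subtype.ext (by
        show (z : Ω) = φ (Subgroup.inclusion hTD (α⁻¹ ⟨(z : Ω), hPT z.2⟩))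
        rw [← hαv, MulAut.apply_inv_self]), MulEquiv.symm_apply_apply]
    rfl
  have hψ₁R : ∀ r : D, (r : Ω) ∈ R → ∀ h : φ r ∈ P ⊔ R', ψ₁ ⟨φ r, h⟩ = r := by
    intro r _ h
    show ((e.symm _ : D) : Ω) = _
    rw [show Subgroup.inclusion hPR (⟨φ r, h⟩ : ↥(P ⊔ R')) = e r from Subtype.ext rfl,
      MulEquiv.symm_apply_apply]
  have hm₁ : ∀ z, ψ₁ z ∈ P₀ ⊔ R := by
    have hle : P ⊔ R' ≤ ((P₀ ⊔ R).comap ψ₁).map (P ⊔ R').subtype := sup_le
      (fun z hz => ⟨Subgroup.inclusion le_sup_left ⟨z, hz⟩, show ψ₁ _ ∈ P₀ ⊔ R by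
        rw [hψ₁P]; exact Subgroup.mem_sup_left (hmemP ⟨z, hz⟩), rfl⟩)
      (fun z hz => by
        obtain ⟨r, hr, rfl⟩ := H85.mem_img.1 hz
        exact ⟨⟨φ r, Subgroup.mem_sup_right hz⟩, show ψ₁ _ ∈ P₀ ⊔ R by
          rw [hψ₁R r hr]; exact Subgroup.mem_sup_right hr, rfl⟩)
    intro z
    obtain ⟨w, hw, hwz⟩ := hle z.2
    exact (Subtype.ext hwz : w = z) ▸ hw
  have hm₀ : ∀ z, ψ₀ z ∈ D := by
    have hle : P₀ ⊔ R ≤ (D.comap ψ₀).map (P₀ ⊔ R).subtype := sup_le
      (fun z hz => ⟨Subgroup.inclusion le_sup_left ⟨z, hz⟩, show ψ₀ _ ∈ D by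
        rw [hψ₀e]; exact hTD ((E.le_of_mem hχ₀).2 _), rfl⟩)
      (fun z hz => ⟨Subgroup.inclusion le_sup_right ⟨z, hz⟩, show ψ₀ _ ∈ D by
        rw [hψ₀R]; exact hRD hz, rfl⟩)
    intro z
    obtain ⟨w, hw, hwz⟩ := hle z.2
    exact (Subtype.ext hwz : w = z) ▸ hw
  refine ⟨hW.2.2.1 P hχ, hPT.trans hTR', fun z => hTR' ((E.le_of_mem hχ).2 z), _,
    F.comp_mem (F.comp_mem hψ₁ hψ₀ hm₁) hφ (fun z => hm₀ _), fun z => ?_, fun z => ?_⟩
  · show φ ⟨ψ₀ ⟨ψ₁ (Subgroup.inclusion le_sup_left z), _⟩, _⟩ = χ z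
    have h1 : ψ₀ ⟨ψ₁ (Subgroup.inclusion le_sup_left z), hm₁ _⟩ =
        ((α⁻¹ ⟨χ z, (E.le_of_mem hχ).2 z⟩ : T) : Ω) := by
      rw [← hχ₀e z (hmemP z), ← hψ₀e]
      exact congrArg ψ₀ (Subtype.ext (hψ₁P z))
    refine (congrArg φ (Subtype.ext h1 : _ = Subgroup.inclusion hTD (α⁻¹ _))).trans ?_
    rw [← hαv, MulAut.apply_inv_self]
  · obtain ⟨r, hr, hrz⟩ := H85.mem_img.1 z.2
    show φ ⟨ψ₀ ⟨ψ₁ (Subgroup.inclusion le_sup_right z), _⟩, _⟩ = z
    rw [← hrz]
    refine congrArg φ (Subtype.ext ?_)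
    refine (congrArg ψ₀ (Subtype.ext ?_ : _ = Subgroup.inclusion le_sup_right (⟨(r : Ω), hr⟩ : R))).trans
      (hψ₀R _)
    show ψ₁ (Subgroup.inclusion le_sup_right z) = r
    refine (congrArg ψ₁ (Subtype.ext hrz.symm)).trans (hψ₁R r hr ?_)
    exact hrz ▸ Subgroup.mem_sup_right z.2

end H86
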