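import Cfsg.Agent.H86.Induction
import Cfsg.Prelude.Def_FusionComponents

/-! The direct product of two saturated fusion systems is saturated. -/

set_option autoImplicit false

open Cfsg Cfsg.FusionSystem

namespace H86

section Stab

variable {A Z : Type*} [Group A] [Group Z]

/-- The stabiliser of a subgroup for an action by automorphisms. -/
def stabOf (act : A →* MulAut Z) (H : Subgroup Z) : Subgroup A where
  carrier := {a | ∀ z, z ∈ H ↔ act a z ∈ H}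
  one_mem' := fun z => by simp
  mul_mem' := fun {a b} ha hb z => (hb z).trans (by rw [map_mul, MulAut.mul_apply]; exact ha _)
  inv_mem' := fun {a} ha z => by
    have := ha (act a⁻¹ z)
    rw [map_inv, MulAut.apply_inv_self] at this
    rw [map_inv]
    exact this.symm

/-- Some translate of `H` has a Sylow subgroup of its stabiliser inside a given Sylow subgroup. -/
theorem exists_sylow_stab [Finite A] {p : ℕ} [Fact p.Prime] (act : A →* MulAut Z)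
    (H : Subgroup Z) (R : Sylow p A) :
    ∃ a : A, ∃ T : Sylow p (stabOf act (H.map (act a).toMonoidHom)),
      (T : Subgroup (stabOf act (H.map (act a).toMonoidHom))) =
        (R : Subgroup A).subgroupOf (stabOf act (H.map (act a).toMonoidHom)) := by
  obtain ⟨T⟩ := (Sylow.nonempty : Nonempty (Sylow p (stabOf act H)))
  obtain ⟨S', hS'⟩ := (T.2.map (stabOf act H).subtype).exists_le_sylow
  obtain ⟨a, ha⟩ := MulAction.exists_smul_eq A S' R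
  refine ⟨a, ?_⟩
  set H' := H.map (act a).toMonoidHom with hH'
  have hmem : ∀ b : A, b ∈ stabOf act H' ↔ a⁻¹ * b * a ∈ stabOf act H := by
    intro b
    have key : ∀ w, w ∈ H' ↔ act a⁻¹ w ∈ H := by
      intro w
      constructor
      · rintro ⟨v, hv, rfl⟩
        rw [map_inv]
        show (act a)⁻¹ ((act a) v) ∈ H
        rwa [MulAut.inv_apply_self]
      · intro h
        refine ⟨_, h, ?_⟩
        rw [map_inv]
        exact MulAut.apply_inv_self _ _ _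
    constructor
    · intro hb z
      have h1 := hb (act a z)
      rw [key, key, map_inv, MulAut.inv_apply_self] at h1
      rw [map_mul, map_mul, map_inv, MulAut.mul_apply, MulAut.mul_apply]
      exact h1
    · intro hb z
      have h1 := hb (act a⁻¹ z)
      rw [map_mul, map_mul, MulAut.mul_apply, MulAut.mul_apply, map_inv,
        MulAut.apply_inv_self, ← map_inv] at h1
      rw [key, key]
      exact h1
  let c : stabOf act H ≃* stabOf act H' :=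
    { toFun := fun b => ⟨a * b * a⁻¹, (hmem _).2 (by
        have : a⁻¹ * (a * (b : A) * a⁻¹) * a = b := by group
        rw [this]
        exact b.2)⟩
      invFun := fun b => ⟨a⁻¹ * b * a, (hmem _).1 b.2⟩
      left_inv := fun b => Subtype.ext (by simp [mul_assoc])
      right_inv := fun b => Subtype.ext (by simp [mul_assoc])
      map_mul' := fun b b' => Subtype.ext (by simp [mul_assoc]) }
  have hc : Function.Surjective c.toMonoidHom := c.surjective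
  let T' := T.mapSurjective (f := c.toMonoidHom) hc
  refine ⟨T', (T'.3 ?_ ?_).symm⟩
  · exact R.2.comap_of_injective _ Subtype.coe_injective
  · rintro _ ⟨t, ht, rfl⟩
    show a * (t : A) * a⁻¹ ∈ (R : Subgroup A)
    rw [← ha, Sylow.coe_subgroup_smul]
    exact ⟨(t : A), hS' ⟨t, ht, rfl⟩, by simp⟩

end Stab

variable {Ω₁ Ω₂ : Type*} [Group Ω₁] [Group Ω₂] {S₁ : Subgroup Ω₁} {S₂ : Subgroup Ω₂}

theorem sylow_prod {A B : Type*} [Group A] [Group B] [Finite A] [Finite B] {p : ℕ} [hp : Fact p.Prime]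
    (R₁ : Sylow p A) (R₂ : Sylow p B) :
    ∃ R : Sylow p (A × B), (R : Subgroup (A × B)) = (R₁ : Subgroup A).prod (R₂ : Subgroup B) := by
  have h1 : IsPGroup p ((R₁ : Subgroup A).prod (R₂ : Subgroup B)) := by
    intro x
    obtain ⟨k, hk⟩ := R₁.2 ⟨(x : A × B).1, x.2.1⟩
    obtain ⟨l, hl⟩ := R₂.2 ⟨(x : A × B).2, x.2.2⟩
    refine ⟨k + l, Subtype.ext (Prod.ext ?_ ?_)⟩
    · have := congrArg Subtype.val hk
      show ((x : A × B).1) ^ p ^ (k + l) = 1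
      rw [pow_add, pow_mul, show ((x : A × B).1) ^ p ^ k = 1 from this, one_pow]
    · have := congrArg Subtype.val hl
      show ((x : A × B).2) ^ p ^ (k + l) = 1
      rw [pow_add, mul_comm, pow_mul, show ((x : A × B).2) ^ p ^ l = 1 from this, one_pow]
  have h2 : ¬ p ∣ ((R₁ : Subgroup A).prod (R₂ : Subgroup B)).index := by
    rw [Subgroup.index_prod]
    exact hp.1.not_dvd_mul R₁.not_dvd_index R₂.not_dvd_index
  exact ⟨h1.toSylow h2, rfl⟩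

theorem isSaturated_product [Finite S₁] [Finite S₂] {p : ℕ} [Fact p.Prime]
    (h₁ : IsPGroup p S₁) (h₂ : IsPGroup p S₂) {F₁ : FusionSystem S₁} {F₂ : FusionSystem S₂}
    (hF₁ : F₁.IsSaturated p) (hF₂ : F₂.IsSaturated p) {E : FusionSystem (S₁.prod S₂)}
    (hE : IsProductSystem F₁ F₂ E) : E.IsSaturated p := by
  classical
  intro P hP
  have hP₁ : P.map (MonoidHom.fst Ω₁ Ω₂) ≤ S₁ := by
    rintro _ ⟨x, hx, rfl⟩
    exact (hP hx).1
  have hP₂ : P.map (MonoidHom.snd Ω₁ Ω₂) ≤ S₂ := by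
    rintro _ ⟨x, hx, rfl⟩
    exact (hP hx).2
  obtain ⟨Q₁, hc₁, hn₁⟩ := H85.exists_fullyNormalized F₁ hP₁
  obtain ⟨Q₂, hc₂, hn₂⟩ := H85.exists_fullyNormalized F₂ hP₂
  obtain ⟨e₁, he₁⟩ := H85.isConj_iff.1 hc₁
  obtain ⟨e₂, he₂⟩ := H85.isConj_iff.1 hc₂
  obtain ⟨⟨hQ₁, R₁, hR₁⟩, hr₁⟩ := H85.automized_receptive_of_fullyNormalized h₁ hF₁ hn₁
  obtain ⟨⟨hQ₂, R₂, hR₂⟩, hr₂⟩ := H85.automized_receptive_of_fullyNormalized h₂ hF₂ hn₂
  have : Finite Q₁ := H85.finite_of_le hQ₁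
  have : Finite Q₂ := H85.finite_of_le hQ₂
  let A₁ := F₁.autGroup Q₁
  let A₂ := F₂.autGroup Q₂
  let act : A₁ × A₂ →* MulAut (Q₁ × Q₂) :=
    { toFun := fun a => MulEquiv.prodCongr (a.1 : MulAut Q₁) (a.2 : MulAut Q₂)
      map_one' := rfl
      map_mul' := fun _ _ => rfl }
  let j : P →* Q₁ × Q₂ :=
    (e₁.toMonoidHom.comp ((MonoidHom.fst Ω₁ Ω₂).subgroupMap P)).prod
      (e₂.toMonoidHom.comp ((MonoidHom.snd Ω₁ Ω₂).subgroupMap P))
  obtain ⟨R, hR⟩ := sylow_prod R₁ R₂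
  obtain ⟨a, hsyl⟩ := exists_sylow_stab act j.range R
  set H : Subgroup (Q₁ × Q₂) := j.range.map (act a).toMonoidHom with hH
  obtain ⟨T, hT⟩ := hsyl
  let ι : Q₁ × Q₂ →* Ω₁ × Ω₂ := Q₁.subtype.prodMap Q₂.subtype
  have hι : Function.Injective ι := fun x y h =>
    Prod.ext (Subtype.ext (congrArg Prod.fst h)) (Subtype.ext (congrArg Prod.snd h))
  set Q : Subgroup (Ω₁ × Ω₂) := H.map ι with hQdef
  have hQS : Q ≤ S₁.prod S₂ := by
    rintro _ ⟨z, -, rfl⟩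
    exact ⟨hQ₁ z.1.2, hQ₂ z.2.2⟩
  have hprojmem : ∀ q : Q₁ × Q₂, ι q ∈ Q → q ∈ H := fun q ⟨z, hz, hzq⟩ => hι hzq ▸ hz
  have hp₁ : Q.map (MonoidHom.fst Ω₁ Ω₂) = Q₁ := by
    ext y
    constructor
    · rintro ⟨_, ⟨z, -, rfl⟩, rfl⟩
      exact z.1.2
    · intro hy
      obtain ⟨⟨_, w, hw, rfl⟩, hz⟩ := e₁.surjective ((a.1 : MulAut Q₁)⁻¹ ⟨y, hy⟩)
      refine ⟨_, ⟨act a (j ⟨w, hw⟩), ⟨_, ⟨_, rfl⟩, rfl⟩, rfl⟩, ?_⟩
      show (((a.1 : MulAut Q₁) (e₁ ((MonoidHom.fst Ω₁ Ω₂).subgroupMap P ⟨w, hw⟩)) : Q₁) : Ω₁) = y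
      rw [show (MonoidHom.fst Ω₁ Ω₂).subgroupMap P ⟨w, hw⟩ = ⟨_, w, hw, rfl⟩ from rfl, hz,
        MulAut.apply_inv_self]
  have hp₂ : Q.map (MonoidHom.snd Ω₁ Ω₂) = Q₂ := by
    ext y
    constructor
    · rintro ⟨_, ⟨z, -, rfl⟩, rfl⟩
      exact z.2.2
    · intro hy
      obtain ⟨⟨_, w, hw, rfl⟩, hz⟩ := e₂.surjective ((a.2 : MulAut Q₂)⁻¹ ⟨y, hy⟩)
      refine ⟨_, ⟨act a (j ⟨w, hw⟩), ⟨_, ⟨_, rfl⟩, rfl⟩, rfl⟩, ?_⟩
      show (((a.2 : MulAut Q₂) (e₂ ((MonoidHom.snd Ω₁ Ω₂).subgroupMap P ⟨w, hw⟩)) : Q₂) : Ω₂) = y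
      rw [show (MonoidHom.snd Ω₁ Ω₂).subgroupMap P ⟨w, hw⟩ = ⟨_, w, hw, rfl⟩ from rfl, hz,
        MulAut.apply_inv_self]
  have hconj : E.IsConj P Q := by
    refine ⟨(ι.comp (act a).toMonoidHom).comp j, (hE _ _).2 ⟨hP,
      Q₁.subtype.comp (e₁.trans (a.1 : MulAut Q₁)).toMonoidHom,
      he₁.trans ((H85.mem_autGroup hQ₁).1 a.1.2),
      Q₂.subtype.comp (e₂.trans (a.2 : MulAut Q₂)).toMonoidHom,
      he₂.trans ((H85.mem_autGroup hQ₂).1 a.2.2), fun x _ _ => rfl⟩, ?_⟩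
    rw [hQdef, hH, MonoidHom.range_comp, Subgroup.map_map]
  have hS : IsPGroup p (S₁.prod S₂) := by
    intro x
    obtain ⟨k, hk⟩ := h₁ ⟨(x : Ω₁ × Ω₂).1, x.2.1⟩
    obtain ⟨l, hl⟩ := h₂ ⟨(x : Ω₁ × Ω₂).2, x.2.2⟩
    refine ⟨k + l, Subtype.ext (Prod.ext ?_ ?_)⟩
    · show ((x : Ω₁ × Ω₂).1) ^ p ^ (k + l) = 1
      rw [pow_add, pow_mul, show ((x : Ω₁ × Ω₂).1) ^ p ^ k = 1 from congrArg Subtype.val hk,
        one_pow]
    · show ((x : Ω₁ × Ω₂).2) ^ p ^ (k + l) = 1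
      rw [pow_add, mul_comm, pow_mul,
        show ((x : Ω₁ × Ω₂).2) ^ p ^ l = 1 from congrArg Subtype.val hl, one_pow]
  have : Finite (S₁.prod S₂) := Finite.of_equiv _ (Subgroup.prodEquiv S₁ S₂).toEquiv.symm
  refine ⟨Q, hconj, ?_, ?_⟩
  · -- fully automized
    let Γ := stabOf act H
    let jH : H ≃* Q := H.equivMapOfInjective ι hι
    have hres : ∀ γ : Γ, ∀ z : H, act γ z ∈ H := fun γ z => (γ.2 z).1 z.2
    have hinv : ∀ γ : Γ, ∀ z : H, (act γ)⁻¹ z ∈ H := fun γ z =>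
      (γ.2 _).2 (by rw [MulAut.apply_inv_self]; exact z.2)
    let resf : Γ →* MulAut H :=
      { toFun := fun γ =>
          { toFun := fun z => ⟨act γ z, hres γ z⟩
            invFun := fun z => ⟨(act γ)⁻¹ z, hinv γ z⟩
            left_inv := fun z => Subtype.ext (MulAut.inv_apply_self _ (act γ) z)
            right_inv := fun z => Subtype.ext (MulAut.apply_inv_self _ (act γ) z)
            map_mul' := fun z w => Subtype.ext (map_mul (act γ) _ _) }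
        map_one' := rfl
        map_mul' := fun _ _ => rfl }
    have hval : ∀ (γ : Γ) (z : H),
        (((MulAut.congr jH (resf γ)) (jH z) : Q) : Ω₁ × Ω₂) = ι (act γ z) := by
      intro γ z
      show ((jH (resf γ (jH.symm (jH z))) : Q) : Ω₁ × Ω₂) = _
      rw [jH.symm_apply_apply]
      rfl
    have hΦ : ∀ γ : Γ, MulAut.congr jH (resf γ) ∈ E.autGroup Q := by
      intro γ
      refine Subgroup.subset_closure ((hE _ _).2 ⟨hQS, ?_⟩)
      refine ⟨_, H85.restrict ((H85.mem_autGroup hQ₁).1 (γ : A₁ × A₂).1.2) hp₁.le,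
        _, H85.restrict ((H85.mem_autGroup hQ₂).1 (γ : A₁ × A₂).2.2) hp₂.le, fun x _ _ => ?_⟩
      obtain ⟨z, rfl⟩ := jH.surjective x
      exact hval γ z
    let Φ : Γ →* E.autGroup Q :=
      ((MulAut.congr jH).toMonoidHom.comp resf).codRestrict _ hΦ
    have hsur : Function.Surjective Φ := by
      intro β
      obtain ⟨-, φ₁, hφ₁, φ₂, hφ₂, heq⟩ := (hE _ _).1 ((H85.mem_autGroup hQS).1 β.2)
      have hf₁ := H85.restrict hφ₁ hp₁.ge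
      have hf₂ := H85.restrict hφ₂ hp₂.ge
      have hr₁' : (φ₁.comp (Subgroup.inclusion hp₁.ge)).range = Q₁ := range_eq_self_of_le F₁ hf₁ (by
        rintro _ ⟨y, rfl⟩
        obtain ⟨x, hx, hxy⟩ := hp₁.ge y.2
        have h := congrArg Prod.fst (heq ⟨x, hx⟩ ⟨x, hx, rfl⟩ ⟨x, hx, rfl⟩)
        have h2 : φ₁ (Subgroup.inclusion hp₁.ge y) ∈ Q.map (MonoidHom.fst Ω₁ Ω₂) := by
          refine ⟨_, SetLike.coe_mem ((β : MulAut Q) ⟨x, hx⟩), ?_⟩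
          refine h.trans ?_
          exact congrArg φ₁ (Subtype.ext hxy)
        exact hp₁.le h2)
      have hr₂' : (φ₂.comp (Subgroup.inclusion hp₂.ge)).range = Q₂ := range_eq_self_of_le F₂ hf₂ (by
        rintro _ ⟨y, rfl⟩
        obtain ⟨x, hx, hxy⟩ := hp₂.ge y.2
        have h := congrArg Prod.snd (heq ⟨x, hx⟩ ⟨x, hx, rfl⟩ ⟨x, hx, rfl⟩)
        have h2 : φ₂ (Subgroup.inclusion hp₂.ge y) ∈ Q.map (MonoidHom.snd Ω₁ Ω₂) := by
          refine ⟨_, SetLike.coe_mem ((β : MulAut Q) ⟨x, hx⟩), ?_⟩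
          refine h.trans ?_
          exact congrArg φ₂ (Subtype.ext hxy)
        exact hp₂.le h2)
      let γ₀ : A₁ × A₂ := (⟨_, autOfHom_mem F₁ hf₁ hr₁'⟩, ⟨_, autOfHom_mem F₂ hf₂ hr₂'⟩)
      have hγval : ∀ z : Q₁ × Q₂, ∀ hz : ι z ∈ Q,
          ι (act γ₀ z) = ((β : MulAut Q) ⟨ι z, hz⟩ : Q) := fun z hz =>
        (heq ⟨ι z, hz⟩ ⟨_, hz, rfl⟩ ⟨_, hz, rfl⟩).symm
      have hγ : γ₀ ∈ Γ := by
        intro z
        constructor
        · intro hz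
          refine hprojmem _ ?_
          rw [hγval z ⟨z, hz, rfl⟩]
          exact SetLike.coe_mem _
        · intro hz
          obtain ⟨⟨_, v, hv, rfl⟩, hvz⟩ :=
            (β : MulAut Q).surjective ⟨ι (act γ₀ z), _, hz, rfl⟩
          have h1 : ι (act γ₀ v) = ι (act γ₀ z) := (hγval v ⟨v, hv, rfl⟩).trans (congrArg Subtype.val hvz)
          rw [← (act γ₀).injective (hι h1)]
          exact hv
      refine ⟨⟨γ₀, hγ⟩, Subtype.ext (MulEquiv.ext fun x => ?_)⟩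
      obtain ⟨z, rfl⟩ := jH.surjective x
      exact Subtype.ext ((hval _ z).trans (hγval z _))
    have : Finite A₁ := H85.finite_autGroup F₁ hQ₁
    have : Finite A₂ := H85.finite_autGroup F₂ hQ₂
    refine ⟨hQS, T.mapSurjective hsur, ?_⟩
    rw [Sylow.coe_mapSurjective]
    ext β
    constructor
    · rintro ⟨γ, hγ, rfl⟩
      obtain ⟨hγ₁, hγ₂⟩ := hR.le (hT.le hγ)
      rw [hR₁] at hγ₁
      rw [hR₂] at hγ₂
      obtain ⟨g₁, hg₁, hgA⟩ := H85.mem_autInducedBy.1 hγ₁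
      obtain ⟨g₂, hg₂, hgB⟩ := H85.mem_autInducedBy.1 hγ₂
      refine H85.mem_autInducedBy.2 ⟨(g₁, g₂), ⟨hg₁, hg₂⟩, fun x => ?_⟩
      obtain ⟨z, rfl⟩ := jH.surjective x
      exact (hval γ z).trans (Prod.ext (hgA (z : Q₁ × Q₂).1) (hgB (z : Q₁ × Q₂).2))
    · intro hβ
      obtain ⟨g, hg, hgβ⟩ := H85.mem_autInducedBy.1 hβ
      have hgN := H85.mem_normalizer_of_induced hgβ
      have hg₁ : g.1 ∈ Subgroup.normalizer (Q₁ : Set Ω₁) := H85.mem_normalizer_of_conj fun y hy => by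
        obtain ⟨x, hx, rfl⟩ := hp₁.ge hy
        exact hp₁.le ⟨g * x * g⁻¹, H85.conj_mem_of_mem_normalizer hgN hx, rfl⟩
      have hg₂ : g.2 ∈ Subgroup.normalizer (Q₂ : Set Ω₂) := H85.mem_normalizer_of_conj fun y hy => by
        obtain ⟨x, hx, rfl⟩ := hp₂.ge hy
        exact hp₂.le ⟨g * x * g⁻¹, H85.conj_mem_of_mem_normalizer hgN hx, rfl⟩
      have hA₁ : H85.conjAut S₁ Q₁ ⟨g.1, hg.1, hg₁⟩ ∈ autInducedBy S₁ Q₁ :=
        H85.mem_autInducedBy.2 ⟨g.1, hg.1, fun _ => rfl⟩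
      have hA₂ : H85.conjAut S₂ Q₂ ⟨g.2, hg.2, hg₂⟩ ∈ autInducedBy S₂ Q₂ :=
        H85.mem_autInducedBy.2 ⟨g.2, hg.2, fun _ => rfl⟩
      let γ₀ : A₁ × A₂ := (⟨_, H85.autInducedBy_le_autGroup F₁ hQ₁ hA₁⟩,
        ⟨_, H85.autInducedBy_le_autGroup F₂ hQ₂ hA₂⟩)
      have hγ : γ₀ ∈ Γ := by
        intro z
        have e : ι (act γ₀ z) = g * ι z * g⁻¹ := rfl
        constructor
        · intro hz
          refine hprojmem _ ?_
          rw [e]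
          exact H85.conj_mem_of_mem_normalizer hgN ⟨z, hz, rfl⟩
        · intro hz
          refine hprojmem _ ?_
          have h1 : g * ι z * g⁻¹ ∈ Q := e ▸ ⟨_, hz, rfl⟩
          exact (Subgroup.mem_normalizer_iff.1 hgN _).2 h1
      refine ⟨⟨γ₀, hγ⟩, hT.ge (hR.ge ⟨hR₁.ge hA₁, hR₂.ge hA₂⟩),
        Subtype.ext (MulEquiv.ext fun x => ?_)⟩
      obtain ⟨z, rfl⟩ := jH.surjective x
      exact Subtype.ext ((hval _ z).trans (hgβ (jH z)).symm)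
  · -- receptive
    refine ⟨hQS, fun U φ hφ hφr => ?_⟩
    obtain ⟨hU, φ₁, hφ₁, φ₂, hφ₂, heq⟩ := (hE _ _).1 hφ
    have hfr₁ : φ₁.range = Q₁ := by
      rw [← hp₁]
      refine le_antisymm ?_ ?_
      · rintro _ ⟨⟨_, x, hx, rfl⟩, rfl⟩
        exact ⟨_, hφr.le ⟨⟨x, hx⟩, rfl⟩,
          congrArg Prod.fst (heq ⟨x, hx⟩ ⟨x, hx, rfl⟩ ⟨x, hx, rfl⟩)⟩
      · rintro _ ⟨q, hq, rfl⟩
        obtain ⟨x, rfl⟩ := hφr.ge hq
        exact ⟨⟨_, x, x.2, rfl⟩, (congrArg Prod.fst (heq x ⟨x, x.2, rfl⟩ ⟨x, x.2, rfl⟩)).symm⟩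
    have hfr₂ : φ₂.range = Q₂ := by
      rw [← hp₂]
      refine le_antisymm ?_ ?_
      · rintro _ ⟨⟨_, x, hx, rfl⟩, rfl⟩
        exact ⟨_, hφr.le ⟨⟨x, hx⟩, rfl⟩,
          congrArg Prod.snd (heq ⟨x, hx⟩ ⟨x, hx, rfl⟩ ⟨x, hx, rfl⟩)⟩
      · rintro _ ⟨q, hq, rfl⟩
        obtain ⟨x, rfl⟩ := hφr.ge hq
        exact ⟨⟨_, x, x.2, rfl⟩, (congrArg Prod.snd (heq x ⟨x, x.2, rfl⟩ ⟨x, x.2, rfl⟩)).symm⟩
    obtain ⟨ψ₁, hψ₁, hext₁⟩ := hr₁.2 _ φ₁ hφ₁ hfr₁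
    obtain ⟨ψ₂, hψ₂, hext₂⟩ := hr₂.2 _ φ₂ hφ₂ hfr₂
    set N := extender (S₁.prod S₂) U φ with hNdef
    have : Finite (U.map (MonoidHom.fst Ω₁ Ω₂)) := H85.finite_of_le (F₁.le_of_mem hφ₁).1
    have : Finite (U.map (MonoidHom.snd Ω₁ Ω₂)) := H85.finite_of_le (F₂.le_of_mem hφ₂).1
    have hN₁ : N.map (MonoidHom.fst Ω₁ Ω₂) ≤ extender S₁ (U.map (MonoidHom.fst Ω₁ Ω₂)) φ₁ := by
      rintro _ ⟨g, hg, rfl⟩
      obtain ⟨hgS, hgN, h, hh, hgh⟩ := H85.mem_extender.1 hg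
      refine H85.mem_extender.2 ⟨hgS.1, H85.mem_normalizer_of_conj fun y hy => ?_, h.1, hh.1,
        fun y hy => ?_⟩
      · obtain ⟨x, hx, rfl⟩ := hy
        exact ⟨g * x * g⁻¹, H85.conj_mem_of_mem_normalizer hgN hx, rfl⟩
      · obtain ⟨_, x, hx, rfl⟩ := y
        have hx' := H85.conj_mem_of_mem_normalizer hgN hx
        have h1 := hgh ⟨x, hx⟩ hx'
        rw [heq ⟨_, hx'⟩ ⟨_, hx', rfl⟩ ⟨_, hx', rfl⟩, heq ⟨x, hx⟩ ⟨x, hx, rfl⟩ ⟨x, hx, rfl⟩] at h1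
        exact congrArg Prod.fst h1
    have hN₂ : N.map (MonoidHom.snd Ω₁ Ω₂) ≤ extender S₂ (U.map (MonoidHom.snd Ω₁ Ω₂)) φ₂ := by
      rintro _ ⟨g, hg, rfl⟩
      obtain ⟨hgS, hgN, h, hh, hgh⟩ := H85.mem_extender.1 hg
      refine H85.mem_extender.2 ⟨hgS.2, H85.mem_normalizer_of_conj fun y hy => ?_, h.2, hh.2,
        fun y hy => ?_⟩
      · obtain ⟨x, hx, rfl⟩ := hy
        exact ⟨g * x * g⁻¹, H85.conj_mem_of_mem_normalizer hgN hx, rfl⟩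
      · obtain ⟨_, x, hx, rfl⟩ := y
        have hx' := H85.conj_mem_of_mem_normalizer hgN hx
        have h1 := hgh ⟨x, hx⟩ hx'
        rw [heq ⟨_, hx'⟩ ⟨_, hx', rfl⟩ ⟨_, hx', rfl⟩, heq ⟨x, hx⟩ ⟨x, hx, rfl⟩ ⟨x, hx, rfl⟩] at h1
        exact congrArg Prod.snd h1
    let χ : N →* Ω₁ × Ω₂ :=
      ((ψ₁.comp (Subgroup.inclusion hN₁)).comp ((MonoidHom.fst Ω₁ Ω₂).subgroupMap N)).prod
        ((ψ₂.comp (Subgroup.inclusion hN₂)).comp ((MonoidHom.snd Ω₁ Ω₂).subgroupMap N))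
    refine ⟨χ, (hE _ _).2 ⟨H85.extender_le _ _, _, H85.restrict hψ₁ hN₁, _, H85.restrict hψ₂ hN₂,
      fun x _ _ => rfl⟩, fun x hxU hxN => ?_⟩
    rw [heq ⟨x, hxU⟩ ⟨x, hxU, rfl⟩ ⟨x, hxU, rfl⟩]
    exact Prod.ext (hext₁ x.1 ⟨x, hxU, rfl⟩ (hN₁ ⟨x, hxN, rfl⟩))
      (hext₂ x.2 ⟨x, hxU, rfl⟩ (hN₂ ⟨x, hxN, rfl⟩))

end H86
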