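import Cfsg.Prelude.Def_FusionSystem

/-!
# Interface of the product of `S` with a normal subsystem

Other files may take `H86.HasProducts` as a hypothesis until the product theorem is proved; the final
theorem will be `H86.hasProducts`.
-/

namespace H86

universe u

/-- `D` behaves like the product `S E` inside `F`, `E` normal in `F` over `T`. -/
structure IsProductOn {Ω : Type u} [Group Ω] {S T : Subgroup Ω} (E : Cfsg.FusionSystem T)
    (F : Cfsg.FusionSystem S) (p : ℕ) (D : Cfsg.FusionSystem S) : Prop where
  saturated : D.IsSaturated p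
  subsystem : D.IsSubsystemOf F
  hyp_le : D.hyperfocalSubgroup p ≤ T
  le : E.IsSubsystemOf D
  coprime_mem : ∀ (P : Subgroup Ω), P ≤ T → ∀ α ∈ E.autGroup P, (orderOf α).Coprime p →
    α ∈ D.autGroup P
  frattini : ∀ (P : Subgroup Ω), P ≤ T → ∀ φ ∈ D.Hom P, ∃ s ∈ S, ∃ φ₀ ∈ E.Hom P,
    ∀ x : P, φ x = s * φ₀ x * s⁻¹

/-- Products exist for every normal subsystem of every saturated system on a finite `p`-group. -/
def HasProducts (p : ℕ) : Prop :=
  ∀ {Ω : Type u} [Group Ω] (S T : Subgroup Ω) [Finite S] (F : Cfsg.FusionSystem S)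
    (E : Cfsg.FusionSystem T), IsPGroup p S → E.IsNormalIn F p →
      ∃ D : Cfsg.FusionSystem S, IsProductOn E F p D

end H86
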