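import Cfsg.Agent.H86.CentralizerClosed
import Cfsg.Agent.H86.PowerNormal
import Cfsg.Agent.H86.PowerExists
import Cfsg.Agent.H85.LocalSystems

/-! The centralizer of a normal subsystem is a normal subsystem. -/

set_option autoImplicit false

open Cfsg Cfsg.FusionSystem
open scoped Pointwise

namespace H86

variable {Ω : Type*} [Group Ω] {S T : Subgroup Ω} [Finite S] {p : ℕ} [Fact p.Prime]
  {F : FusionSystem S} {E : FusionSystem T}

/-- The automorphism of `P ⊔ T` extending an automorphism in the centralizer system of `T`. -/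
theorem centAut_ext (hTS : T ≤ S) {P : Subgroup Ω} (hP : P ≤ centralizerIn S T) {a : MulAut P}
    (ha : a ∈ (H85.centralizerSystem F T hTS).autGroup P) :
    ∃ b ∈ F.autGroup (P ⊔ T),
      (∀ x : P, (b (Subgroup.inclusion le_sup_left x) : Ω) = a x) ∧
      ∀ t : T, (b (Subgroup.inclusion le_sup_right t) : Ω) = t := by
  obtain ⟨-, -, -, ψ, hψ, hext, hfix⟩ := (H85.mem_autGroup hP).1 ha
  have hle : P ⊔ T ≤ S := sup_le (hP.trans inf_le_left) hTS
  have : Finite ↥(P ⊔ T) := H85.finite_of_le hle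
  have hr : ψ.range = P ⊔ T := range_eq_self_of_le F hψ (by
    rintro _ ⟨z, rfl⟩
    have h : P ⊔ T ≤ ((P ⊔ T).comap ψ).map (P ⊔ T).subtype := sup_le
      (fun w hw => ⟨Subgroup.inclusion le_sup_left ⟨w, hw⟩, show ψ _ ∈ P ⊔ T by
        rw [hext]; exact Subgroup.mem_sup_left (SetLike.coe_mem _), rfl⟩)
      (fun w hw => ⟨Subgroup.inclusion le_sup_right ⟨w, hw⟩, show ψ _ ∈ P ⊔ T by
        rw [hfix]; exact Subgroup.mem_sup_right hw, rfl⟩)
    obtain ⟨w, hw, hwz⟩ := h z.2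
    exact (Subtype.ext hwz : w = z) ▸ hw)
  exact ⟨_, autOfHom_mem F hψ hr, hext, hfix⟩

/-- Displacements of automorphisms in the centralizer of `T` are fixed by the subsystem. -/
theorem displace_mem_centE (hS : IsPGroup p S) (hE : E.IsNormalIn F p) {P : Subgroup Ω}
    (hP : P ≤ centralizerIn S T) {a : MulAut P}
    (ha : a ∈ (H85.centralizerSystem F T hE.1.2.2.2.1.1).autGroup P) (x : P) :
    (x : Ω)⁻¹ * (a x : Ω) ∈ centE p F E := by
  have hTS := hE.1.2.2.2.1.1
  refine ⟨mul_mem (inv_mem (hP x.2)) (hP (a x).2), fun Q hQ e he heo f hf hft hfo hfe y hy => ?_⟩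
  obtain ⟨b, hb, hbP, hbT⟩ := centAut_ext hTS hP ha
  have hQS : Q ≤ S := hQ.1.trans hTS
  set D := Q ⊔ P with hDdef
  have hDX : D ≤ pc S Q := sup_le le_sup_left (hP.trans (centralizerIn_T_le_pc hQ.1))
  have hDPT : D ≤ P ⊔ T := sup_le (hQ.1.trans le_sup_right) le_sup_left
  have hDS : D ≤ S := hDX.trans (pc_le hQS)
  have : Finite D := H85.finite_of_le hDS
  have hbI : H85.IsFIso F b := (H85.mem_autGroup (sup_le (hP.trans inf_le_left) hTS)).1 hb
  have hm : ∀ z : D, (b (Subgroup.inclusion hDPT z) : Ω) ∈ D := by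
    intro z
    have h : D ≤ ((D.comap (((P ⊔ T).subtype.comp b.toMonoidHom).comp
        (Subgroup.inclusion hDPT))).map D.subtype) := sup_le
      (fun w hw => ⟨⟨w, Subgroup.mem_sup_left hw⟩, Subgroup.mem_sup_left
        (show (b _ : Ω) ∈ Q from (hbT ⟨w, hQ.1 hw⟩).symm ▸ hw), rfl⟩)
      (fun w hw => ⟨⟨w, Subgroup.mem_sup_right hw⟩, Subgroup.mem_sup_right
        (show (b _ : Ω) ∈ P from (hbP ⟨w, hw⟩).symm ▸ (a ⟨w, hw⟩).2), rfl⟩)
    obtain ⟨w, hw, hwz⟩ := h z.2
    exact (Subtype.ext hwz : w = z) ▸ hw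
  have hbD := H85.restrict hbI hDPT
  have hr := range_eq_self_of_le F hbD (by rintro _ ⟨z, rfl⟩; exact hm z)
  set c := autOfHom _ (F.injective_of_mem hbD) hr with hcdef
  have hcF : c ∈ F.autGroup D := autOfHom_mem F hbD hr
  have hcQ : ∀ z : D, (z : Ω) ∈ Q → c z = z := fun z hz =>
    Subtype.ext (hbT ⟨(z : Ω), hQ.1 hz⟩)
  have hcP : ∀ z : P, c (Subgroup.inclusion le_sup_right z) = Subgroup.inclusion le_sup_right (a z) :=
    fun z => Subtype.ext (hbP z)
  obtain ⟨f', hf', hf't, hf'o, hf'e⟩ :=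
    exists_res_trivMod (pc_le hQS) hf hft (le_sup_left : Q ≤ D) hDX
  have hf'Q : ∀ z : Q, (f' (Subgroup.inclusion le_sup_left z) : Ω) = e z :=
    fun z => (hf'e _).trans (hfe z)
  have hf'o' : Nat.Coprime (orderOf f') p := Nat.Coprime.of_dvd_left hf'o hfo
  have hinvQ : ∀ z : D, (z : Ω) ∈ Q → c⁻¹ z = z := fun z hz => by
    conv_lhs => rw [← hcQ z hz]
    exact MulAut.inv_apply_self _ _ _
  have heq : c * f' * c⁻¹ = f' := by
    refine ext_unique hS hE hQ le_sup_left hDX he (mul_mem (mul_mem hcF hf') (inv_mem hcF)) hf'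
      (fun z => ?_) hf't ?_ hf'o' (fun z => ?_) hf'Q
    · let q : D := ⟨_, Subgroup.mem_sup_left (hf't (c⁻¹ z))⟩
      have hq : (q : Ω) ∈ Q := hf't (c⁻¹ z)
      have h1 : f' (c⁻¹ z) = c⁻¹ z * q := Subtype.ext (by simp [q])
      rw [MulAut.mul_apply, MulAut.mul_apply, h1, map_mul, MulAut.apply_inv_self, Subgroup.coe_mul,
        inv_mul_cancel_left, hcQ q hq]
      exact hq
    · rwa [show orderOf (c * f' * c⁻¹) = orderOf f' from
        MulEquiv.orderOf_eq (MulAut.conj c) f']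
    · rw [MulAut.mul_apply, MulAut.mul_apply, hinvQ _ z.2,
        hcQ _ (by rw [hf'Q]; exact (e z).2), hf'Q]
  let xD : D := Subgroup.inclusion le_sup_right x
  let axD : D := Subgroup.inclusion le_sup_right (a x)
  let q : D := ⟨_, Subgroup.mem_sup_left (hf't xD)⟩
  have hq : (q : Ω) ∈ Q := hf't xD
  have h1 : f' xD = xD * q := Subtype.ext (by simp [q])
  have h2 : f' axD = axD * q := by
    have h := congrArg (fun g : MulAut D => g (c xD)) heq
    simp only [MulAut.mul_apply, MulAut.inv_apply_self] at h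
    rw [h1, map_mul, hcQ q hq, hcP x] at h
    exact h.symm
  have h3 : f' (xD⁻¹ * axD) = xD⁻¹ * axD := by
    rw [map_mul, map_inv, h1, h2]
    refine Subtype.ext ?_
    have hz : (xD : Ω)⁻¹ * axD ∈ centralizerIn S T := mul_mem (inv_mem (hP x.2)) (hP (a x).2)
    have hzc := (H85.mem_centralizerIn.1 hz).2 q (hQ.1 hq)
    simp only [Subgroup.coe_mul, Subgroup.coe_inv]
    calc ((xD : Ω) * q)⁻¹ * ((axD : Ω) * q) = (q : Ω)⁻¹ * (((xD : Ω)⁻¹ * axD) * q) := by group
      _ = (xD : Ω)⁻¹ * axD := by rw [← hzc, inv_mul_cancel_left]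
  refine Subtype.ext ?_
  have h4 := hf'e (xD⁻¹ * axD)
  rw [h3] at h4
  rw [show y = Subgroup.inclusion hDX (xD⁻¹ * axD) from Subtype.ext hy]
  exact h4.symm

theorem hyperfocal_centralizer_le (hS : IsPGroup p S) (hE : E.IsNormalIn F p) :
    (H85.centralizerSystem F T hE.1.2.2.2.1.1).hyperfocalSubgroup p ≤ centE p F E := by
  rw [hyperfocalSubgroup, Subgroup.closure_le]
  rintro _ ⟨P, a, x, hP, -, rfl⟩
  exact displace_mem_centE hS hE hP a.2 x

/-- Transport of automorphisms in the centralizer system. -/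
theorem centAut_transport (hTc : F.StronglyClosed T) {U U' : Subgroup Ω}
    (hU : U ≤ centralizerIn S T) (hU' : U' ≤ centralizerIn S T) (e : U ≃* U')
    {χ : ↥(U ⊔ T) →* Ω} (hχ : χ ∈ F.Hom (U ⊔ T))
    (hext : ∀ x : U, χ (Subgroup.inclusion le_sup_left x) = (e x : Ω)) {k : MulAut U}
    (hk : k ∈ (H85.centralizerSystem F T hTc.1).autGroup U) :
    MulAut.congr e k ∈ (H85.centralizerSystem F T hTc.1).autGroup U' := by
  have : Finite T := H85.finite_of_le hTc.1
  obtain ⟨b, hb, hbU, hbT⟩ := centAut_ext hTc.1 hU hk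
  have hbI : H85.IsFIso F b := (H85.mem_autGroup (sup_le (hU.trans inf_le_left) hTc.1)).1 hb
  have hT' := H85.restrict hχ (le_sup_right : T ≤ U ⊔ T)
  have hrT : (χ.comp (Subgroup.inclusion (le_sup_right : T ≤ U ⊔ T))).range = T :=
    range_eq_self_of_le F hT' (by
      rintro _ ⟨z, rfl⟩
      exact hTc.2 T le_rfl _ hT' z)
  have hrχ : χ.range = U' ⊔ T := by
    refine le_antisymm ?_ (sup_le ?_ ?_)
    · rintro _ ⟨z, rfl⟩
      have h : U ⊔ T ≤ ((U' ⊔ T).comap χ).map (U ⊔ T).subtype := sup_le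
        (fun w hw => ⟨Subgroup.inclusion le_sup_left ⟨w, hw⟩, show χ _ ∈ U' ⊔ T by
          rw [hext]; exact Subgroup.mem_sup_left (SetLike.coe_mem _), rfl⟩)
        (fun w hw => ⟨Subgroup.inclusion le_sup_right ⟨w, hw⟩,
          Subgroup.mem_sup_right (hTc.2 T le_rfl _ hT' ⟨w, hw⟩), rfl⟩)
      obtain ⟨w, hw, hwz⟩ := h z.2
      exact (Subtype.ext hwz : w = z) ▸ hw
    · intro y hy
      obtain ⟨x, hx⟩ := e.surjective ⟨y, hy⟩
      exact ⟨_, (hext x).trans (congrArg Subtype.val hx)⟩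
    · intro y hy
      rw [← hrT] at hy
      obtain ⟨t, rfl⟩ := hy
      exact ⟨_, rfl⟩
  let i : ↥(U ⊔ T) ≃* ↥(U' ⊔ T) := H85.isoOf χ hχ hrχ
  have hi : H85.IsFIso F i := H85.isFIso_isoOf χ hχ hrχ
  have hiv : ∀ z, (i z : Ω) = χ z := fun z => rfl
  have heI : H85.IsFIso F e := H85.hom_congr (H85.restrict hχ le_sup_left) hext
  have hkF : H85.IsFIso F k := ((H85.mem_autGroup hU).1 hk).1
  refine (H85.mem_autGroup hU').2 ⟨((heI.symm.trans hkF).trans heI).congr fun _ => rfl, hU',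
    fun x => hU' (SetLike.coe_mem _), _, (hi.symm.trans hbI).trans hi, fun x => ?_, fun t => ?_⟩
  · obtain ⟨z, rfl⟩ := e.surjective x
    have h1 : Subgroup.inclusion le_sup_left (e z) = i (Subgroup.inclusion le_sup_left z) :=
      Subtype.ext (hext z).symm
    show (i (b (i.symm _)) : Ω) = (e (k (e.symm (e z))) : Ω)
    rw [h1, i.symm_apply_apply, e.symm_apply_apply,
      show b (Subgroup.inclusion le_sup_left z) = Subgroup.inclusion le_sup_left (k z) from
        Subtype.ext (hbU z), hiv, hext]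
  · obtain ⟨s, hs⟩ : (t : Ω) ∈ (χ.comp (Subgroup.inclusion (le_sup_right : T ≤ U ⊔ T))).range := by
      rw [hrT]; exact t.2
    have h1 : Subgroup.inclusion le_sup_right t = i (Subgroup.inclusion le_sup_right s) :=
      Subtype.ext hs.symm
    show (i (b (i.symm _)) : Ω) = t
    rw [h1, i.symm_apply_apply,
      show b (Subgroup.inclusion le_sup_right s) = Subgroup.inclusion le_sup_right s from
        Subtype.ext (hbT s), hiv]
    exact hs

/-- Automorphisms of a subgroup of `C_S(T)` extend to `T` when it is fully normalized. -/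
theorem exists_ext_join (hS : IsPGroup p S) (hF : F.IsSaturated p) (hTS : T ≤ S) {U : Subgroup Ω}
    (hU : F.IsFullyNormalized U) (hUW : U ≤ centralizerIn S T) {a : MulAut U}
    (ha : a ∈ F.autGroup U) :
    ∃ χ ∈ F.Hom (U ⊔ T), ∀ x : U, χ (Subgroup.inclusion le_sup_left x) = (a x : Ω) := by
  have haI : H85.IsFIso F a := (H85.mem_autGroup hU.1).1 ha
  obtain ⟨ψ, hψ, hext⟩ := H85.receptive_extend (H85.receptive_of_fullyNormalized hS hF hU) haI
  have hTX : T ≤ centralizerIn S U := fun t ht => H85.mem_centralizerIn.2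
    ⟨hTS ht, fun u hu => ((H85.mem_centralizerIn.1 (hUW hu)).2 t ht).symm⟩
  refine ⟨_, H85.restrict hψ (sup_le (H85.le_extender hU.1 fun x => H85.map_mem haI x)
    (hTX.trans (H85.centralizerIn_le_extender _ _))), fun x => ?_⟩
  exact hext x x.2 _

omit [Fact p.Prime] in
theorem fullyNormalized_of_normal {P : Subgroup Ω} (hP : P ≤ S)
    (hn : S ≤ Subgroup.normalizer (P : Set Ω)) : F.IsFullyNormalized P := by
  refine ⟨hP, fun Q _ => ?_⟩
  have : Finite (normalizerIn S P) := H85.finite_of_le inf_le_left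
  exact Subgroup.card_le_of_le fun x hx => ⟨hx.1, hn hx.1⟩

theorem exists_centralizer_normal (hS : IsPGroup p S) (hE : E.IsNormalIn F p) :
    ∃ D : FusionSystem (centE p F E), D.IsNormalIn F p ∧
      ∀ P : Subgroup Ω, D.Hom P ⊆ F.centralizerHom T P := by
  have hW := hE.1
  have hF := hW.2.1
  have hTc := hW.2.2.2.1
  have hTS := hTc.1
  set Y := centE p F E with hYdef
  have hYW : Y ≤ centralizerIn S T := centE_le
  have hYc : F.StronglyClosed Y := stronglyClosed_centE hS hE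
  have hYS := hYc.1
  have : Finite Y := H85.finite_of_le hYS
  set C := H85.centralizerSystem F T hTS with hCdef
  have : Finite (centralizerIn S T) := H85.finite_of_le inf_le_left
  have hWp : IsPGroup p (centralizerIn S T) := hS.to_le inf_le_left
  have hC : C.IsSaturated p := H85.isSaturated_centralizerSystem hS hF
    (H85.fullyCentralized_of_fullyNormalized hS hF (fullyNormalized_stronglyClosed hTc)) C
    (H85.centralizerSystem_spec F T hTS)
  have hCF : ∀ {P : Subgroup Ω} {φ : P →* Ω}, φ ∈ C.Hom P → φ ∈ F.Hom P := fun h => h.1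
  have hhyp : C.hyperfocalSubgroup p ≤ Y := hyperfocal_centralizer_le hS hE
  obtain ⟨D, hDs, hDi⟩ := exists_powerIndex _ hWp C hC Y hYW hhyp le_rfl
  have hnW : (Y.subgroupOf (centralizerIn S T)).Normal :=
    ⟨fun n hn g => normal_of_stronglyClosed F hYc g.2.1 hn⟩
  have hDC := isNormalIn_of_powerIndex hWp hC hYW hnW hhyp hDs hDi
  refine ⟨D, ?_, fun P φ hφ => hDi.1 P hφ⟩
  have hYn := fullyNormalized_stronglyClosed hYc
  have hNA : ∀ α ∈ F.autGroup Y, NormAut D α := by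
    intro α hα
    obtain ⟨χ, hχ, hext⟩ := exists_ext_join hS hF hTS hYn hYW hα
    have hd : dmap α ∈ F.Hom Y := (H85.mem_autGroup hYS).1 hα
    have hsub : D.IsSubsystemOf (pullSys (restrictSys F hYc) D α) := by
      refine H87.subsystem_of_pResidual hWp hDs hDi.1 _ le_rfl fun P hP => ?_
      rw [Cfsg.pResidual, MonoidHom.map_closure, Subgroup.closure_le]
      rintro _ ⟨⟨a, ha⟩, hk, rfl⟩
      let e := H85.resIso (dmap α) (F.injective_of_mem hd) hP
      have hI : H85.img (dmap α) P ≤ Y := fun y hy => by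
        obtain ⟨s, -, rfl⟩ := H85.mem_img.1 hy
        exact SetLike.coe_mem _
      have ha' : MulAut.congr e a ∈ C.autGroup (H85.img (dmap α) P) :=
        centAut_transport hTc (hP.trans hYW) (hI.trans hYW) e
          (H85.restrict hχ (sup_le_sup_right hP T))
          (fun x => (congrArg χ (Subtype.ext rfl)).trans (hext (Subgroup.inclusion hP x))) ha
      have hb := hDi.2.2 _ hI ⟨⟨_, ha'⟩, H87.mem_pResidual_of_coprime (by
        rw [Subgroup.orderOf_mk,
          show orderOf (MulAut.congr e a) = orderOf a from MulEquiv.orderOf_eq (MulAut.congr e) a,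
          ← Subgroup.orderOf_mk a ha]
        exact hk), rfl⟩
      refine (H85.mem_autGroup hP).2
        ⟨⟨hP, hCF ((H85.mem_autGroup (hP.trans hYW)).1 ha)⟩, _, (H85.mem_autGroup hI).1 hb,
          fun x hx => ?_⟩
      show ((e (a (e.symm ⟨_, hx⟩)) : H85.img (dmap α) P) : Ω) = _
      rw [show e.symm ⟨_, hx⟩ = x from (MulEquiv.symm_apply_eq _).2 (Subtype.ext rfl)]
      rfl
    intro P φ hφ
    obtain ⟨_, χ', hχ', he⟩ := hsub P hφ
    exact ⟨χ', hχ', he⟩
  have hCY : ∀ {U : Subgroup Ω}, U ≤ Y → ∀ k ∈ C.autGroup U, k ∈ F.autGroup U := fun hU k hk =>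
    (H85.mem_autGroup (hU.trans hYS)).2 (hCF ((H85.mem_autGroup (hU.trans hYW)).1 hk))
  have hfr : ∀ (P : Subgroup Ω), P ≤ Y → ∀ φ ∈ F.Hom P, ∃ α ∈ F.autGroup Y, Lev D α P φ := by
    refine induction_within hS hF hYc (fun P φ => ∃ α ∈ F.autGroup Y, Lev D α P φ) ?_ ?_ ?_ ?_
    · rintro P Q φ h - - ⟨α, hα, hl⟩
      exact ⟨α, hα, hl.res h fun _ => rfl⟩
    · rintro P Q R e e' - - - - - ⟨α, hα, hl⟩ ⟨α', hα', hl'⟩
      exact ⟨α' * α, mul_mem hα' hα, hl.comp hl' (hNA _ (inv_mem hα)) (fun x => (e x).2)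
        fun _ => rfl⟩
    · rintro P Q e - - - ⟨α, hα, hl⟩
      exact ⟨α⁻¹, inv_mem hα, hl.inv (hNA _ hα) fun y => ⟨e.symm y, by simp, rfl⟩⟩
    intro U hUY hU ih a ha
    rcases eq_or_lt_of_le hUY with rfl | hlt
    · exact ⟨a, ha, (lev_aut a le_rfl).congr fun _ => rfl⟩
    have hUS := hU.1
    have hUW := hUY.trans hYW
    have hKn : ∀ b ∈ F.autGroup U, ∀ k ∈ C.autGroup U, b * k * b⁻¹ ∈ C.autGroup U := by
      intro b hb k hk
      obtain ⟨χ, hχ, hext⟩ := exists_ext_join hS hF hTS hU hUW hb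
      exact centAut_transport hTc hUW hUW b hχ hext hk
    have hN : normalizerIn Y U ≤ normalizerIn S U := inf_le_inf_right _ hYS
    obtain ⟨k, hk, β, hβ, hkβ, ψ, hψ, hψe⟩ := frattini_step hS hF hU (K := C.autGroup U)
      (hCY hUY) hKn ha (normalizerIn Y U) hN fun g hg =>
        H85.autInducedBy_le_autGroup C hUW (H85.mem_autInducedBy.2 ⟨g, hYW hg.1, fun _ => rfl⟩)
    have hle : U ⊔ normalizerIn Y U ≤ Y := sup_le hUY inf_le_left
    have hbig : Nat.card U < Nat.card ↥(U ⊔ normalizerIn Y U) :=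
      (card_lt_card_normalizerIn hS hYS hlt).trans_le (by
        have : Finite ↥(U ⊔ normalizerIn Y U) := H85.finite_of_le hle
        exact Subgroup.card_le_of_le le_sup_right)
    obtain ⟨α, hα, hl⟩ := ih _ hle hbig ψ hψ
    obtain ⟨α', hα', hl'⟩ := hDC.1.2.2.2.2.2 U hUY _ ((H85.mem_autGroup hUW).1 hk)
    have hα'F : α' ∈ F.autGroup Y := hCY le_rfl _ hα'
    refine ⟨α' * α, mul_mem hα'F hα, ?_⟩
    have hlβ : Lev D α U (U.subtype.comp β.toMonoidHom) :=
      hl.res le_sup_left fun x => (hψe x).symm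
    exact hlβ.comp (ψ := U.subtype.comp k.toMonoidHom) hl' (hNA _ (inv_mem hα))
      (fun x => (β x).2) fun x => by rw [hkβ]; rfl
  refine ⟨⟨hDs, hF, fun P φ hφ => hCF (hDi.1 P hφ), hYc, fun P hPT φ hφ α hα => ?_, hfr⟩, ?_⟩
  · obtain ⟨χ, hχ, he⟩ := hNA α hα P φ hφ
    exact ⟨χ, hχ, fun x _ hx => he x hx⟩
  set X := Y ⊔ centralizerIn S Y with hX
  have hXS : X ≤ S := sup_le hYS inf_le_left
  have : Finite X := H85.finite_of_le hXS
  have hYX : Y ≤ X := le_sup_left
  let L : Submonoid (MulAut Y) :=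
    { carrier := {a | ∃ β ∈ F.autGroup X,
        (∀ x : Y, ((β (Subgroup.inclusion hYX x) : X) : Ω) = ((a x : Y) : Ω)) ∧
        ∀ c : X, (c : Ω) ∈ centralizerIn S Y →
          (c : Ω)⁻¹ * ((β c : X) : Ω) ∈ Y ⊓ Subgroup.centralizer (Y : Set Ω)}
      one_mem' := ⟨1, one_mem _, fun x => rfl, fun c _ => by simp⟩
      mul_mem' := by
        rintro a b ⟨β, hβ, hβT, hβC⟩ ⟨γ, hγ, hγT, hγC⟩
        refine ⟨β * γ, mul_mem hβ hγ, fun x => ?_, fun c hc => ?_⟩
        · rw [MulAut.mul_apply, MulAut.mul_apply,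
            show γ (Subgroup.inclusion hYX x) = Subgroup.inclusion hYX (b x) from
              Subtype.ext (hγT x), hβT]
        · have h1 := hγC c hc
          let z : Y := ⟨(c : Ω)⁻¹ * γ c, h1.1⟩
          have h2 : (c : Ω)⁻¹ * ((β * γ) c : X) = ((c : Ω)⁻¹ * β c) * (a z : Y) := by
            rw [MulAut.mul_apply, show γ c = c * Subgroup.inclusion hYX z from
              Subtype.ext (mul_inv_cancel_left (c : Ω) _).symm, map_mul, Subgroup.coe_mul, hβT]
            group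
          rw [h2]
          refine mul_mem (hβC c hc) ⟨(a z).2, Subgroup.mem_centralizer_iff.2 fun w hw => ?_⟩
          obtain ⟨v, hv⟩ := a.surjective ⟨w, hw⟩
          have hcomm : v * z = z * v :=
            Subtype.ext (Subgroup.mem_centralizer_iff.1 h1.2 v v.2)
          have h3 := congrArg (fun u : Y => (u : Ω)) (congrArg a hcomm)
          simpa [map_mul, hv] using h3 }
  have hfinA : Finite (MulAut Y) :=
    Finite.of_injective (fun e => (e : Y → Y)) DFunLike.coe_injective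
  have hpow : ∀ a ∈ L, a⁻¹ ∈ L := fun a ha => by
    have h : a⁻¹ = a ^ (orderOf a - 1) := by
      refine inv_eq_of_mul_eq_one_left ?_
      rw [← pow_succ, Nat.sub_add_cancel (orderOf_pos a), pow_orderOf_eq_one]
    exact h ▸ L.pow_mem ha _
  let L' : Subgroup (MulAut Y) := { L with inv_mem' := fun {a} ha => hpow a ha }
  intro α hα
  suffices hle : (⊤ : Subgroup (D.autGroup Y)) ≤ L'.subgroupOf (D.autGroup Y) from
    hle (Subgroup.mem_top (⟨α, hα⟩ : D.autGroup Y))
  obtain ⟨-, R, hR⟩ :=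
    H85.fullyAutomized_of_fullyNormalized (hS.to_le hYS) hDs (H85.fullyNormalized_top D)
  have := H85.finite_autGroup D (le_refl Y)
  rw [← pResidual_sup_sylow R, Cfsg.pResidual]
  refine sup_le ((Subgroup.closure_le _).2 ?_) ?_
  swap
  · intro a ha
    rw [hR] at ha
    obtain ⟨t, ht, hte⟩ := H85.mem_autInducedBy.1 ha
    have hc := F.conj_mem hXS (hYS ht)
    have htX : t ∈ X := hYX ht
    have hr : (conjHom X t).range = X := range_eq_self_of_le F hc (by
      rintro _ ⟨z, rfl⟩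
      exact X.mul_mem (X.mul_mem htX z.2) (X.inv_mem htX))
    refine ⟨_, autOfHom_mem F hc hr, fun x => (hte x).symm, fun c hcc => ?_⟩
    have h1 : t * (c : Ω) = c * t := Subgroup.mem_centralizer_iff.1 hcc.2 t ht
    show (c : Ω)⁻¹ * (t * c * t⁻¹) ∈ _
    rw [h1]
    simp [one_mem]
  intro a ha
  have haC : (a : MulAut Y) ∈ C.autGroup Y :=
    (H85.mem_autGroup hYW).2 (hDi.1 Y ((H85.mem_autGroup le_rfl).1 a.2))
  set J := Y ⊔ T with hJ
  obtain ⟨a', ha'F, ha'Y, ha'T⟩ := centAut_ext hTS hYW haC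
  have hJS : J ≤ S := sup_le hYS hTS
  have : Finite J := H85.finite_of_le hJS
  have hJn : S ≤ Subgroup.normalizer (J : Set Ω) := fun s hs => by
    refine Subgroup.mem_normalizer_iff.2 fun x => ?_
    have key : ∀ {s : Ω}, s ∈ S → ∀ {x : Ω}, x ∈ J → s * x * s⁻¹ ∈ J := by
      intro s hs x hx
      have h : J ≤ J.comap (MulAut.conj s).toMonoidHom := sup_le
        (fun y hy => Subgroup.mem_sup_left (normal_of_stronglyClosed F hYc hs hy))
        (fun y hy => Subgroup.mem_sup_right (normal_of_stronglyClosed F hTc hs hy))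
      exact h hx
    refine ⟨key hs, fun h => ?_⟩
    have := key (S.inv_mem hs) h
    simpa [mul_assoc] using this
  have ha'I : H85.IsFIso F a' := (H85.mem_autGroup hJS).1 ha'F
  obtain ⟨ψ, hψ, hext⟩ := H85.receptive_extend
    (H85.receptive_of_fullyNormalized hS hF (fullyNormalized_of_normal hJS hJn)) ha'I
  have ha'inv : ∀ t : T, a'⁻¹ (Subgroup.inclusion le_sup_right t) =
      Subgroup.inclusion le_sup_right t := fun t => by
    conv_lhs => rw [← show a' (Subgroup.inclusion le_sup_right t) =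
      Subgroup.inclusion le_sup_right t from Subtype.ext (ha'T t)]
    exact MulAut.inv_apply_self _ _ _
  have hXe : pc S Y ≤ extender S J (J.subtype.comp a'.toMonoidHom) := by
    refine sup_le (le_sup_left.trans (H85.le_extender hJS fun x => H85.map_mem ha'I x)) ?_
    intro g hg
    refine H85.mem_extender.2 ⟨hg.1, hJn hg.1, g, hg.1, ?_⟩
    intro x hx
    show (a' ⟨g * x * g⁻¹, hx⟩ : Ω) = g * (a' x : Ω) * g⁻¹
    have h : ∀ z ∈ J, ∀ hz : g * z * g⁻¹ ∈ J, ∀ hz' : z ∈ J,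
        g * (a' ⟨z, hz'⟩ : Ω) * g⁻¹ = (a' ⟨g * z * g⁻¹, hz⟩ : Ω) := by
      intro z hz
      have hmem : ∀ w : J, g * (w : Ω) * g⁻¹ ∈ J := fun w =>
        (Subgroup.mem_normalizer_iff.1 (hJn hg.1) w).1 w.2
      let cg : J →* J := ((MulAut.conj g).toMonoidHom.comp J.subtype).codRestrict J hmem
      let φ₁ : J →* J := cg.comp a'.toMonoidHom
      let φ₂ : J →* J := a'.toMonoidHom.comp cg
      have hgl : J ≤ (φ₁.eqLocus φ₂).map J.subtype := sup_le
        (fun w hw => ⟨⟨w, Subgroup.mem_sup_left hw⟩, by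
          refine Subtype.ext ?_
          show g * (a' _ : Ω) * g⁻¹ = (a' _ : Ω)
          have h1 : g * w * g⁻¹ = w := by
            rw [← (H85.mem_centralizerIn.1 hg).2 w hw, mul_inv_cancel_right]
          have h2 := (H85.mem_centralizerIn.1 hg).2 _ ((a : MulAut Y) ⟨w, hw⟩).2
          rw [show (⟨w, Subgroup.mem_sup_left hw⟩ : J) = Subgroup.inclusion le_sup_left ⟨w, hw⟩
            from rfl, ha'Y, ← h2, mul_inv_cancel_right]
          exact ((congrArg (fun q => ((a' q : J) : Ω)) (Subtype.ext h1 :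
            cg ⟨w, Subgroup.mem_sup_left hw⟩ = Subgroup.inclusion le_sup_left (⟨w, hw⟩ : Y))).trans
              (ha'Y ⟨w, hw⟩)).symm, rfl⟩)
        (fun w hw => ⟨⟨w, Subgroup.mem_sup_right hw⟩, by
          refine Subtype.ext ?_
          show g * (a' _ : Ω) * g⁻¹ = (a' _ : Ω)
          rw [show (⟨w, Subgroup.mem_sup_right hw⟩ : J) = Subgroup.inclusion le_sup_right ⟨w, hw⟩
            from rfl, ha'T]
          exact (ha'T ⟨g * w * g⁻¹, normal_of_stronglyClosed F hTc hg.1 hw⟩).symm, rfl⟩)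
      intro hz₁ hz₂
      obtain ⟨w, hw, hwz⟩ := hgl hz
      cases (Subtype.ext hwz : w = ⟨z, hz₂⟩)
      exact congrArg Subtype.val hw
    exact (h _ (SetLike.coe_mem _) hx (SetLike.coe_mem _)).symm
  obtain ⟨b, hb, hbe⟩ := exists_aut_pc hψ hXe fun x hx => by
    rw [show ψ x = _ from hext x (Subgroup.mem_sup_left hx) x.2]
    exact (ha'Y ⟨(x : Ω), hx⟩).symm ▸ ((a : MulAut Y) ⟨x, hx⟩).2
  have hTX : T ≤ X := fun t ht => Subgroup.mem_sup_right (H85.mem_centralizerIn.2
    ⟨hTS ht, fun u hu => ((H85.mem_centralizerIn.1 (hYW hu)).2 t ht).symm⟩)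
  have hbY : ∀ x : Y, b (Subgroup.inclusion hYX x) = Subgroup.inclusion hYX ((a : MulAut Y) x) :=
    fun x => Subtype.ext ((hbe _).trans ((hext x (Subgroup.mem_sup_left x.2) _).trans (ha'Y x)))
  have hbT : ∀ x : T, b (Subgroup.inclusion hTX x) = Subgroup.inclusion hTX x :=
    fun x => Subtype.ext ((hbe _).trans ((hext x (Subgroup.mem_sup_right x.2) _).trans (ha'T x)))
  have := H85.finite_autGroup F hXS
  have hao : Nat.Coprime (orderOf (a : MulAut Y)) p := by
    rw [Subgroup.orderOf_coe]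
    exact ha
  obtain ⟨n, hn, han⟩ := exists_exp_coprime (⟨b, hb⟩ : F.autGroup X) (a : MulAut Y) hao
  rw [← Subgroup.orderOf_coe] at hn
  set c := b ^ n with hcdef
  have hcF : c ∈ F.autGroup X := pow_mem hb n
  have hk : ∀ k : ℕ, (∀ x : Y, (b ^ k) (Subgroup.inclusion hYX x) =
      Subgroup.inclusion hYX (((a : MulAut Y) ^ k) x)) ∧
      ∀ x : T, (b ^ k) (Subgroup.inclusion hTX x) = Subgroup.inclusion hTX x := by
    intro k
    induction k with
    | zero => exact ⟨fun x => rfl, fun x => rfl⟩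
    | succ k ihk =>
      refine ⟨fun x => ?_, fun x => ?_⟩
      · rw [pow_succ', pow_succ', MulAut.mul_apply, MulAut.mul_apply, ihk.1, hbY]
      · rw [pow_succ', MulAut.mul_apply, ihk.2, hbT]
  have hcY : ∀ x : Y, c (Subgroup.inclusion hYX x) = Subgroup.inclusion hYX ((a : MulAut Y) x) :=
    fun x => by rw [hcdef, (hk n).1, han]
  have hcT : ∀ x : T, c (Subgroup.inclusion hTX x) = Subgroup.inclusion hTX x := (hk n).2
  refine ⟨c, hcF, fun x => congrArg Subtype.val (hcY x), ?_⟩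
  have hcI : H85.IsFIso F c := (H85.mem_autGroup hXS).1 hcF
  have hcC : ∀ z : X, (z : Ω) ∈ centralizerIn S Y → (c z : Ω) ∈ centralizerIn S Y := by
    intro z hz
    refine H85.mem_centralizerIn.2 ⟨hXS (c z).2, fun y hy => ?_⟩
    obtain ⟨v, hv⟩ := (a : MulAut Y).surjective ⟨y, hy⟩
    have h1 : Subgroup.inclusion hYX v * z = z * Subgroup.inclusion hYX v :=
      Subtype.ext ((H85.mem_centralizerIn.1 hz).2 v v.2)
    have h2 := congrArg (fun w => ((c w : X) : Ω)) h1
    simp only [map_mul, Subgroup.coe_mul, hcY, hv] at h2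
    exact h2
  -- displacement inside `C_S(T)`
  set P₂ := Y ⊔ centralizerIn (centralizerIn S T) Y with hP₂
  have hP₂W : P₂ ≤ centralizerIn S T := sup_le hYW inf_le_left
  have hP₂X : P₂ ≤ X := sup_le_sup_left (fun w (hw : w ∈ centralizerIn (centralizerIn S T) Y) =>
    H85.mem_centralizerIn.2 ⟨hw.1.1, (H85.mem_centralizerIn.1 hw).2⟩) Y
  have : Finite P₂ := H85.finite_of_le (hP₂X.trans hXS)
  have hcW : ∀ z : X, (z : Ω) ∈ centralizerIn S T → (c z : Ω) ∈ centralizerIn S T := by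
    intro z hz
    refine H85.mem_centralizerIn.2 ⟨hXS (c z).2, fun t ht => ?_⟩
    have h1 : Subgroup.inclusion hTX ⟨t, ht⟩ * z = z * Subgroup.inclusion hTX ⟨t, ht⟩ :=
      Subtype.ext ((H85.mem_centralizerIn.1 hz).2 t ht)
    have h2 := congrArg (fun w => ((c w : X) : Ω)) h1
    simp only [map_mul, Subgroup.coe_mul, hcT] at h2
    exact h2
  have hm₂ : ∀ z : P₂, (c (Subgroup.inclusion hP₂X z) : Ω) ∈ P₂ := by
    intro z
    have hle : P₂ ≤ (P₂.comap ((X.subtype.comp c.toMonoidHom).comp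
        (Subgroup.inclusion hP₂X))).map P₂.subtype := sup_le
      (fun w hw => ⟨⟨w, Subgroup.mem_sup_left hw⟩, Subgroup.mem_sup_left
        (show (c _ : Ω) ∈ Y from (congrArg Subtype.val (hcY ⟨w, hw⟩)).symm ▸
          ((a : MulAut Y) ⟨w, hw⟩).2), rfl⟩)
      (fun w (hw : w ∈ centralizerIn (centralizerIn S T) Y) =>
        ⟨⟨w, Subgroup.mem_sup_right hw⟩, Subgroup.mem_sup_right
        ⟨hcW _ hw.1, (hcC _ (H85.mem_centralizerIn.2
          ⟨hw.1.1, (H85.mem_centralizerIn.1 hw).2⟩)).2⟩, rfl⟩)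
    obtain ⟨w, hw, hwz⟩ := hle z.2
    exact (Subtype.ext hwz : w = z) ▸ hw
  have hc₂ := H85.restrict hcI hP₂X
  have hr₂ := range_eq_self_of_le F hc₂ (by rintro _ ⟨z, rfl⟩; exact hm₂ z)
  set c₂ := autOfHom _ (F.injective_of_mem hc₂) hr₂ with hc₂def
  have hc₂C : c₂ ∈ C.autGroup P₂ := (H85.mem_autGroup hP₂W).2
    ⟨hc₂, hP₂W, fun z => hP₂W (hm₂ z), _, H85.restrict hcI (sup_le hP₂X hTX),
      fun z => rfl, fun t => congrArg Subtype.val (hcT t)⟩
  have hdisp : ∀ z : X, (z : Ω) ∈ centralizerIn S T → (z : Ω) ∈ centralizerIn S Y →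
      (z : Ω)⁻¹ * (c z : Ω) ∈ Y := fun z hz hz' =>
    displace_mem_centE hS hE hP₂W hc₂C
      ⟨(z : Ω), Subgroup.mem_sup_right ⟨hz, hz'.2⟩⟩
  intro z hz
  have hzC := hcC z hz
  have hwY : (z : Ω)⁻¹ * (c z : Ω) ∈ centralizerIn S Y := mul_mem (inv_mem hz) hzC
  have hwW : (z : Ω)⁻¹ * (c z : Ω) ∈ centralizerIn S T := by
    refine H85.mem_centralizerIn.2 ⟨mul_mem (inv_mem hz.1) hzC.1, fun t ht => ?_⟩
    have ht' : (z : Ω) * t * (z : Ω)⁻¹ ∈ T := normal_of_stronglyClosed F hTc hz.1 ht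
    have h1 : z * Subgroup.inclusion hTX ⟨t, ht⟩ * z⁻¹ = Subgroup.inclusion hTX ⟨_, ht'⟩ :=
      Subtype.ext rfl
    have h2 := congrArg (fun w => ((c w : X) : Ω)) h1
    simp only [map_mul, map_inv, Subgroup.coe_mul, Subgroup.coe_inv, hcT] at h2
    change (c z : Ω) * t * (c z : Ω)⁻¹ = (z : Ω) * t * (z : Ω)⁻¹ at h2
    calc t * ((z : Ω)⁻¹ * (c z : Ω))
        = (z : Ω)⁻¹ * ((z : Ω) * t * (z : Ω)⁻¹) * (c z : Ω) := by group
      _ = (z : Ω)⁻¹ * (c z : Ω) * t := by rw [← h2]; group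
  refine ⟨?_, hwY.2⟩
  let w : X := z⁻¹ * c z
  have hcw : c z = z * w := by simp [w]
  have hstep : ∀ k : ℕ, ∃ y : Y, (c ^ k) z = z * w ^ k * Subgroup.inclusion hYX y := by
    intro k
    induction k with
    | zero => exact ⟨1, by simp⟩
    | succ k ihk =>
      obtain ⟨y, hy⟩ := ihk
      have hw' : ((w ^ k : X) : Ω)⁻¹ * (c (w ^ k) : Ω) ∈ Y := hdisp _
        (by rw [Subgroup.coe_pow]; exact pow_mem hwW k)
        (by rw [Subgroup.coe_pow]; exact pow_mem hwY k)
      refine ⟨⟨_, hw'⟩ * (a : MulAut Y) y, ?_⟩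
      rw [pow_succ' c, MulAut.mul_apply, hy, map_mul, map_mul, hcw, hcY, map_mul,
        show Subgroup.inclusion hYX ⟨_, hw'⟩ = (w ^ k)⁻¹ * c (w ^ k) from Subtype.ext rfl,
        pow_succ' w]
      group
  obtain ⟨y, hy⟩ := hstep (orderOf c)
  rw [pow_orderOf_eq_one, MulAut.one_apply] at hy
  have h1 : (w : Ω) ^ orderOf c ∈ Y := by
    have h2 : w ^ orderOf c = (Subgroup.inclusion hYX y)⁻¹ := by
      refine eq_inv_of_mul_eq_one_left ?_
      rw [mul_assoc] at hy
      exact mul_left_cancel (a := z) (by rw [mul_one]; exact hy.symm)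
    rw [← Subgroup.coe_pow, h2]
    exact Y.inv_mem y.2
  obtain ⟨j, hj⟩ := exists_pow_eq_self_of_coprime (x := w) (n := orderOf c) (by
    obtain ⟨i, hi⟩ := (hS.to_le hXS) w
    refine Nat.Coprime.of_dvd_right (orderOf_dvd_of_pow_eq_one hi) ?_
    exact Nat.Coprime.pow_right i hn)
  show (w : Ω) ∈ Y
  rw [← hj, Subgroup.coe_pow, Subgroup.coe_pow]
  exact pow_mem h1 j

end H86
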