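import Cfsg.Agent.H86.PrimeSat
import Cfsg.Agent.H85.CentricExt

/-! The least saturated subsystem of index prime to `p`. -/

set_option autoImplicit false

open Cfsg Cfsg.FusionSystem

namespace H86

variable {Ω : Type*} [Group Ω] {S : Subgroup Ω} [Finite S] {p : ℕ} [Fact p.Prime]

theorem goodCl_of_saturated (hS : IsPGroup p S) {F : FusionSystem S} (hF : F.IsSaturated p)
    {D : FusionSystem S} (hDs : D.IsSaturated p) (hDF : D.IsSubsystemOf F) : GoodCl D F := by
  intro ε hε P hP h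
  suffices H : ∀ (n : ℕ) (P : Subgroup Ω) (hP : F.IsCentric P), Nat.card S - Nat.card P ≤ n →
      (dmap ε).comp (Subgroup.inclusion hP.1) ∈ D.Hom P → ε ∈ D.autGroup S from H _ P hP le_rfl h
  intro n
  induction n using Nat.strong_induction_on with
  | _ n ihn =>
  intro P hP hn hφ
  rcases eq_or_lt_of_le hP.1 with heq | hlt
  · subst heq
    exact (H85.mem_autGroup le_rfl).2 (H85.hom_congr hφ fun _ => rfl)
  have hεF : H85.IsFIso F ε := (H85.mem_autGroup le_rfl).1 hε
  have hQF : F.IsCentric ((dmap ε).comp (Subgroup.inclusion hP.1)).range :=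
    H85.centric_of_isConj hP ⟨_, H85.restrict hεF hP.1, rfl⟩
  have hQD : D.IsCentric ((dmap ε).comp (Subgroup.inclusion hP.1)).range :=
    ⟨hQF.1, fun R ⟨χ, hχ, hr⟩ => hQF.2 R ⟨χ, hDF _ hχ, hr⟩⟩
  obtain ⟨χ, hχ, hext⟩ :=
    (H85.receptive_of_fullyCentralized hS hDs (H85.centric_fullyCentralized hQD)).2 P _ hφ rfl
  have hNX : normalizerIn S P ≤ extender S P ((dmap ε).comp (Subgroup.inclusion hP.1)) := by
    intro g hg
    refine H85.mem_extender.2 ⟨hg.1, hg.2, ((ε ⟨g, hg.1⟩ : S) : Ω), SetLike.coe_mem _,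
      fun x hx => ?_⟩
    show ((ε ⟨g * x * g⁻¹, _⟩ : S) : Ω) = (ε ⟨g, hg.1⟩ : S) * (ε ⟨x, _⟩ : S) *
      ((ε ⟨g, hg.1⟩ : S) : Ω)⁻¹
    rw [← Subgroup.coe_inv, ← Subgroup.coe_mul, ← Subgroup.coe_mul, ← map_inv, ← map_mul, ← map_mul]
    rfl
  have hNS : normalizerIn S P ≤ S := H85.normalizerIn_le P
  have hPN : P ≤ normalizerIn S P := H85.le_normalizerIn hP.1
  have hχN := H85.restrict hχ hNX
  obtain ⟨z, -, -, hz⟩ := H85.centric_agree hS hF hPN hP (hDF _ hχN)
    (H85.restrict hεF hNS) fun x hx => hext x hx (hNX x.2)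
  have hc := D.conj_mem (P := normalizerIn S P) hNS (hNS z.2)
  have hεN := D.comp_mem hc hχN fun x => mul_mem (mul_mem z.2 x.2) (inv_mem z.2)
  have hcN : F.IsCentric (normalizerIn S P) := H85.centric_mono hP hPN hNS
  have hlt' := card_lt_card_normalizerIn hS le_rfl hlt
  have : Nat.card (normalizerIn S P) ≤ Nat.card S := Subgroup.card_le_of_le hNS
  exact ihn (Nat.card S - Nat.card (normalizerIn S P)) (by omega) _ hcN le_rfl
    (H85.hom_congr hεN fun x =>
      (congrArg (χ.comp (Subgroup.inclusion hNX)) (Subtype.ext rfl)).trans (hz x).symm)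

theorem primeToPIndex_of_good (hS : IsPGroup p S) {F : FusionSystem S} (hF : F.IsSaturated p)
    {E : FusionSystem S} (hd : PrimeData p F E) : E.HasPrimeToPIndexIn F p :=
  ⟨hd.sub, fun _ hP => opAut_le_iff.2 fun _ ha hk => pElement_mem hS hF hd.inv hd.good hP ha hk⟩

theorem minSysCl_le (hS : IsPGroup p S) {F : FusionSystem S} (hF : F.IsSaturated p)
    {D : FusionSystem S} (hDs : D.IsSaturated p) (hD : D.HasPrimeToPIndexIn F p) :
    (minSysCl p F).IsSubsystemOf D :=
  residual_le F ⟨fun P hP _ ha hk => hD.2 P hP.1 (mem_opAut ha hk),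
    goodCl_of_saturated hS hF hDs hD.1⟩

theorem isPPrimeResidual_minSysCl (hS : IsPGroup p S) {F : FusionSystem S}
    (hF : F.IsSaturated p) : F.IsPPrimeResidual p (minSysCl p F) :=
  ⟨isSaturated_minSysCl hS hF, primeToPIndex_of_good hS hF primeData_minSysCl,
    fun _ hDs hD => minSysCl_le hS hF hDs hD⟩

theorem eq_minSysCl (hS : IsPGroup p S) {F : FusionSystem S} (hF : F.IsSaturated p)
    {D : FusionSystem S} (hD : F.IsPPrimeResidual p D) : D = minSysCl p F :=
  H85.fusionSystem_le_antisymm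
    (hD.2.2 _ (isSaturated_minSysCl hS hF) (primeToPIndex_of_good hS hF primeData_minSysCl))
    (minSysCl_le hS hF hD.1 hD.2.1)

end H86
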