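import Cfsg.Agent.H86.ExtStep
import Cfsg.Agent.H86.PrimeLeast

/-! The residual of index prime to `p` of a weakly normal subsystem is normal. -/

set_option autoImplicit false

open Cfsg Cfsg.FusionSystem

namespace H86

variable {Ω : Type*} [Group Ω] {S T : Subgroup Ω} [Finite S] {p : ℕ} [Fact p.Prime]
  {F : FusionSystem S} {E : FusionSystem T}

/-- The product `z = c⁻¹ ψ(c)` lies in the image of the source. -/
theorem extC_defect_mem (hE : E.IsWeaklyNormalIn F p) {P : Subgroup Ω} (hP : E.IsCentric P)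
    {φ : P →* Ω} (hφ : φ ∈ E.Hom P) {ψ : ↥(P ⊔ centralizerIn S T) →* Ω}
    (hψ : ψ ∈ F.Hom (P ⊔ centralizerIn S T))
    (hext : ∀ x : P, ψ (Subgroup.inclusion le_sup_left x) = φ x)
    (c : ↥(P ⊔ centralizerIn S T)) (hc : (c : Ω) ∈ centralizerIn S T)
    (hz : (c : Ω)⁻¹ * ψ c ∈ T) : ∃ w : P, (c : Ω)⁻¹ * ψ c = φ w := by
  have hφT : ∀ x : P, φ x ∈ T := (E.le_of_mem hφ).2
  have hcP : ∀ x : P, (x : Ω) * c = c * x := fun x =>
    (H85.mem_centralizerIn.1 hc).2 x (hP.1 x.2)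
  have h : (c : Ω)⁻¹ * ψ c ∈ centralizerIn T φ.range := by
    refine H85.mem_centralizerIn.2 ⟨hz, ?_⟩
    rintro _ ⟨x, rfl⟩
    have h1 : φ x * ψ c = ψ c * φ x := by
      rw [← hext x, ← map_mul, ← map_mul]
      exact congrArg ψ (Subtype.ext (hcP x))
    have h3 : (c : Ω) * φ x * (c : Ω)⁻¹ = φ x := by
      rw [← (H85.mem_centralizerIn.1 hc).2 _ (hφT x), mul_inv_cancel_right]
    calc φ x * ((c : Ω)⁻¹ * ψ c) = (c : Ω)⁻¹ * ((c : Ω) * φ x * (c : Ω)⁻¹) * ψ c := by group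
      _ = (c : Ω)⁻¹ * (φ x * ψ c) := by rw [h3, mul_assoc]
      _ = (c : Ω)⁻¹ * ψ c * φ x := by rw [h1, mul_assoc]
  have hrc : E.IsCentric φ.range := H85.centric_of_isConj hP ⟨φ, hφ, rfl⟩
  obtain ⟨w, hw⟩ := H85.centric_self hrc h
  exact ⟨w, hw.symm⟩

theorem extC_range {P Q : Subgroup Ω} {φ : P →* Ω}
    {ψ : ↥(P ⊔ centralizerIn S T) →* Ω}
    (hext : ∀ x : P, ψ (Subgroup.inclusion le_sup_left x) = φ x)
    (hdef : ∀ c : ↥(P ⊔ centralizerIn S T), (c : Ω) ∈ centralizerIn S T →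
      (c : Ω)⁻¹ * ψ c ∈ φ.range)
    (hQ : φ.range ≤ Q) (x : ↥(P ⊔ centralizerIn S T)) : ψ x ∈ Q ⊔ centralizerIn S T := by
  have hle : P ⊔ centralizerIn S T ≤
      ((Q ⊔ centralizerIn S T).comap ψ).map (P ⊔ centralizerIn S T).subtype := by
    refine sup_le ?_ ?_
    · exact fun y hy => ⟨⟨y, le_sup_left (α := Subgroup Ω) hy⟩,
        le_sup_left (α := Subgroup Ω) ((hext ⟨y, hy⟩).symm ▸ hQ ⟨_, rfl⟩), rfl⟩
    · intro y hy
      refine ⟨⟨y, le_sup_right (α := Subgroup Ω) hy⟩, ?_, rfl⟩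
      show ψ _ ∈ Q ⊔ centralizerIn S T
      have h := hdef ⟨y, le_sup_right (α := Subgroup Ω) hy⟩ hy
      have h2 := mul_mem (le_sup_right (α := Subgroup Ω) hy : y ∈ Q ⊔ centralizerIn S T)
        (le_sup_left (α := Subgroup Ω) (hQ h))
      rwa [mul_inv_cancel_left] at h2
  obtain ⟨y, hy, hyx⟩ := hle x.2
  exact (Subtype.ext hyx : y = x) ▸ hy

theorem extC_conj (hE : E.IsWeaklyNormalIn F p) {P : Subgroup Ω} (hP : P ≤ T) {g : Ω}
    (hg : g ∈ T) : ExtC F T P (Cfsg.conjHom P g) := by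
  have hTS := hE.2.2.2.1.1
  refine ⟨Cfsg.conjHom _ g,
    F.conj_mem (sup_le (hP.trans hTS) (H85.centralizerIn_le T)) (hTS hg), fun x => rfl,
    fun c hc => ?_⟩
  rw [H85.conjHom_apply, (H85.mem_centralizerIn.1 hc).2 g hg, mul_inv_cancel_right,
    inv_mul_cancel]
  exact one_mem _

theorem extC_comp (hE : E.IsWeaklyNormalIn F p) {P Q : Subgroup Ω} (hP : E.IsCentric P)
    {φ χ : P →* Ω} {ψ : Q →* Ω} (hφ : φ ∈ E.Hom P) (hψ : ψ ∈ E.Hom Q)
    (h₁ : ExtC F T P φ) (h₂ : ExtC F T Q ψ) (hm : ∀ x : P, φ x ∈ Q)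
    (e : ∀ x : P, χ x = ψ ⟨φ x, hm x⟩) : ExtC F T P χ := by
  obtain ⟨φ', hφ', hext, hC⟩ := h₁
  obtain ⟨ψ', hψ', hext', hC'⟩ := h₂
  have hle : φ.range ≤ Q := by
    rintro _ ⟨x, rfl⟩
    exact hm x
  have hdef : ∀ c : ↥(P ⊔ centralizerIn S T), (c : Ω) ∈ centralizerIn S T →
      (c : Ω)⁻¹ * φ' c ∈ φ.range := fun c hc => by
    obtain ⟨w, hw⟩ := extC_defect_mem hE hP hφ hφ' hext c hc (hC c hc)
    exact ⟨w, hw.symm⟩
  refine ⟨_, F.comp_mem hφ' hψ' (extC_range hext hdef hle), fun x => ?_, fun c hc => ?_⟩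
  · rw [e, ← hext' ⟨φ x, hm x⟩]
    exact congrArg ψ' (Subtype.ext (hext x))
  · obtain ⟨w, hw⟩ := extC_defect_mem hE hP hφ hφ' hext c hc (hC c hc)
    let c' : ↥(Q ⊔ centralizerIn S T) := ⟨(c : Ω), le_sup_right (α := Subgroup Ω) hc⟩
    have h1 : (⟨φ' c, extC_range hext hdef hle c⟩ : ↥(Q ⊔ centralizerIn S T)) =
        c' * Subgroup.inclusion le_sup_left (⟨φ w, hm w⟩ : Q) := by
      refine Subtype.ext ?_
      show φ' c = (c : Ω) * φ w
      rw [← hw, mul_inv_cancel_left]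
    show (c : Ω)⁻¹ * ψ' ⟨φ' c, _⟩ ∈ T
    rw [h1, map_mul, hext', ← mul_assoc]
    exact mul_mem (hC' c' hc) ((E.le_of_mem hψ).2 _)

theorem extC_inv (hE : E.IsWeaklyNormalIn F p) {P : Subgroup Ω} (hP : E.IsCentric P)
    {φ : P →* Ω} (hφ : φ ∈ E.Hom P) {f : φ.range →* Ω}
    (hfe : ∀ x : P, f ⟨φ x, x, rfl⟩ = x) (h : ExtC F T P φ) : ExtC F T φ.range f := by
  obtain ⟨φ', hφ', hext, hC⟩ := h
  let i := H85.isoOf φ' hφ' rfl
  have hle : φ.range ⊔ centralizerIn S T ≤ φ'.range := by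
    refine sup_le ?_ ?_
    · rintro _ ⟨x, rfl⟩
      exact ⟨_, hext x⟩
    · intro c hc
      obtain ⟨w, hw⟩ := extC_defect_mem hE hP hφ hφ' hext
        ⟨c, le_sup_right (α := Subgroup Ω) hc⟩ hc (hC _ hc)
      refine ⟨⟨c, le_sup_right (α := Subgroup Ω) hc⟩ * (Subgroup.inclusion le_sup_left w)⁻¹, ?_⟩
      rw [map_mul, map_inv, hext, ← hw]
      show φ' _ * (c⁻¹ * φ' _)⁻¹ = c
      group
  refine ⟨_, H85.restrict (H85.isFIso_isoOf φ' hφ' rfl).symm hle, ?_, fun c hc => ?_⟩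
  · rintro ⟨_, x, rfl⟩
    rw [hfe]
    show ((i.symm ⟨φ x, _⟩ : ↥(P ⊔ centralizerIn S T)) : Ω) = x
    exact congrArg Subtype.val (H85.isoOf_symm_apply φ' hφ' rfl
      (x := Subgroup.inclusion le_sup_left x) (hext x))
  · let c₀ : ↥(P ⊔ centralizerIn S T) := ⟨(c : Ω), le_sup_right (α := Subgroup Ω) hc⟩
    obtain ⟨w, hw⟩ := extC_defect_mem hE hP hφ hφ' hext c₀ hc (hC _ hc)
    show (c : Ω)⁻¹ * ((i.symm _ : ↥(P ⊔ centralizerIn S T)) : Ω) ∈ T
    rw [H85.isoOf_symm_apply φ' hφ' rfl (x := c₀ * (Subgroup.inclusion le_sup_left w)⁻¹)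
      (y := Subgroup.inclusion hle c) (by
        rw [map_mul, map_inv, hext, ← hw]
        show φ' c₀ * ((c : Ω)⁻¹ * φ' c₀)⁻¹ = c
        group)]
    show (c : Ω)⁻¹ * ((c : Ω) * (w : Ω)⁻¹) ∈ T
    rw [inv_mul_cancel_left]
    exact inv_mem (hP.1 w.2)

theorem extC_restrict {P Q : Subgroup Ω} (hPQ : P ≤ Q) {φ : Q →* Ω} (h : ExtC F T Q φ) :
    ExtC F T P (φ.comp (Subgroup.inclusion hPQ)) := by
  obtain ⟨ψ, hψ, hext, hC⟩ := h
  exact ⟨_, H85.restrict hψ (sup_le_sup_right hPQ _), fun x => hext (Subgroup.inclusion hPQ x),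
    fun c hc => hC (Subgroup.inclusion (sup_le_sup_right hPQ _) c) hc⟩

/-- The automorphisms of `T` in `E` with an extension acting trivially on `C_S(T)` modulo `T`. -/
def extGroup (hE : E.IsWeaklyNormalIn F p) : Subgroup (MulAut T) where
  carrier := {a | a ∈ E.autGroup T ∧ ExtC F T T (T.subtype.comp a.toMonoidHom)}
  one_mem' := ⟨one_mem _, by
    obtain ⟨ψ, hψ, hext, hC⟩ := extC_conj hE (P := T) le_rfl (one_mem T)
    exact ⟨ψ, hψ, fun x => (hext x).trans (by rw [H85.conjHom_apply]; simp), hC⟩⟩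
  mul_mem' := by
    rintro a b ⟨ha, hea⟩ ⟨hb, heb⟩
    have : Finite T := H85.finite_of_le hE.2.2.2.1.1
    exact ⟨mul_mem ha hb, extC_comp hE (H85.centric_top E) ((H85.mem_autGroup le_rfl).1 hb)
      ((H85.mem_autGroup le_rfl).1 ha) heb hea (fun x => (b x).2) fun x => rfl⟩
  inv_mem' := by
    rintro a ⟨ha, hea⟩
    have : Finite T := H85.finite_of_le hE.2.2.2.1.1
    refine ⟨inv_mem ha, ?_⟩
    have hφ := (H85.mem_autGroup (le_rfl : T ≤ T)).1 ha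
    have hle : T ≤ (T.subtype.comp a.toMonoidHom).range := fun y hy =>
      ⟨a⁻¹ ⟨y, hy⟩, congrArg Subtype.val (MulAut.apply_inv_self _ a _)⟩
    have hr : (T.subtype.comp a.toMonoidHom).range ≤ T := by
      rintro _ ⟨x, rfl⟩
      exact (a x).2
    have h := extC_restrict hle (extC_inv hE (H85.centric_top E) hφ
      (f := T.subtype.comp (a⁻¹.toMonoidHom.comp (Subgroup.inclusion hr))) (fun x => by
        show ((a⁻¹ (Subgroup.inclusion hr ⟨(a x : Ω), _⟩) : T) : Ω) = x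
        rw [show Subgroup.inclusion hr ⟨(a x : Ω), x, rfl⟩ = a x from Subtype.ext rfl,
          MulAut.inv_apply_self]) hea)
    exact h

/-- Closure under restrictions to centric subgroups. -/
theorem extGroup_closed (hS : IsPGroup p S) (hE : E.IsWeaklyNormalIn F p) {ε : MulAut T}
    (hε : ε ∈ E.autGroup T) {P : Subgroup Ω} (hP : E.IsCentric P)
    (h : ExtC F T P ((dmap ε).comp (Subgroup.inclusion hP.1))) : ε ∈ extGroup hE := by
  have hF := hE.2.1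
  have hTc := hE.2.2.2.1
  have hTS := hTc.1
  have : Finite T := H85.finite_of_le hTS
  unfold ExtC at h
  set C := centralizerIn S T with hCdef
  obtain ⟨ψ, hψ, hext, hC⟩ := h
  have hPS : P ≤ S := hP.1.trans hTS
  have hR : P ⊔ C ≤ S := sup_le hPS (H85.centralizerIn_le T)
  have hA : T ⊔ C ≤ S := sup_le hTS (H85.centralizerIn_le T)
  have : Finite ↥(P ⊔ C) := H85.finite_of_le hR
  have : Finite ↥(T ⊔ C) := H85.finite_of_le hA
  have hεF : H85.IsFIso F ε := hE.2.2.1 _ ((H85.mem_autGroup le_rfl).1 hε)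
  obtain ⟨ψ₀, hψ₀, hext₀⟩ := H85.receptive_extend
    (H85.receptive_of_fullyNormalized hS hF (fullyNormalized_stronglyClosed hTc)) hεF
  have hX : pc S T ≤ extender S T (T.subtype.comp ε.toMonoidHom) :=
    sup_le (H85.le_extender hTS fun x => H85.map_mem hεF x) (H85.centralizerIn_le_extender _ _)
  obtain ⟨β, hβ, hβe⟩ := exists_aut_pc hψ₀ hX fun x hx => by
    rw [show ψ₀ x = (ε ⟨x, hx⟩ : Ω) from hext₀ x hx x.2]
    exact SetLike.coe_mem _
  have hβT : ∀ x : T, β (Subgroup.inclusion le_sup_left x) =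
      Subgroup.inclusion le_sup_left (ε x) :=
    fun x => Subtype.ext ((hβe _).trans (hext₀ x x.2 _))
  have hβiT : ∀ x : T, β⁻¹ (Subgroup.inclusion le_sup_left x) =
      Subgroup.inclusion le_sup_left (ε⁻¹ x) := fun x => by
    conv_lhs => rw [← MulAut.apply_inv_self _ ε x, ← hβT, MulAut.inv_apply_self]
  have hcent : ∀ a : MulAut ↥(T ⊔ C), (∀ x : T, ∃ y : T,
      a (Subgroup.inclusion le_sup_left y) = Subgroup.inclusion le_sup_left x) →
      ∀ c : ↥(T ⊔ C), (c : Ω) ∈ C → (a c : Ω) ∈ C := by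
    intro a ha c hc
    refine H85.mem_centralizerIn.2 ⟨hA (a c).2, fun x hx => ?_⟩
    obtain ⟨y, hy⟩ := ha ⟨x, hx⟩
    have h1 : a (Subgroup.inclusion le_sup_left y) * a c =
        a c * a (Subgroup.inclusion le_sup_left y) := by
      rw [← map_mul, ← map_mul]
      exact congrArg a (Subtype.ext ((H85.mem_centralizerIn.1 hc).2 y y.2))
    rw [hy] at h1
    exact congrArg Subtype.val h1
  have hβiC : ∀ c : ↥(T ⊔ C), (c : Ω) ∈ C → (β⁻¹ c : Ω) ∈ C :=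
    hcent β⁻¹ fun x => ⟨ε x, by rw [hβiT, MulAut.inv_apply_self]⟩
  have hβC : ∀ c : ↥(T ⊔ C), (c : Ω) ∈ C → (β c : Ω) ∈ C :=
    hcent β fun x => ⟨ε⁻¹ x, by rw [hβT, MulAut.apply_inv_self]⟩
  -- `f = β⁻¹ ψ`
  have hφE : (dmap ε).comp (Subgroup.inclusion hP.1) ∈ E.Hom P :=
    H85.restrict ((H85.mem_autGroup le_rfl).1 hε) hP.1
  have hdef : ∀ c : ↥(P ⊔ C), (c : Ω) ∈ C →
      (c : Ω)⁻¹ * ψ c ∈ ((dmap ε).comp (Subgroup.inclusion hP.1)).range := fun c hc => by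
    obtain ⟨w, hw⟩ := extC_defect_mem hE hP hφE hψ hext c hc (hC c hc)
    exact ⟨w, hw.symm⟩
  have hψT : ∀ x, ψ x ∈ T ⊔ C := extC_range hext hdef (by rintro _ ⟨x, rfl⟩; exact SetLike.coe_mem _)
  set f₁ : ↥(P ⊔ C) →* Ω := ((T ⊔ C).subtype.comp β⁻¹.toMonoidHom).comp (ψ.codRestrict _ hψT)
    with hf₁def
  have hf₁ : f₁ ∈ F.Hom (P ⊔ C) :=
    F.comp_mem hψ ((H85.mem_autGroup hA).1 (inv_mem hβ)) hψT
  have hf₁P : ∀ x : P, f₁ (Subgroup.inclusion le_sup_left x) = x := by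
    intro x
    have h1 : ψ.codRestrict _ hψT (Subgroup.inclusion le_sup_left x) =
        Subgroup.inclusion (le_sup_left : T ≤ T ⊔ C) (ε (Subgroup.inclusion hP.1 x)) :=
      Subtype.ext (hext x)
    show ((β⁻¹ (ψ.codRestrict _ hψT (Subgroup.inclusion le_sup_left x)) : ↥(T ⊔ C)) : Ω) = x
    rw [h1, hβiT, MulAut.inv_apply_self]
    rfl
  have hf₁C : ∀ (c : Ω) (hc : c ∈ C), ∃ w : P,
      f₁ ⟨c, le_sup_right (α := Subgroup Ω) hc⟩ =
        (β⁻¹ ⟨c, le_sup_right (α := Subgroup Ω) hc⟩ : Ω) * w := by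
    intro c hc
    obtain ⟨w, hw⟩ := extC_defect_mem hE hP hφE hψ hext ⟨c, le_sup_right (α := Subgroup Ω) hc⟩ hc
      (hC _ hc)
    refine ⟨w, ?_⟩
    have h1 : ψ.codRestrict _ hψT ⟨c, le_sup_right (α := Subgroup Ω) hc⟩ =
        ⟨c, le_sup_right (α := Subgroup Ω) hc⟩ *
          Subgroup.inclusion (le_sup_left : T ≤ T ⊔ C) (ε (Subgroup.inclusion hP.1 w)) := by
      refine Subtype.ext ?_
      show ψ _ = c * ((dmap ε).comp (Subgroup.inclusion hP.1)) w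
      rw [← hw]
      show _ = c * (c⁻¹ * ψ _)
      rw [mul_inv_cancel_left]
    show ((β⁻¹ (ψ.codRestrict _ hψT ⟨c, _⟩) : ↥(T ⊔ C)) : Ω) = _
    rw [h1, map_mul, hβiT, MulAut.inv_apply_self]
    rfl
  have hle : P ⊔ C ≤ ((P ⊔ C).comap f₁).map (P ⊔ C).subtype := by
    refine sup_le ?_ ?_
    · exact fun y hy => ⟨⟨y, le_sup_left (α := Subgroup Ω) hy⟩,
        le_sup_left (α := Subgroup Ω) ((hf₁P ⟨y, hy⟩).symm ▸ hy), rfl⟩
    · intro c hc
      obtain ⟨w, hw⟩ := hf₁C c hc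
      refine ⟨⟨c, le_sup_right (α := Subgroup Ω) hc⟩, ?_, rfl⟩
      show f₁ _ ∈ P ⊔ C
      rw [hw]
      exact mul_mem (le_sup_right (α := Subgroup Ω) (hβiC _ hc))
        (le_sup_left (α := Subgroup Ω) w.2)
  have hf₁r : f₁.range = P ⊔ C := range_eq_self_of_le F hf₁ (by
    rintro _ ⟨x, rfl⟩
    obtain ⟨y, hy, hyx⟩ := hle x.2
    exact (Subtype.ext hyx : y = x) ▸ hy)
  set f : MulAut ↥(P ⊔ C) := autOfHom f₁ (F.injective_of_mem hf₁) hf₁r with hfdef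
  have hf : f ∈ F.autGroup (P ⊔ C) := autOfHom_mem F hf₁ hf₁r
  have hfP : ∀ x : ↥(P ⊔ C), (x : Ω) ∈ P → (f x : Ω) = x := fun x hx =>
    (congrArg f₁ (Subtype.ext rfl)).trans (hf₁P ⟨x, hx⟩)
  have hfC : ∀ (c : Ω) (hc : c ∈ C), ((β⁻¹ ⟨c, le_sup_right (α := Subgroup Ω) hc⟩ : ↥(T ⊔ C)) : Ω)⁻¹ *
      (f ⟨c, le_sup_right (α := Subgroup Ω) hc⟩ : ↥(P ⊔ C)) ∈ T := by
    intro c hc
    obtain ⟨w, hw⟩ := hf₁C c hc
    show _⁻¹ * f₁ ⟨c, _⟩ ∈ T
    rw [hw, inv_mul_cancel_left]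
    exact hP.1 w.2
  have hTP : ∀ t ∈ T, (∀ x ∈ P, x * t = t * x) → t ∈ P := fun t ht h =>
    H85.centric_self hP (H85.mem_centralizerIn.2 ⟨ht, h⟩)
  obtain ⟨i, m, hm, him⟩ := Nat.exists_eq_pow_mul_and_not_dvd (orderOf_pos f).ne' p
    (Nat.Prime.ne_one Fact.out)
  have hford : ¬ p ∣ orderOf (f ^ p ^ i) := by
    rw [orderOf_pow_of_dvd (pow_ne_zero _ (Nat.Prime.ne_zero Fact.out))
      (him ▸ dvd_mul_right _ _), him, Nat.mul_div_cancel_left _
      (Nat.pow_pos (Nat.Prime.pos Fact.out))]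
    exact hm
  have hfk : ∀ x : ↥(P ⊔ C), (x : Ω) ∈ P → ((f ^ p ^ i) x : Ω) = x := by
    intro x hx
    have : ∀ k : ℕ, (f ^ k) x = x := by
      intro k
      induction k with
      | zero => rfl
      | succ k ihk => rw [pow_succ', MulAut.mul_apply, ihk]; exact Subtype.ext (hfP x hx)
    exact congrArg Subtype.val (this _)
  obtain ⟨γ, hγ, hγT, hγC⟩ := exists_fix_aut hS hE hP (pow_mem hf (p ^ i)) hfk hford
  -- the `p^i`-th power of `ε` has an extension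
  have hpi : ε ^ p ^ i ∈ extGroup hE := by
    have hδ := (H85.mem_autGroup hA).1 (mul_mem (pow_mem hβ (p ^ i)) hγ)
    have hβk : ∀ (k : ℕ) (x : T), (β ^ k) (Subgroup.inclusion le_sup_left x) =
        Subgroup.inclusion le_sup_left ((ε ^ k) x) := by
      intro k
      induction k with
      | zero => intro x; rfl
      | succ k ihk => intro x; rw [pow_succ', pow_succ', MulAut.mul_apply, MulAut.mul_apply, ihk, hβT]
    refine ⟨pow_mem hε _, _, hδ, fun x => ?_, fun c hc => ?_⟩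
    · show (((β ^ p ^ i) (γ (Subgroup.inclusion le_sup_left x)) : ↥(T ⊔ C)) : Ω) = _
      rw [show γ (Subgroup.inclusion le_sup_left x) = Subgroup.inclusion le_sup_left x from
        Subtype.ext (hγT _ x.2), hβk]
      rfl
    · set k := p ^ i
      obtain ⟨hb1, hb2⟩ := pow_congr (γ := β⁻¹) (f := f) hTS le_sup_right le_sup_right le_sup_left hR
        hP.1 hTP hβiC hfP hfC k c hc
      have hg := hγC c hc
      set a : ↥(T ⊔ C) := (β⁻¹ ^ k) ⟨(c : Ω), le_sup_right (α := Subgroup Ω) hc⟩ with hadef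
      set d : Ω := (((f ^ k) ⟨(c : Ω), le_sup_right (α := Subgroup Ω) hc⟩ : ↥(P ⊔ C)) : Ω)
      have ht : (a : Ω)⁻¹ * (γ ⟨(c : Ω), le_sup_right (α := Subgroup Ω) hc⟩ : ↥(T ⊔ C)) ∈ T := by
        have h := mul_mem hb2 (inv_mem hg)
        rwa [mul_inv_rev, inv_inv, ← mul_assoc, mul_inv_cancel_right] at h
      show (c : Ω)⁻¹ * (((β ^ k) (γ c) : ↥(T ⊔ C)) : Ω) ∈ T
      have h1 : γ c = a * Subgroup.inclusion le_sup_left (⟨_, ht⟩ : T) := by
        refine Subtype.ext ?_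
        show (γ c : Ω) = (a : Ω) * ((a : Ω)⁻¹ * (γ ⟨(c : Ω), _⟩ : ↥(T ⊔ C)))
        rw [mul_inv_cancel_left]
      have hka : (β ^ k) a = ⟨(c : Ω), le_sup_right (α := Subgroup Ω) hc⟩ := by
        rw [hadef, inv_pow, MulAut.apply_inv_self]
      rw [h1, map_mul, hβk, hka, Subgroup.coe_mul, inv_mul_cancel_left]
      exact SetLike.coe_mem _
  -- the `p`-part of `ε` is inner
  obtain ⟨b, m', hm', hbm⟩ := Nat.exists_eq_pow_mul_and_not_dvd (orderOf_pos ε).ne' p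
    (Nat.Prime.ne_one Fact.out)
  have hpm : ε ^ m' ∈ extGroup hE := by
    refine ⟨pow_mem hε _, extC_pElement hS hE (H85.centric_top E) (pow_mem hε _) ⟨b, ?_⟩⟩
    rw [orderOf_pow_of_dvd (fun h => hm' (by rw [h]; exact dvd_zero p))
      (hbm ▸ dvd_mul_left _ _), hbm, Nat.mul_div_cancel _ (Nat.pos_of_ne_zero
        fun h => hm' (by rw [h]; exact dvd_zero p))]
  have hcop : Nat.gcd (p ^ i) m' = 1 :=
    Nat.Coprime.pow_left _ ((Nat.Prime.coprime_iff_not_dvd Fact.out).2 hm')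
  have hbez := Nat.gcd_eq_gcd_ab (p ^ i) m'
  rw [hcop] at hbez
  have : ε = (ε ^ p ^ i) ^ (Nat.gcdA (p ^ i) m') * (ε ^ m') ^ (Nat.gcdB (p ^ i) m') := by
    rw [← zpow_natCast ε (p ^ i), ← zpow_natCast ε m', ← zpow_mul, ← zpow_mul, ← zpow_add, ← hbez]
    simp
  rw [this]
  exact mul_mem (zpow_mem hpi _) (zpow_mem hpm _)

theorem residual_normal (hS : IsPGroup p S) (hE : E.IsWeaklyNormalIn F p) :
    (minSysCl p E).IsNormalIn F p := by
  have hF := hE.2.1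
  obtain ⟨hEF, hTc, -, hfr⟩ := hE.2.2
  have hTS := hTc.1
  have : Finite T := H85.finite_of_le hTS
  have hTp : IsPGroup p T := hS.to_le hTS
  have hd : PrimeData p E (minSysCl p E) := primeData_minSysCl
  have hn := fun (α : MulAut T) (hα : α ∈ F.autGroup T) =>
    normAut_of_strongInv (strongInv_of_invariant hE.2.2) hTS hα
  refine ⟨⟨isSaturated_minSysCl hTp hE.1, hF, fun P φ hφ => hEF P (hd.sub P hφ), hTc,
    fun P hPT φ hφ α hα => ?_, fun P hPT φ hφ => ?_⟩, ?_⟩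
  · obtain ⟨χ, hχ, he⟩ := normAut_minSysCl (p := p) (hn α hα) (hn _ (inv_mem hα)) P φ hφ
    exact ⟨χ, hχ, fun x _ hαx => he x hαx⟩
  · obtain ⟨α, hα, e, he, hφe⟩ := hfr P hPT φ hφ
    obtain ⟨δ, hδ, d, hd', hed⟩ := frattini_centric hTp hE.1 hd.inv hd.good he
    have hδF : δ ∈ F.autGroup T :=
      (H85.mem_autGroup hTS).2 (hEF _ ((H85.mem_autGroup le_rfl).1 hδ))
    refine ⟨α * δ, mul_mem hα hδF, d, hd', fun x hx => ?_⟩
    rw [hφe x ((E.le_of_mem he).2 x), MulAut.mul_apply]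
    congr 2
    exact Subtype.ext (hed x hx)
  · intro α hα
    let D' : FusionSystem T :=
      { Hom := fun P => {φ | φ ∈ E.Hom P ∧ (E.IsCentric P → ExtC F T P φ)}
        le_of_mem := fun h => E.le_of_mem h.1
        injective_of_mem := fun h => E.injective_of_mem h.1
        conj_mem := fun hP hg => ⟨E.conj_mem hP hg, fun _ => extC_conj hE hP hg⟩
        comp_mem := fun {P Q φ ψ} hφ hψ h => ⟨E.comp_mem hφ.1 hψ.1 h, fun hP => by
          have hc : E.IsCentric φ.range := H85.centric_of_isConj hP ⟨φ, hφ.1, rfl⟩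
          have hle : φ.range ≤ Q := by rintro _ ⟨x, rfl⟩; exact h x
          exact extC_comp hE hP hφ.1 hψ.1 (hφ.2 hP)
            (hψ.2 (H85.centric_mono hc hle (H85.source_le hψ.1))) h fun _ => rfl⟩
        inv_mem := fun {P φ} hφ => by
          obtain ⟨f, hf, hfe⟩ := E.inv_mem hφ.1
          refine ⟨f, ⟨hf, fun hc => ?_⟩, hfe⟩
          have hP : E.IsCentric P :=
            H85.centric_of_isConj hc (H85.isConj_symm ⟨φ, hφ.1, rfl⟩)
          exact extC_inv hE hP hφ.1 hfe (hφ.2 hP) }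
    have hle : (minSysCl p E).IsSubsystemOf D' := by
      refine residual_le E ⟨fun P hP a ha hk => ?_, fun ε hε P hP h => ?_⟩
      · exact (H85.mem_autGroup hP.1).2
          ⟨(H85.mem_autGroup hP.1).1 ha, fun _ => extC_pElement hS hE hP ha hk⟩
      · exact (H85.mem_autGroup le_rfl).2
          ⟨(H85.mem_autGroup le_rfl).1 hε, fun _ => (extGroup_closed hS hE hε hP (h.2 hP)).2⟩
    obtain ⟨ψ, hψ, hext, hC⟩ :=
      (hle T ((H85.mem_autGroup le_rfl).1 hα)).2 (H85.centric_top E)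
    obtain ⟨β, hβ, hβe⟩ := exists_aut_pc hψ (le_rfl : pc S T ≤ T ⊔ centralizerIn S T) fun x hx => by
      rw [show ψ x = (α ⟨x, hx⟩ : Ω) from hext ⟨x, hx⟩]
      exact SetLike.coe_mem _
    refine ⟨β, hβ, fun x => (hβe _).trans (hext x), fun c hc => ?_⟩
    have hz : (c : Ω)⁻¹ * (β c : Ω) ∈ T := by
      rw [hβe]
      exact hC c hc
    obtain ⟨w, hw⟩ := extC_defect_mem hE (H85.centric_top E)
      (H85.hom_congr (hd.sub T ((H85.mem_autGroup le_rfl).1 hα)) fun _ => rfl) hψ hext c hc (hC c hc)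
    refine ⟨hz, Subgroup.mem_centralizer_iff.2 fun t ht => ?_⟩
    have hψc : (β c : Ω) = ψ c := hβe c
    obtain ⟨s, hs⟩ := α.surjective ⟨t, ht⟩
    have hts : ψ (Subgroup.inclusion le_sup_left s) = t :=
      (hext s).trans (congrArg Subtype.val hs)
    have h1 : t * ψ c = ψ c * t := by
      rw [← hts, ← map_mul, ← map_mul]
      exact congrArg ψ (Subtype.ext ((H85.mem_centralizerIn.1 hc).2 s s.2))
    have h2 : (c : Ω) * t * (c : Ω)⁻¹ = t := by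
      rw [← (H85.mem_centralizerIn.1 hc).2 t ht, mul_inv_cancel_right]
    rw [hψc]
    calc t * ((c : Ω)⁻¹ * ψ c) = (c : Ω)⁻¹ * ((c : Ω) * t * (c : Ω)⁻¹) * ψ c := by group
      _ = (c : Ω)⁻¹ * (t * ψ c) := by rw [h2, mul_assoc]
      _ = (c : Ω)⁻¹ * ψ c * t := by rw [h1, mul_assoc]

end H86
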