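import Cfsg.Agent.H86.PrimeIndex
import Cfsg.Agent.H86.ExtStep

/-! A weakly normal subsystem is determined by its automorphisms of the base. -/

set_option autoImplicit false

open Cfsg Cfsg.FusionSystem

namespace H86

variable {Ω : Type*} [Group Ω] {S T : Subgroup Ω}

/-- The intersection of two fusion systems on the same subgroup. -/
def infSys (D E : FusionSystem T) : FusionSystem T where
  Hom P := {φ | φ ∈ E.Hom P ∧ φ ∈ D.Hom P}
  le_of_mem h := E.le_of_mem h.1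
  injective_of_mem h := E.injective_of_mem h.1
  conj_mem hP hg := ⟨E.conj_mem hP hg, D.conj_mem hP hg⟩
  comp_mem hφ hψ h := ⟨E.comp_mem hφ.1 hψ.1 h, D.comp_mem hφ.2 hψ.2 h⟩
  inv_mem := by
    intro P φ hφ
    obtain ⟨ψ, hψ, he⟩ := E.inv_mem hφ.1
    obtain ⟨ψ', hψ', he'⟩ := D.inv_mem hφ.2
    refine ⟨ψ, ⟨hψ, H85.hom_congr hψ' ?_⟩, he⟩
    rintro ⟨_, x, rfl⟩
    rw [he, he']

variable [Finite S] {p : ℕ} [Fact p.Prime] {F : FusionSystem S} {E D : FusionSystem T}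

theorem normAut_infSys (hE : E.IsWeaklyNormalIn F p) (hD : D.IsWeaklyNormalIn F p) {α : MulAut T}
    (hα : α ∈ F.autGroup T) : NormAut (infSys D E) α := by
  intro P φ hφ
  have hT := hE.2.2.2.1.1
  obtain ⟨χ, hχ, he⟩ := normAut_of_strongInv (strongInv_of_invariant hE.2.2) hT hα P φ hφ.1
  obtain ⟨χ', hχ', he'⟩ := normAut_of_strongInv (strongInv_of_invariant hD.2.2) hT hα P φ hφ.2
  refine ⟨χ, ⟨hχ, H85.hom_congr hχ' ?_⟩, he⟩
  rintro ⟨_, s, hs, rfl⟩
  exact (he' ⟨(s : Ω), hs⟩ _).trans (he ⟨(s : Ω), hs⟩ _).symm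

/-- Automorphisms are carried along isomorphisms of `F` between subgroups of `T`. -/
theorem autGroup_transport (hE : E.IsWeaklyNormalIn F p) {P P' : Subgroup Ω} (hPT : P ≤ T)
    (hPT' : P' ≤ T) {e : P ≃* P'} (he : H85.IsFIso F e) {a : MulAut P} (ha : a ∈ E.autGroup P) :
    MulAut.congr e a ∈ E.autGroup P' := by
  have hTS := hE.2.2.2.1.1
  have : Finite T := H85.finite_of_le hTS
  obtain ⟨χ, hχ, hχe⟩ := strongInv_of_invariant hE.2.2 P P le_rfl hPT _
    ((H85.mem_autGroup hPT).1 ha) (fun x => (a x).2) _ he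
  have hle : P' ≤ (P.subgroupOf P).map (P'.subtype.comp e.toMonoidHom) := fun y hy =>
    ⟨e.symm ⟨y, hy⟩, SetLike.coe_mem (e.symm ⟨y, hy⟩),
      congrArg Subtype.val (e.apply_symm_apply ⟨y, hy⟩)⟩
  refine (H85.mem_autGroup hPT').2 (H85.hom_congr (H85.restrict hχ hle) fun y => ?_)
  obtain ⟨x, rfl⟩ := e.surjective y
  show χ ⟨(e x : Ω), hle (e x).2⟩ = (e (a (e.symm (e x))) : Ω)
  rw [MulEquiv.symm_apply_apply]
  exact hχe x (hle (e x).2)

/-- The automorphisms of `p`-power order are common to all weakly normal subsystems on `T`. -/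
theorem pElement_common (hS : IsPGroup p S) (hE : E.IsWeaklyNormalIn F p)
    (hD : D.IsWeaklyNormalIn F p) {P : Subgroup Ω} (hPT : P ≤ T) {a : MulAut P}
    (ha : a ∈ E.autGroup P) (hk : ∃ k : ℕ, orderOf a = p ^ k) : a ∈ D.autGroup P := by
  have hF := hE.2.1
  have hTc := hE.2.2.2.1
  have hTS := hTc.1
  have : Finite T := H85.finite_of_le hTS
  obtain ⟨P₀, hPP₀, hP₀⟩ := H85.exists_fullyNormalized F (hPT.trans hTS)
  have hP₀T : P₀ ≤ T := by
    obtain ⟨φ, hφ, rfl⟩ := hPP₀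
    rintro _ ⟨x, rfl⟩
    exact hTc.2 P hPT φ hφ x
  obtain ⟨e, he⟩ := H85.isConj_iff.1 hPP₀
  have ha₀ := autGroup_transport hE hPT hP₀T he ha
  obtain ⟨γ, hγ, hc⟩ := H85.fullyAutomized_conj (H85.fullyAutomized_of_fullyNormalized
    (hS.to_le hTS) hE.1 (fullyNormalized_weaklyNormal hS hE hP₀T hP₀))
    (Subgroup.zpowers_le.2 ha₀) (isPGroup_zpowers (by
      obtain ⟨k, hk⟩ := hk
      exact ⟨k, (MulEquiv.orderOf_eq (MulAut.congr e) a).trans hk⟩))
  have hb := H85.autInducedBy_le_autGroup D hP₀T (hc _ (Subgroup.mem_zpowers _))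
  have hγF : H85.IsFIso F γ := hE.2.2.1 _ ((H85.mem_autGroup hP₀T).1 hγ)
  have h1 := autGroup_transport hD hP₀T hP₀T hγF.symm hb
  have h2 := autGroup_transport hD hP₀T hPT he.symm h1
  convert h2 using 1
  refine MulEquiv.ext fun x => ?_
  show a x = e.symm (γ.symm ((γ * MulAut.congr e a * γ⁻¹) (γ (e x))))
  rw [MulAut.mul_apply, MulAut.mul_apply, MulAut.inv_apply_self]
  show a x = e.symm (γ.symm (γ (e (a (e.symm (e x))))))
  simp

theorem hom_le_of_autGroup_le (hS : IsPGroup p S) (hE : E.IsWeaklyNormalIn F p)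
    (hD : D.IsWeaklyNormalIn F p) (hT : E.autGroup T ≤ D.autGroup T) : E.IsSubsystemOf D := by
  have hTS := hE.2.2.2.1.1
  have : Finite T := H85.finite_of_le hTS
  have hG : GoodC p (infSys D E) E := fun P hP a ha hk =>
    (H85.mem_autGroup hP.1).2 ⟨(H85.mem_autGroup hP.1).1 ha,
      (H85.mem_autGroup hP.1).1 (pElement_common hS hE hD hP.1 ha hk)⟩
  have hA : ∀ δ ∈ E.autGroup T, NormAut (infSys D E) δ := fun δ hδ => normAut_infSys hE hD
    ((H85.mem_autGroup hTS).2 (hE.2.2.1 _ ((H85.mem_autGroup le_rfl).1 hδ)))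
  intro P φ hφ
  obtain ⟨ε, hε, φ₀, h₀, he⟩ := frattini_centric (hS.to_le hTS) hE.1 hA hG hφ
  exact comp_mem' D h₀.2 ((H85.mem_autGroup le_rfl).1 (hT hε)) (D.le_of_mem h₀.2).2
    fun x => he x ((D.le_of_mem h₀.2).2 x)

theorem hom_eq_of_autGroup_eq (hS : IsPGroup p S) (hE : E.IsWeaklyNormalIn F p)
    (hD : D.IsWeaklyNormalIn F p) (hT : E.autGroup T = D.autGroup T) (P : Subgroup Ω) :
    E.Hom P = D.Hom P :=
  Set.Subset.antisymm (hom_le_of_autGroup_le hS hE hD hT.le P)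
    (hom_le_of_autGroup_le hS hD hE hT.ge P)

omit [Finite S] in
/-- If the `p`-elements of `A₂` lie in `A₁`, so does every element of `A₂` congruent to an element
of `A₁` modulo a `p`-element. -/
theorem mem_of_pElement_defect {X : Type*} [Group X] [Finite X] {A₁ A₂ : Subgroup X}
    (hn : A₁.Normal) (hp : ∀ a ∈ A₂, (∃ k : ℕ, orderOf a = p ^ k) → a ∈ A₁) {x y : X}
    (hx : x ∈ A₁) (hy : y ∈ A₂) (hxy : ∃ k : ℕ, orderOf (x⁻¹ * y) = p ^ k) : y ∈ A₁ := by
  obtain ⟨b, m, hm, hbm⟩ := Nat.exists_eq_pow_mul_and_not_dvd (orderOf_pos y).ne' p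
    (Nat.Prime.ne_one Fact.out)
  have hym : y ^ m ∈ A₁ := hp _ (pow_mem hy _) ⟨b, by
    rw [orderOf_pow_of_dvd (fun h => hm (by rw [h]; exact dvd_zero p))
      (hbm ▸ dvd_mul_left _ _), hbm, Nat.mul_div_cancel _ (Nat.pos_of_ne_zero
        fun h => hm (by rw [h]; exact dvd_zero p))]⟩
  obtain ⟨k, hk⟩ := hxy
  have h1 : QuotientGroup.mk' A₁ y = QuotientGroup.mk' A₁ (x⁻¹ * y) := by
    rw [map_mul, map_inv, (QuotientGroup.eq_one_iff x).2 hx |> fun h =>
      (show QuotientGroup.mk' A₁ x = 1 from h), inv_one, one_mul]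
  have h2 : orderOf (QuotientGroup.mk' A₁ y) ∣ m :=
    orderOf_dvd_of_pow_eq_one (by rw [← map_pow]; exact (QuotientGroup.eq_one_iff _).2 hym)
  have h3 : orderOf (QuotientGroup.mk' A₁ y) ∣ p ^ k := by
    rw [h1, ← hk]
    exact orderOf_map_dvd _ _
  have hcop : Nat.Coprime (p ^ k) m :=
    Nat.Coprime.pow_left _ ((Nat.Prime.coprime_iff_not_dvd Fact.out).2 hm)
  have h4 : orderOf (QuotientGroup.mk' A₁ y) = 1 :=
    Nat.eq_one_of_dvd_coprimes hcop h3 h2
  exact (QuotientGroup.eq_one_iff y).1 (orderOf_eq_one_iff.1 h4)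

/-- The automorphisms of `p`-power order of the base are inner. -/
theorem pElement_inn (hS : IsPGroup p S) (hE : E.IsWeaklyNormalIn F p) {a : MulAut T}
    (ha : a ∈ E.autGroup T) (hk : ∃ k : ℕ, orderOf a = p ^ k) : a ∈ Cfsg.Inn T := by
  have hTS := hE.2.2.2.1.1
  have : Finite T := H85.finite_of_le hTS
  obtain ⟨γ, -, hc⟩ := H85.fullyAutomized_conj (H85.fullyAutomized_of_fullyNormalized
    (hS.to_le hTS) hE.1 (fullyNormalized_stronglyClosed (stronglyClosed_self E)))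
    (Subgroup.zpowers_le.2 ha) (isPGroup_zpowers hk)
  obtain ⟨g, hg, hge⟩ := H85.mem_autInducedBy.1 (hc a (Subgroup.mem_zpowers a))
  refine ⟨γ⁻¹ ⟨g, hg⟩, MulEquiv.ext fun x => γ.injective ?_⟩
  refine Subtype.ext ?_
  have h1 := hge (γ x)
  rw [MulAut.mul_apply, MulAut.mul_apply, MulAut.inv_apply_self] at h1
  rw [h1]
  show ((γ (γ⁻¹ ⟨g, hg⟩ * x * (γ⁻¹ ⟨g, hg⟩)⁻¹) : T) : Ω) = _
  rw [map_mul, map_mul, map_inv, MulAut.apply_inv_self]
  rfl

end H86
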