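import Cfsg.Agent.H86.TrivMod
import Cfsg.Agent.H86.ExtStep
import Cfsg.Agent.H86.SubsystemEq

/-! Every automorphism in `E` of an `E`-centric subgroup `P` extends to `P C_S(P)` acting trivially
modulo `P`, for a normal subsystem `E`. -/

set_option autoImplicit false

open Cfsg Cfsg.FusionSystem
open scoped Pointwise

namespace H86

variable {Ω : Type*} [Group Ω] {S T : Subgroup Ω}

/-- The extension property at `P`. -/
def ExtAt (F : FusionSystem S) (E : FusionSystem T) (P : Subgroup Ω) : Prop :=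
  ∀ a ∈ E.autGroup P, ∃ f ∈ F.autGroup (pc S P), f ∈ trivMod P (pc S P) ∧
    ∀ x : P, (f (Subgroup.inclusion le_sup_left x) : Ω) = a x

theorem normalizes_pc (P : Subgroup Ω) : pc S P ≤ Subgroup.normalizer (P : Set Ω) :=
  sup_le Subgroup.le_normalizer ((H85.centralizerIn_le_normalizerIn P).trans inf_le_right)

/-- Decomposition in `P C_S(P)`. -/
theorem mem_pc {P : Subgroup Ω} {x : Ω} (hx : x ∈ pc S P) :
    ∃ q ∈ P, ∃ w ∈ centralizerIn S P, q * w = x := by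
  have h : x ∈ ((P : Set Ω) * (centralizerIn S P : Set Ω) : Set Ω) := by
    rw [← Subgroup.coe_mul_of_right_le_normalizer_left P _
      ((H85.centralizerIn_le_normalizerIn P).trans inf_le_right)]
    exact hx
  exact h

theorem inf_pc_le {E : FusionSystem T} {P : Subgroup Ω} (hP : E.IsCentric P) {x : Ω} (hx : x ∈ T)
    (hx' : x ∈ pc S P) : x ∈ P := by
  obtain ⟨q, hq, w, hw, rfl⟩ := mem_pc hx'
  have hwT : w ∈ T := by
    have := T.mul_mem (T.inv_mem (hP.1 hq)) hx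
    rwa [inv_mul_cancel_left] at this
  exact P.mul_mem hq (H85.centric_self hP ⟨hwT, hw.2⟩)

variable [Finite S] {p : ℕ} [Fact p.Prime] {F : FusionSystem S} {E : FusionSystem T}

/-- Transfer from a fully normalized conjugate. -/
theorem extAt_of_fn (hS : IsPGroup p S) (hE : E.IsWeaklyNormalIn F p) {P : Subgroup Ω}
    (hP : E.IsCentric P)
    (h : ∀ P₀, F.IsFullyNormalized P₀ → F.IsConj P P₀ → ExtAt F E P₀) : ExtAt F E P := by
  intro a ha
  have hTS := hE.2.2.2.1.1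
  have hPS : P ≤ S := hP.1.trans hTS
  obtain ⟨P₀, hPP₀, hP₀⟩ := H85.exists_fullyNormalized F hPS
  obtain ⟨m, hm, -, himg⟩ := H85.exists_map_to_fullyNormalized hS hE.2.1 hP₀ hPP₀
  have hPN : P ≤ normalizerIn S P := H85.le_normalizerIn hPS
  let e : P ≃* P₀ :=
    (H85.resIso m (F.injective_of_mem hm) hPN).trans (MulEquiv.subgroupCongr himg)
  have he : H85.IsFIso F e := H85.hom_congr (H85.restrict hm hPN) fun x => rfl
  have hc₀ : E.IsCentric P₀ := centric_of_conj hE hP hPP₀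
  obtain ⟨f₀, hf₀, hf₀t, hf₀e⟩ := h P₀ hP₀ hPP₀ _ (autGroup_transport hE hP.1 hc₀.1 he ha)
  have hXN : pc S P ≤ normalizerIn S P := pc_le_normalizerIn hPS
  have hg := H85.restrict hm hXN
  set g : pc S P →* Ω := m.comp (Subgroup.inclusion hXN)
  have hgr : g.range ≤ pc S P₀ := by
    rintro _ ⟨x, rfl⟩
    obtain ⟨q, hq, w, hw, hqw⟩ := mem_pc x.2
    have hqX : q ∈ pc S P := le_sup_left (α := Subgroup Ω) hq
    have hwX : w ∈ pc S P := le_sup_right (α := Subgroup Ω) hw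
    rw [show x = (⟨q, hqX⟩ : pc S P) * ⟨w, hwX⟩ from Subtype.ext hqw.symm, map_mul]
    refine mul_mem (Subgroup.mem_sup_left ?_) (Subgroup.mem_sup_right
      (H85.extend_maps_centralizer (e := e) (le_sup_left : P ≤ pc S P) (fun z => rfl)
        (H85.map_mem hg _) (g := ⟨w, hwX⟩) hw))
    exact (congrArg m (Subtype.ext rfl) :
      g ⟨q, hqX⟩ = (e ⟨q, hq⟩ : Ω)) ▸ (e ⟨q, hq⟩).2
  have hP₀g : P₀ ≤ g.range := by
    intro y hy
    obtain ⟨z, hz⟩ := e.surjective ⟨y, hy⟩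
    exact ⟨Subgroup.inclusion le_sup_left z, (congrArg m (Subtype.ext rfl)).trans
      (congrArg Subtype.val hz)⟩
  obtain ⟨f₁, hf₁, hf₁t, -, hf₁e⟩ := exists_res_trivMod (pc_le hP₀.1) hf₀ hf₀t hP₀g hgr
  let r : pc S P ≃* g.range := H85.isoOf g hg rfl
  have hr : H85.IsFIso F r := H85.isFIso_isoOf g hg rfl
  have hrP : ∀ x : P, (r (Subgroup.inclusion le_sup_left x) : Ω) = e x := fun x =>
    congrArg m (Subtype.ext rfl)
  refine ⟨MulAut.congr r.symm f₁, (H85.mem_autGroup (pc_le hPS)).2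
    (((hr.trans ((H85.mem_autGroup (hgr.trans (pc_le hP₀.1))).1 hf₁)).trans hr.symm).congr
      fun _ => rfl), fun x => ?_, fun x => ?_⟩
  · have h1 := hf₁t (r x)
    obtain ⟨z, hz⟩ := e.surjective ⟨_, h1⟩
    have h2 : f₁ (r x) = r (x * Subgroup.inclusion le_sup_left z) := by
      refine Subtype.ext ?_
      rw [map_mul, Subgroup.coe_mul, hrP, hz, mul_inv_cancel_left]
    show (x : Ω)⁻¹ * ((r.symm (f₁ (r x)) : pc S P) : Ω) ∈ P
    rw [h2, r.symm_apply_apply, Subgroup.coe_mul, inv_mul_cancel_left]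
    exact z.2
  · have h2 : f₁ (r (Subgroup.inclusion le_sup_left x)) =
        r (Subgroup.inclusion le_sup_left (a x)) := by
      refine Subtype.ext ?_
      rw [hf₁e, hrP, show (Subgroup.inclusion hgr (r (Subgroup.inclusion le_sup_left x)) :
        pc S P₀) = Subgroup.inclusion le_sup_left (e x) from Subtype.ext (hrP x), hf₀e]
      show (e (a (e.symm (e x))) : Ω) = _
      rw [e.symm_apply_apply]
    show ((r.symm (f₁ (r (Subgroup.inclusion le_sup_left x))) : pc S P) : Ω) = a x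
    rw [h2, r.symm_apply_apply]
    rfl

set_option maxHeartbeats 2000000 in
theorem extAt_step (hS : IsPGroup p S) (hE : E.IsWeaklyNormalIn F p) {P : Subgroup Ω}
    (hP : E.IsCentric P) (hPn : F.IsFullyNormalized P) (hlt : P < T)
    (ih : ExtAt F E (normalizerIn T P)) : ExtAt F E P := by
  classical
  have hF := hE.2.1
  have hTc := hE.2.2.2.1
  have hTS := hTc.1
  have hEF := hE.2.2.1
  have hTp : IsPGroup p T := hS.to_le hTS
  have : Finite T := H85.finite_of_le hTS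
  have hPT := hP.1
  have hPS : P ≤ S := hPn.1
  have : Finite P := H85.finite_of_le hPS
  have : Finite (MulAut P) := Finite.of_injective (fun e => (e : P → P)) DFunLike.coe_injective
  set X := pc S P with hXdef
  have hXS : X ≤ S := pc_le hPS
  have : Finite X := H85.finite_of_le hXS
  have hPX : P ≤ X := le_sup_left
  set Y := normalizerIn T P with hYdef
  have hYT : Y ≤ T := inf_le_left
  have hPY : P ≤ Y := H85.le_normalizerIn hPT
  have : Finite Y := H85.finite_of_le (hYT.trans hTS)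
  have hYc : E.IsCentric Y := H85.centric_mono hP hPY hYT
  set W := centralizerIn S P with hWdef
  have hrec := H85.receptive_of_fullyNormalized hS hF hPn
  have hEn := fullyNormalized_weaklyNormal hS hE hPT hPn
  let K : Subgroup (trivMod P X) := ((F.autGroup X).subgroupOf (trivMod P X)) ⊓
    (E.autGroup P).comap (resTriv hPX)
  let A₀ : Subgroup (MulAut P) := K.map (resTriv hPX)
  have hA₀ : A₀ ≤ E.autGroup P := by
    rintro _ ⟨k, hk, rfl⟩
    exact hk.2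
  have hA₀e : ∀ a ∈ A₀, ∃ f ∈ F.autGroup X, f ∈ trivMod P X ∧
      ∀ x : P, (f (Subgroup.inclusion le_sup_left x) : Ω) = a x := by
    rintro _ ⟨k, hk, rfl⟩
    exact ⟨k, hk.1, k.2, fun x => rfl⟩
  -- the elements of `Aut_T(P)`
  have hA₀T : ∀ a ∈ autInducedBy T P, a ∈ A₀ := by
    intro a ha
    obtain ⟨t, ht, hte⟩ := H85.mem_autInducedBy.1 ha
    have htN : t ∈ Subgroup.normalizer (P : Set Ω) := H85.mem_normalizer_of_induced hte
    obtain ⟨c, hc, hce⟩ := exists_aut_pc (ψ := Cfsg.conjHom X t) (F.conj_mem hXS (hTS ht)) le_rfl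
      fun x hx => H85.conj_mem_of_mem_normalizer htN hx
    have hct : c ∈ trivMod P X := fun x => by
      refine inf_pc_le (S := S) hP ?_ (X.mul_mem (X.inv_mem x.2) (c x).2)
      rw [hce, H85.conjHom_apply,
        show (x : Ω)⁻¹ * (t * (Subgroup.inclusion (le_refl X) x : Ω) * t⁻¹) =
          (x : Ω)⁻¹ * t * (x : Ω)⁻¹⁻¹ * t⁻¹ by simp [mul_assoc]]
      exact mul_mem (normal_of_stronglyClosed F hTc (inv_mem (hXS x.2)) ht) (inv_mem ht)
    refine ⟨⟨c, hct⟩, ⟨hc, ?_⟩, MulEquiv.ext fun x => Subtype.ext ?_⟩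
    · show resTriv hPX ⟨c, hct⟩ ∈ E.autGroup P
      rw [show resTriv hPX ⟨c, hct⟩ = a from MulEquiv.ext fun x => Subtype.ext
        ((hce _).trans (hte x).symm)]
      exact H85.autInducedBy_le_autGroup E hPT ha
    · exact (hce _).trans (hte x).symm
  -- normality
  have hA₀n : ∀ a ∈ E.autGroup P, ∀ k ∈ A₀, a * k * a⁻¹ ∈ A₀ := by
    rintro a ha _ ⟨k, hk, rfl⟩
    have haF : H85.IsFIso F a := hEF P ((H85.mem_autGroup hPT).1 ha)
    obtain ⟨ψ, hψ, hext⟩ := H85.receptive_extend hrec haF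
    have hXe : X ≤ extender S P (P.subtype.comp a.toMonoidHom) :=
      sup_le (H85.le_extender hPS fun x => H85.map_mem haF x) (H85.centralizerIn_le_extender _ _)
    obtain ⟨b, hb, hbe⟩ := exists_aut_pc hψ hXe fun x hx => by
      rw [show ψ x = (a ⟨x, hx⟩ : Ω) from hext x hx x.2]
      exact SetLike.coe_mem _
    have hbP : ∀ x : P, (b (Subgroup.inclusion le_sup_left x) : Ω) = a x :=
      fun x => (hbe _).trans (hext x x.2 _)
    have hkt : b * (k : MulAut X) * b⁻¹ ∈ trivMod P X := fun x => by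
      have h1 := (k : trivMod P X).2 (b⁻¹ x)
      let q : P := ⟨_, h1⟩
      have h2 : (k : MulAut X) (b⁻¹ x) = b⁻¹ x * Subgroup.inclusion le_sup_left q :=
        Subtype.ext (by simp [q])
      rw [MulAut.mul_apply, MulAut.mul_apply, h2, map_mul, MulAut.apply_inv_self,
        Subgroup.coe_mul, inv_mul_cancel_left, hbP]
      exact (a q).2
    have hres : resTriv hPX ⟨_, hkt⟩ = a * resTriv hPX k * a⁻¹ := by
      refine MulEquiv.ext fun x => Subtype.ext ?_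
      rw [resTriv_apply, MulAut.mul_apply, MulAut.mul_apply, MulAut.mul_apply, MulAut.mul_apply]
      have h1 : b⁻¹ ⟨(x : Ω), hPX x.2⟩ = Subgroup.inclusion le_sup_left (a⁻¹ x) := by
        apply b.injective
        rw [MulAut.apply_inv_self]
        exact Subtype.ext (((hbP _).trans
          (congrArg Subtype.val (MulAut.apply_inv_self _ a x))).symm)
      rw [h1]
      have h2 : (k : MulAut X) (Subgroup.inclusion le_sup_left (a⁻¹ x)) =
          Subgroup.inclusion le_sup_left (resTriv hPX k (a⁻¹ x)) := Subtype.ext rfl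
      rw [h2]
      exact hbP _
    refine ⟨⟨_, hkt⟩, ⟨mul_mem (mul_mem hb hk.1) (inv_mem hb), ?_⟩, hres⟩
    show resTriv hPX ⟨_, hkt⟩ ∈ E.autGroup P
    rw [hres]
    exact mul_mem (mul_mem ha hk.2) (inv_mem ha)
  have hA₀p : ∀ a ∈ E.autGroup P, (∃ k : ℕ, orderOf a = p ^ k) → a ∈ A₀ := by
    intro a ha hk
    obtain ⟨γ, hγ, hc⟩ := H85.fullyAutomized_conj
      (H85.fullyAutomized_of_fullyNormalized hTp hE.1 hEn) (Subgroup.zpowers_le.2 ha)
      (isPGroup_zpowers hk)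
    have h := hA₀n _ (inv_mem hγ) _ (hA₀T _ (hc a (Subgroup.mem_zpowers a)))
    simpa [mul_assoc] using h
  intro a ha
  refine hA₀e a ?_
  obtain ⟨k, hk, β, hβ, hkβ, ψ, hψ, hψe⟩ := frattini_step hTp hE.1 hEn (K := A₀) hA₀ hA₀n ha Y
    le_rfl (fun g hg => hA₀T _ (H85.conjAut_range T P ▸ ⟨⟨g, hg⟩, rfl⟩))
  rw [hkβ]
  refine mul_mem hk ?_
  -- `β` extends to an automorphism `a'` of `Y`
  have hY' : Y ≤ P ⊔ Y := le_sup_right
  have hψY := H85.restrict hψ hY'
  have hψP : ∀ x : ↥(P ⊔ Y), (x : Ω) ∈ P → ψ x ∈ P := fun x hx => by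
    rw [show x = Subgroup.inclusion le_sup_left (⟨(x : Ω), hx⟩ : P) from Subtype.ext rfl, hψe]
    exact SetLike.coe_mem _
  have hYr : (ψ.comp (Subgroup.inclusion hY')).range = Y := range_eq_self_of_le E hψY (by
    rintro _ ⟨y, rfl⟩
    exact mem_normalizerIn_of_map hψ le_sup_left (img_eq_of_mapsTo hψ le_sup_left hψP) y.2.2)
  set Z := pc S Y with hZdef
  obtain ⟨f, hf, hft, hfe⟩ := ih _ (autOfHom_mem E hψY hYr)
  set a' : MulAut Y := autOfHom _ (E.injective_of_mem hψY) hYr with ha'def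
  have ha'E : a' ∈ E.autGroup Y := autOfHom_mem E hψY hYr
  have hfY : ∀ y : Y, (f (Subgroup.inclusion le_sup_left y) : Ω) = a' y := hfe
  have ha'P : ∀ x : P, (a' (Subgroup.inclusion hPY x) : Ω) = β x := fun x => hψe x
  have hYS : Y ≤ S := hYT.trans hTS
  have hZS : Z ≤ S := pc_le hYS
  have : Finite Z := H85.finite_of_le hZS
  have hYZ : Y ≤ Z := le_sup_left
  have hPZ : P ≤ Z := hPY.trans hYZ
  have hfP : ∀ x : P, (f (Subgroup.inclusion hPZ x) : Ω) = β x := fun x =>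
    (congrArg (fun z => ((f z : Z) : Ω)) (Subtype.ext rfl)).trans
      ((hfY (Subgroup.inclusion hPY x)).trans (ha'P x))
  have hWn : ∀ g ∈ W, ∀ z ∈ Z, g * z * g⁻¹ ∈ Z := by
    intro g hg z hz
    have hgY : g ∈ Subgroup.normalizer (Y : Set Ω) := by
      refine H85.mem_normalizer_of_conj fun y hy => ⟨normal_of_stronglyClosed F hTc hg.1 (hYT hy), ?_⟩
      exact Subgroup.mul_mem _ (Subgroup.mul_mem _ ((H85.centralizerIn_le_normalizerIn P hg).2) hy.2)
        (Subgroup.inv_mem _ ((H85.centralizerIn_le_normalizerIn P hg).2))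
    obtain ⟨q, hq, w, hw, rfl⟩ := mem_pc hz
    rw [show g * (q * w) * g⁻¹ = (g * q * g⁻¹) * (g * w * g⁻¹) by group]
    refine mul_mem (Subgroup.mem_sup_left (H85.conj_mem_of_mem_normalizer hgY hq))
      (Subgroup.mem_sup_right (H85.mem_centralizerIn.2
        ⟨mul_mem (mul_mem hg.1 hw.1) (inv_mem hg.1), fun v hv => ?_⟩))
    have hv' := H85.conj_mem_of_mem_normalizer' hgY hv
    have h1 := (H85.mem_centralizerIn.1 hw).2 _ hv'
    calc v * (g * w * g⁻¹) = g * ((g⁻¹ * v * g) * w) * g⁻¹ := by group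
      _ = g * (w * (g⁻¹ * v * g)) * g⁻¹ := by rw [h1]
      _ = g * w * g⁻¹ * v := by group
  have hgY : ∀ g ∈ W, ∀ y ∈ Y, g * y * g⁻¹ ∈ Y := fun g hg y hy =>
    ⟨normal_of_stronglyClosed F hTc hg.1 (hYT hy),
      Subgroup.mul_mem _ (Subgroup.mul_mem _ ((H85.centralizerIn_le_normalizerIn P hg).2) hy.2)
        (Subgroup.inv_mem _ ((H85.centralizerIn_le_normalizerIn P hg).2))⟩
  have hgP : ∀ g ∈ W, ∀ x ∈ P, g * x * g⁻¹ = x := fun g hg x hx => by
    rw [← (H85.mem_centralizerIn.1 hg).2 x hx, mul_inv_cancel_right]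
  -- the automorphisms of `Z` fixing `P` and acting modulo `Y` like an element of `W`
  let M : Submonoid (MulAut Z) :=
    { carrier := {u | u ∈ F.autGroup Z ∧ (∀ x : Z, (x : Ω) ∈ P → u x = x) ∧
        ∃ g ∈ W, ∀ x : Z, (g * (x : Ω) * g⁻¹)⁻¹ * u x ∈ Y}
      one_mem' := ⟨one_mem _, fun _ _ => rfl, 1, one_mem _, fun x => by simp⟩
      mul_mem' := by
        rintro u v ⟨hu, huP, g, hg, hge⟩ ⟨hv, hvP, g', hg', hge'⟩
        refine ⟨mul_mem hu hv, fun x hx => by rw [MulAut.mul_apply, hvP x hx, huP x hx],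
          g * g', mul_mem hg hg', fun x => ?_⟩
        have hy := hge' x
        let w : Z := ⟨g' * x * g'⁻¹, hWn g' hg' x x.2⟩
        let y : Z := ⟨_, hYZ hy⟩
        have h1 : v x = w * y := Subtype.ext (by simp [w, y, mul_assoc])
        have hyY : (u y : Ω) ∈ Y := by
          have h2 := Y.mul_mem (hgY g hg y hy) (hge y)
          rwa [mul_inv_cancel_left] at h2
        rw [MulAut.mul_apply, h1, map_mul, Subgroup.coe_mul, ← mul_assoc]
        refine Y.mul_mem ?_ hyY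
        have h3 := hge w
        rwa [show g * (w : Ω) * g⁻¹ = g * g' * x * (g * g')⁻¹ by simp [w, mul_assoc]] at h3 }
  have hfinZ : Finite (MulAut Z) :=
    Finite.of_injective (fun e => (e : Z → Z)) DFunLike.coe_injective
  have hMinv : ∀ u ∈ M, u⁻¹ ∈ M := fun u hu => by
    have h : u⁻¹ = u ^ (orderOf u - 1) := by
      refine inv_eq_of_mul_eq_one_left ?_
      rw [← pow_succ, Nat.sub_add_cancel (orderOf_pos u), pow_orderOf_eq_one]
    exact h ▸ M.pow_mem hu _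
  let M' : Subgroup (MulAut Z) := { M with inv_mem' := fun {u} hu => hMinv u hu }
  have hMp : IsPGroup p M' := by
    rintro ⟨u, hu⟩
    obtain ⟨hu1, huP, g, hg, hge⟩ := hu
    obtain ⟨j, hj⟩ := hS ⟨g, hg.1⟩
    have hpow : ∀ k : ℕ, ∀ x : Z, (g ^ k * (x : Ω) * (g ^ k)⁻¹)⁻¹ * (u ^ k) x ∈ Y := by
      intro k
      induction k with
      | zero => intro x; simp
      | succ k ihk =>
        intro x
        have hy := ihk x
        let w : Z := ⟨g ^ k * x * (g ^ k)⁻¹, hWn _ (pow_mem hg k) x x.2⟩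
        let y : Z := ⟨_, hYZ hy⟩
        have h1 : (u ^ k) x = w * y := Subtype.ext (by simp [w, y, mul_assoc])
        have hyY : (u y : Ω) ∈ Y := by
          have h2 := Y.mul_mem (hgY g hg y hy) (hge y)
          rwa [mul_inv_cancel_left] at h2
        rw [pow_succ' u, MulAut.mul_apply, h1, map_mul, Subgroup.coe_mul, ← mul_assoc]
        refine Y.mul_mem ?_ hyY
        have h3 := hge w
        rwa [show g * (w : Ω) * g⁻¹ = g ^ (k + 1) * x * (g ^ (k + 1))⁻¹ by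
          simp [w, pow_succ', mul_assoc]] at h3
    have hv : u ^ p ^ j ∈ trivMod Y Z := fun x => by
      have h := hpow (p ^ j) x
      rwa [show g ^ p ^ j = 1 from congrArg Subtype.val hj, one_mul, inv_one, mul_one] at h
    have hvP : ∀ x : Z, (x : Ω) ∈ P → (u ^ p ^ j) x = x := fun x hx => by
      have : ∀ k : ℕ, (u ^ k) x = x := by
        intro k
        induction k with
        | zero => rfl
        | succ k ihk => rw [pow_succ', MulAut.mul_apply, ihk, huP x hx]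
      exact this _
    -- on `Y` it is trivial modulo `P`
    have hYP : resTriv hYZ ⟨_, hv⟩ ∈ trivMod P Y := fun y => by
      set v := resTriv hYZ ⟨_, hv⟩ with hvdef
      refine H85.centric_self hP (H85.mem_centralizerIn.2
        ⟨mul_mem (inv_mem (hYT y.2)) (hYT (v y).2), fun x hx => ?_⟩)
      have hvx : ∀ z (hz : z ∈ P), (v ⟨z, hPY hz⟩ : Ω) = z := fun z hz =>
        (resTriv_apply hYZ _ _).trans (congrArg Subtype.val (hvP _ hz))
      have hxy := H85.conj_mem_of_mem_normalizer y.2.2 hx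
      have h1 := hvx _ hxy
      rw [show (⟨(y : Ω) * x * (y : Ω)⁻¹, hPY hxy⟩ : Y) = y * ⟨x, hPY hx⟩ * y⁻¹ from
        Subtype.ext rfl, map_mul, map_mul, map_inv, Subgroup.coe_mul, Subgroup.coe_mul,
        Subgroup.coe_inv, hvx x hx] at h1
      calc x * ((y : Ω)⁻¹ * v y) = (y : Ω)⁻¹ * ((y : Ω) * x * (y : Ω)⁻¹) * v y := by group
        _ = (y : Ω)⁻¹ * ((v y : Ω) * x * (v y : Ω)⁻¹) * v y := by rw [h1]
        _ = (y : Ω)⁻¹ * v y * x := by group
    obtain ⟨i, hi⟩ := pow_eq_one_trivMod (hS.to_le hYS) hYP fun x hx =>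
      Subtype.ext ((resTriv_apply hYZ _ _).trans (congrArg Subtype.val (hvP _ hx)))
    rw [← map_pow] at hi
    obtain ⟨l, hl⟩ := pow_eq_one_trivMod (hS.to_le hZS) (P := Y)
      (k := ((⟨_, hv⟩ : trivMod Y Z) ^ p ^ i : trivMod Y Z))
      (Subtype.property _) fun x hx => Subtype.ext (congrArg
        (fun w : MulAut Y => ((w ⟨(x : Ω), hx⟩ : Y) : Ω)) hi)
    refine ⟨j + i + l, Subtype.ext ?_⟩
    show u ^ p ^ (j + i + l) = 1
    rw [pow_add, pow_add, pow_mul, pow_mul]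
    exact hl
  obtain ⟨Z₀, hZZ₀, hZ₀⟩ := H85.exists_fullyNormalized F hZS
  obtain ⟨e₀, he₀⟩ := H85.isConj_iff.1 hZZ₀
  have hM₀ : M'.map (MulAut.congr e₀).toMonoidHom ≤ F.autGroup Z₀ := by
    rintro _ ⟨u, hu, rfl⟩
    exact (H85.mem_autGroup hZ₀.1).2
      (((he₀.symm.trans ((H85.mem_autGroup hZS).1 hu.1)).trans he₀).congr fun _ => rfl)
  obtain ⟨δ, hδ, hδM⟩ := H85.fullyAutomized_conj
    (H85.fullyAutomized_of_fullyNormalized hS hF hZ₀) hM₀ (hMp.map _)
  set h : Z ≃* Z₀ := e₀.trans δ with hhdef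
  have hh : H85.IsFIso F h := he₀.trans ((H85.mem_autGroup hZ₀.1).1 hδ)
  have hconj : ∀ u ∈ M', ∃ s ∈ S, ∀ x : Z, (h (u x) : Ω) = s * h x * s⁻¹ := by
    intro u hu
    obtain ⟨s, hs, hse⟩ := H85.mem_autInducedBy.1 (hδM _ ⟨u, hu, rfl⟩)
    refine ⟨s, hs, fun x => Eq.trans ?_ (hse (h x))⟩
    show _ = (((δ * MulAut.congr e₀ u * δ⁻¹ : MulAut Z₀) (δ (e₀ x)) : Z₀) : Ω)
    rw [MulAut.mul_apply, MulAut.mul_apply, MulAut.inv_apply_self]
    show _ = ((δ (e₀ (u (e₀.symm (e₀ x)))) : Z₀) : Ω)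
    rw [MulEquiv.symm_apply_apply]
    rfl
  have hfF : H85.IsFIso F f := (H85.mem_autGroup hZS).1 hf
  have hh2 : H85.IsFIso F ((f : Z ≃* Z).trans h) := hfF.trans hh
  have hcg : ∀ g (hg : g ∈ W), ∃ u ∈ M', ∀ x : Z, (u x : Ω) = g * x * g⁻¹ := by
    intro g hg
    refine ⟨H85.conjAut S Z ⟨g, hg.1, H85.mem_normalizer_of_conj (hWn g hg)⟩,
      ⟨conjAut_mem F hZS _, fun x hx => Subtype.ext (hgP g hg x hx), g, hg, fun x => ?_⟩,
      fun x => rfl⟩
    show (g * (x : Ω) * g⁻¹)⁻¹ * (g * x * g⁻¹) ∈ Y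
    rw [inv_mul_cancel]
    exact one_mem _
  have hW1 : ∀ g ∈ W, g ∈ extender S Z (Z₀.subtype.comp h.toMonoidHom) := by
    intro g hg
    obtain ⟨u, hu, hue⟩ := hcg g hg
    obtain ⟨s, hs, hse⟩ := hconj u hu
    exact H85.mem_extender.2 ⟨hg.1, H85.mem_normalizer_of_conj (hWn g hg), s, hs, fun x hx =>
      (congrArg (fun z => (h z : Ω)) (Subtype.ext (hue x).symm)).trans (hse x)⟩
  have hW2 : ∀ g ∈ W, g ∈ extender S Z (Z₀.subtype.comp ((f : Z ≃* Z).trans h).toMonoidHom) := by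
    intro g hg
    obtain ⟨u, hu, hue⟩ := hcg g hg
    have hfu : f * u * f⁻¹ ∈ M' := by
      obtain ⟨hu1, huP, -⟩ := hu
      refine ⟨mul_mem (mul_mem hf hu1) (inv_mem hf), fun x hx => ?_, g, hg, fun x => ?_⟩
      · have h1 : f⁻¹ x = Subgroup.inclusion hPZ (β⁻¹ ⟨(x : Ω), hx⟩) := by
          apply f.injective
          rw [MulAut.apply_inv_self]
          refine Subtype.ext (Eq.symm ((hfP _).trans ?_))
          exact congrArg Subtype.val (MulAut.apply_inv_self _ β ⟨(x : Ω), hx⟩)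
        rw [MulAut.mul_apply, MulAut.mul_apply, h1, huP _ (SetLike.coe_mem _), ← h1,
          MulAut.apply_inv_self]
      · set y := f⁻¹ x with hydef
        have hx' : x = f y := (MulAut.apply_inv_self _ f x).symm
        have hy : (y : Ω)⁻¹ * x ∈ Y := by
          have := hft y
          rwa [← hx'] at this
        rw [MulAut.mul_apply, MulAut.mul_apply, ← hydef]
        have h2 := hft (u y)
        rw [hue] at h2
        rw [show (g * (x : Ω) * g⁻¹)⁻¹ * (f (u y) : Ω) = (g * ((y : Ω)⁻¹ * x) * g⁻¹)⁻¹ *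
          ((g * (y : Ω) * g⁻¹)⁻¹ * f (u y)) by group]
        exact Y.mul_mem (Y.inv_mem (hgY g hg _ hy)) h2
    obtain ⟨s, hs, hse⟩ := hconj _ hfu
    refine H85.mem_extender.2 ⟨hg.1, H85.mem_normalizer_of_conj (hWn g hg), s, hs, fun x hx => ?_⟩
    have h1 := hse (f x)
    rw [MulAut.mul_apply, MulAut.mul_apply, MulAut.inv_apply_self] at h1
    exact (congrArg (fun z => (h (f z) : Ω)) (Subtype.ext (hue x).symm)).trans h1
  have hrec₀ := H85.receptive_of_fullyNormalized hS hF hZ₀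
  obtain ⟨ψ₁, hψ₁, hext₁⟩ := H85.receptive_extend hrec₀ hh
  obtain ⟨ψ₂, hψ₂, hext₂⟩ := H85.receptive_extend hrec₀ hh2
  have hZe₁ := H85.le_extender (φ := Z₀.subtype.comp h.toMonoidHom) hZS fun x => H85.map_mem hh x
  have hZe₂ := H85.le_extender (φ := Z₀.subtype.comp ((f : Z ≃* Z).trans h).toMonoidHom) hZS
    fun x => H85.map_mem hh2 x
  have hXe₁ : X ≤ extender S Z (Z₀.subtype.comp h.toMonoidHom) :=
    sup_le (hPZ.trans hZe₁) hW1
  have hXe₂ : X ≤ extender S Z (Z₀.subtype.comp ((f : Z ≃* Z).trans h).toMonoidHom) :=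
    sup_le (hPZ.trans hZe₂) hW2
  set φ₁ := ψ₁.comp (Subgroup.inclusion hXe₁) with hφ₁def
  set φ₂ := ψ₂.comp (Subgroup.inclusion hXe₂) with hφ₂def
  have hφ₁ : φ₁ ∈ F.Hom X := H85.restrict hψ₁ hXe₁
  have hφ₂ : φ₂ ∈ F.Hom X := H85.restrict hψ₂ hXe₂
  have h₁Z : ∀ (x : X) (hx : (x : Ω) ∈ Z), φ₁ x = h ⟨x, hx⟩ := fun x hx => hext₁ _ hx _
  have h₂Z : ∀ (x : X) (hx : (x : Ω) ∈ Z), φ₂ x = h (f ⟨x, hx⟩) := fun x hx => hext₂ _ hx _
  have h₁P : ∀ x : P, φ₁ (Subgroup.inclusion hPX x) = h (Subgroup.inclusion hPZ x) :=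
    fun x => h₁Z _ (hPZ x.2)
  have h₂P : ∀ x : P, φ₂ (Subgroup.inclusion hPX x) = φ₁ (Subgroup.inclusion hPX (β x)) := by
    intro x
    rw [h₂Z _ (hPZ x.2), h₁P]
    exact congrArg (fun z => (h z : Ω)) (Subtype.ext (hfP x))
  -- same images
  let e₁ : P ≃* H85.img φ₁ P := H85.resIso φ₁ (F.injective_of_mem hφ₁) hPX
  have hP₀c : F.IsConj P (H85.img φ₁ P) := H85.isConj_img hφ₁ hPX
  have hfc := H85.fullyCentralized_of_fullyNormalized hS hF hPn
  have hWX : W ≤ X := le_sup_right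
  have hmap₁ : H85.img φ₁ W ≤ centralizerIn S (H85.img φ₁ P) := by
    intro y hy
    obtain ⟨g, hg, rfl⟩ := H85.mem_img.1 hy
    exact H85.extend_maps_centralizer (e := e₁) hPX (fun x => rfl) (H85.map_mem hφ₁ g) hg
  have : Finite (centralizerIn S (H85.img φ₁ P)) := H85.finite_of_le inf_le_left
  have hWeq : H85.img φ₁ W = centralizerIn S (H85.img φ₁ P) := by
    refine Subgroup.eq_of_le_of_card_ge hmap₁ ?_
    rw [← Nat.card_congr (H85.resIso φ₁ (F.injective_of_mem hφ₁) hWX).toEquiv]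
    exact hfc.2 _ hP₀c
  have hmap₂ : ∀ g : X, (g : Ω) ∈ W → φ₂ g ∈ H85.img φ₁ W := by
    intro g hg
    rw [hWeq]
    refine H85.mem_centralizerIn.2 ⟨H85.map_mem hφ₂ g, fun y hy => ?_⟩
    obtain ⟨x, hx, rfl⟩ := H85.mem_img.1 hy
    obtain ⟨w, hw⟩ := β.surjective ⟨(x : Ω), hx⟩
    rw [show x = Subgroup.inclusion hPX (β w) from Subtype.ext (congrArg Subtype.val hw).symm,
      ← h₂P w, ← map_mul, ← map_mul]
    exact congrArg φ₂ (Subtype.ext ((H85.mem_centralizerIn.1 hg).2 w w.2))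
  have hle : X ≤ (φ₁.range.comap φ₂).map X.subtype :=
    sup_le (fun x hx => ⟨⟨x, hPX hx⟩, ⟨_, (h₂P ⟨x, hx⟩).symm⟩, rfl⟩)
      fun g hg => ⟨⟨g, hWX hg⟩, H85.img_le_range φ₁ (hmap₂ ⟨g, hWX hg⟩ hg), rfl⟩
  have hval : ∀ x : X, φ₂ x ∈ φ₁.range := fun x => by
    obtain ⟨z, hz, hzx⟩ := hle x.2
    exact (Subtype.ext hzx : z = x) ▸ hz
  let i₁ := H85.isoOf φ₁ hφ₁ rfl
  have hχ : X.subtype.comp (i₁.symm.toMonoidHom.comp (φ₂.codRestrict _ hval)) ∈ F.Hom X :=
    H85.hom_congr (F.comp_mem hφ₂ (H85.isFIso_isoOf φ₁ hφ₁ rfl).symm hval) fun _ => rfl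
  have hχr : (X.subtype.comp (i₁.symm.toMonoidHom.comp (φ₂.codRestrict _ hval))).range = X :=
    range_eq_self_of_le F hχ (by rintro _ ⟨x, rfl⟩; exact SetLike.coe_mem _)
  set χ : MulAut X := autOfHom _ (F.injective_of_mem hχ) hχr with hχdef
  have hχA : χ ∈ F.autGroup X := autOfHom_mem F hχ hχr
  have hχeq : ∀ x : X, φ₁ (χ x) = φ₂ x := fun x =>
    congrArg Subtype.val (i₁.apply_symm_apply ⟨φ₂ x, hval x⟩)
  have hχP : ∀ x : P, χ (Subgroup.inclusion hPX x) = Subgroup.inclusion hPX (β x) := fun x =>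
    F.injective_of_mem hφ₁ ((hχeq _).trans (h₂P x))
  -- `χ` moves `C_S(Y)` inside cosets of `P`
  have hCYW : centralizerIn S Y ≤ W := centralizerIn_antitone hPY
  have hχC : ∀ x : X, (x : Ω) ∈ centralizerIn S Y → (x : Ω)⁻¹ * χ x ∈ P := by
    intro x hx
    let z : Z := ⟨x, Subgroup.mem_sup_right hx⟩
    have h1 : (x : Ω)⁻¹ * f z ∈ Y := hft z
    have hfz : (f z : Ω) ∈ centralizerIn S Y := by
      refine H85.mem_centralizerIn.2 ⟨hZS (f z).2, fun y hy => ?_⟩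
      obtain ⟨v, hv⟩ := a'.surjective ⟨y, hy⟩
      have hc : Subgroup.inclusion hYZ v * z = z * Subgroup.inclusion hYZ v :=
        Subtype.ext ((H85.mem_centralizerIn.1 hx).2 v v.2)
      have h2 := congrArg (fun u => ((f u : Z) : Ω)) hc
      simp only [map_mul, Subgroup.coe_mul, hfY, hv] at h2
      exact h2
    have h3 : (x : Ω)⁻¹ * f z ∈ P := H85.centric_self hP ⟨hYT h1,
      Subgroup.mul_mem _ (Subgroup.inv_mem _ (hCYW hx).2) (hCYW hfz).2⟩
    have hfX : (f z : Ω) ∈ X := Subgroup.mem_sup_right (hCYW hfz)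
    have h4 : χ x = ⟨f z, hfX⟩ := F.injective_of_mem hφ₁
      ((hχeq x).trans ((h₂Z x _).trans ((h₁Z ⟨f z, hfX⟩ (f z).2).symm)))
    rw [h4]
    exact h3
  -- `χ` moves `W` inside cosets of `P C_S(Y)`
  have hχW : ∀ g : X, (g : Ω) ∈ W → ∃ q ∈ P, ∃ c ∈ centralizerIn S Y, (χ g : Ω) = g * q * c := by
    intro g hg
    have hg' : (χ g : Ω) ∈ W := by
      obtain ⟨w, hw, hwe⟩ := H85.mem_img.1 (hmap₂ g hg)
      rw [← hχeq g] at hwe
      exact (F.injective_of_mem hφ₁ hwe : w = χ g) ▸ hw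
    -- conjugation by `χ g` on `Y` is `a' c_g a'⁻¹`
    have hrel : ∀ y : Y, (χ g : Ω) * (a' y : Ω) * (χ g : Ω)⁻¹ =
        (a' ⟨g * y * (g : Ω)⁻¹, hgY g hg y y.2⟩ : Ω) := by
      intro y
      let ge₁ : ↥(extender S Z (Z₀.subtype.comp h.toMonoidHom)) := ⟨(χ g : Ω), hXe₁ (χ g).2⟩
      let ge₂ : ↥(extender S Z (Z₀.subtype.comp ((f : Z ≃* Z).trans h).toMonoidHom)) :=
        ⟨(g : Ω), hXe₂ g.2⟩
      have hg12 : ψ₁ ge₁ = ψ₂ ge₂ := hχeq g
      let fy : Z := f (Subgroup.inclusion hYZ y)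
      let cy : Z := ⟨g * y * (g : Ω)⁻¹, hYZ (hgY g hg y y.2)⟩
      have hmemL : (χ g : Ω) * fy * (χ g : Ω)⁻¹ ∈ Z := hWn _ hg' _ fy.2
      have hL : ψ₁ ⟨_, hZe₁ hmemL⟩ = ψ₁ ge₁ * (h fy : Ω) * (ψ₁ ge₁)⁻¹ := by
        rw [show (⟨_, hZe₁ hmemL⟩ : ↥(extender S Z (Z₀.subtype.comp h.toMonoidHom))) =
          ge₁ * ⟨fy, hZe₁ fy.2⟩ * ge₁⁻¹ from Subtype.ext rfl, map_mul, map_mul, map_inv,
          hext₁ fy fy.2 (hZe₁ fy.2)]
      have hR : ψ₂ ⟨cy, hZe₂ cy.2⟩ = ψ₂ ge₂ * (h fy : Ω) * (ψ₂ ge₂)⁻¹ := by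
        rw [show (⟨cy, hZe₂ cy.2⟩ : ↥(extender S Z (Z₀.subtype.comp ((f : Z ≃* Z).trans h).toMonoidHom)))
          = ge₂ * ⟨y, hZe₂ (hYZ y.2)⟩ * ge₂⁻¹ from Subtype.ext rfl, map_mul, map_mul, map_inv,
          hext₂ y (hYZ y.2) (hZe₂ (hYZ y.2))]
        rfl
      rw [hext₁ _ hmemL _, hg12, ← hR, hext₂ _ cy.2 _] at hL
      have h5 := congrArg Subtype.val (h.injective (Subtype.ext hL :
        h ⟨_, hmemL⟩ = h (f ⟨cy, cy.2⟩)))
      refine Eq.trans ?_ (h5.trans ((congrArg (fun u => ((f u : Z) : Ω)) (Subtype.ext rfl)).trans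
        (hfY ⟨g * y * (g : Ω)⁻¹, hgY g hg y y.2⟩)))
      exact congrArg (fun v => (χ g : Ω) * v * (χ g : Ω)⁻¹) (hfY y).symm
    have hgS : (g : Ω) ∈ S := hXS g.2
    have hcg : conjHom Y (g : Ω) ∈ F.Hom Y := F.conj_mem hYS hgS
    obtain ⟨χ₀, hχ₀, hχ₀e⟩ := strongInv_of_invariant hE.2.2 Y Y le_rfl hYT _
      ((H85.mem_autGroup hYT).1 (inv_mem ha'E)) (fun x => (a'⁻¹ x).2) _
      (F.conj_mem hYS (inv_mem hgS))
    have hgYi : ∀ y ∈ Y, (g : Ω)⁻¹ * y * g ∈ Y := fun y hy => by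
      simpa using hgY (g : Ω)⁻¹ (inv_mem hg) y hy
    -- `u = c_g⁻¹ a' c_g a'⁻¹`
    let d : Y →* Ω := conjHom Y ((g : Ω)⁻¹ * χ g)
    have hdY : ∀ y : Y, d y ∈ Y := fun y => hgY _ (mul_mem (inv_mem hg) hg') y y.2
    have hle : Y ≤ (Y.subgroupOf Y).map (conjHom Y (g : Ω)⁻¹) := fun y hy =>
      ⟨⟨g * y * (g : Ω)⁻¹, hgY g hg y hy⟩, hgY g hg y hy, by
        show (g : Ω)⁻¹ * (g * y * (g : Ω)⁻¹) * (g : Ω)⁻¹⁻¹ = y
        group⟩
    have hcE : (Y.subtype.comp a'.toMonoidHom) ∈ E.Hom Y := (H85.mem_autGroup hYT).1 ha'E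
    obtain ⟨χ₁, hχ₁, hχ₁e⟩ := strongInv_of_invariant hE.2.2 Y Y le_rfl hYT _
      hcE (fun x => (a' x).2) _ (F.conj_mem hYS (inv_mem hgS))
    have hχ₁v : ∀ y : Y, (χ₁.comp (Subgroup.inclusion hle)) y =
        (g : Ω)⁻¹ * a' ⟨g * y * (g : Ω)⁻¹, hgY g hg y y.2⟩ * g := by
      intro y
      have h6 : conjHom Y (g : Ω)⁻¹ (Subgroup.inclusion le_rfl
          (⟨g * y * (g : Ω)⁻¹, hgY g hg y y.2⟩ : Y)) = (y : Ω) := by
        show (g : Ω)⁻¹ * (g * y * (g : Ω)⁻¹) * (g : Ω)⁻¹⁻¹ = y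
        group
      have h7 := hχ₁e ⟨g * y * (g : Ω)⁻¹, hgY g hg y y.2⟩ (h6.symm ▸ hle y.2)
      refine (congrArg χ₁ (Subtype.ext h6.symm)).trans (h7.trans ?_)
      show (g : Ω)⁻¹ * _ * (g : Ω)⁻¹⁻¹ = _
      rw [inv_inv]
      rfl
    have hm₀ : ∀ y : Y, (a'⁻¹ y : Ω) ∈ Y := fun y => (a'⁻¹ y).2
    have hd : d ∈ E.Hom Y := by
      refine H85.hom_congr (E.comp_mem ((H85.mem_autGroup hYT).1 (inv_mem ha'E))
        (H85.restrict hχ₁ hle) hm₀) fun y => ?_
      show (χ₁.comp (Subgroup.inclusion hle)) (a'⁻¹ y) = _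
      rw [hχ₁v, H85.conjHom_apply, ← hrel (a'⁻¹ y), MulAut.apply_inv_self]
      group
    obtain ⟨z, hz, -, hze⟩ := H85.centric_agree hTp hE.1 hPY hP (H85.id_mem E hYT) hd
      fun x hx => by
        show (x : Ω) = ((g : Ω)⁻¹ * χ g) * x * ((g : Ω)⁻¹ * χ g)⁻¹
        rw [hgP _ (mul_mem (inv_mem hg) hg') x hx]
    refine ⟨z, hz, (z : Ω)⁻¹ * ((g : Ω)⁻¹ * χ g), H85.mem_centralizerIn.2
      ⟨mul_mem (inv_mem (hPS hz)) (mul_mem (inv_mem hgS) (hXS (χ g).2)), fun y hy => ?_⟩,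
      by group⟩
    have h8 : (g : Ω)⁻¹ * χ g * y * ((g : Ω)⁻¹ * χ g)⁻¹ = (z : Ω) * y * (z : Ω)⁻¹ :=
      hze ⟨y, hy⟩
    calc y * ((z : Ω)⁻¹ * ((g : Ω)⁻¹ * χ g)) =
        (z : Ω)⁻¹ * ((z : Ω) * y * (z : Ω)⁻¹) * ((g : Ω)⁻¹ * χ g) := by group
      _ = (z : Ω)⁻¹ * ((g : Ω)⁻¹ * χ g * y * ((g : Ω)⁻¹ * χ g)⁻¹) * ((g : Ω)⁻¹ * χ g) := by rw [h8]
      _ = _ := by group
  -- a power of `χ` is trivial modulo `P`
  have : Finite (centralizerIn S Y) := H85.finite_of_le (H85.centralizerIn_le Y)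
  obtain ⟨l, hl⟩ := IsPGroup.iff_card.1 (hS.to_le (H85.centralizerIn_le (S := S) Y))
  have hXn : X ≤ Subgroup.normalizer (P : Set Ω) := normalizes_pc P
  have hχt : χ ^ p ^ l ∈ trivMod P X := by
    refine trivMod_of_sup hXn (le_refl X) hPX hWX (fun x hx => ?_) (fun g hg => ?_)
    · have : ∀ k : ℕ, ((χ ^ k) x : Ω) ∈ P := by
        intro k
        induction k with
        | zero => exact hx
        | succ k ihk =>
          rw [pow_succ', MulAut.mul_apply, show (χ ^ k) x =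
            Subgroup.inclusion hPX (⟨_, ihk⟩ : P) from Subtype.ext rfl, hχP]
          exact SetLike.coe_mem _
      exact P.mul_mem (P.inv_mem hx) (this _)
    · obtain ⟨q, hq, c, hc, hqc⟩ := hχW g hg
      let c' : X := ⟨c, hWX (hCYW hc)⟩
      let Q : Subgroup X := P.subgroupOf X
      have hQn : Q.Normal := ⟨fun n hn x =>
        (show (x : Ω) * n * (x : Ω)⁻¹ ∈ P from H85.conj_mem_of_mem_normalizer (hXn x.2) hn)⟩
      have hstab : ∀ x ∈ Q, χ x ∈ Q := fun x hx => by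
        show (χ x : Ω) ∈ P
        rw [show x = Subgroup.inclusion hPX (⟨(x : Ω), hx⟩ : P) from Subtype.ext rfl, hχP]
        exact SetLike.coe_mem _
      have hk : ∀ k : ℕ, QuotientGroup.mk' Q ((χ ^ k) g) =
          QuotientGroup.mk' Q g * QuotientGroup.mk' Q c' ^ k := by
        intro k
        induction k with
        | zero => simp
        | succ k ihk =>
          have h9 : (g * c' ^ k)⁻¹ * (χ ^ k) g ∈ Q := by
            rw [← QuotientGroup.eq_one_iff, QuotientGroup.mk_mul, QuotientGroup.mk_inv,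
              inv_mul_eq_one, QuotientGroup.mk_mul, QuotientGroup.mk_pow]
            exact ihk.symm
          have h10 : QuotientGroup.mk' Q (χ ((χ ^ k) g)) =
              QuotientGroup.mk' Q (χ g) * QuotientGroup.mk' Q (χ c') ^ k := by
            have h11 : QuotientGroup.mk' Q (χ ((g * c' ^ k)⁻¹ * (χ ^ k) g)) = 1 :=
              (QuotientGroup.eq_one_iff _).2 (hstab _ h9)
            rw [map_mul, map_inv, map_mul, map_inv, inv_mul_eq_one, map_mul, map_pow, map_mul,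
              map_pow] at h11
            exact h11.symm
          have h12 : QuotientGroup.mk' Q (χ c') = QuotientGroup.mk' Q c' := by
            refine (QuotientGroup.eq.2 ?_).symm
            exact hχC c' hc
          have h13 : QuotientGroup.mk' Q (χ g) = QuotientGroup.mk' Q g * QuotientGroup.mk' Q c' := by
            rw [show χ g = g * ⟨q, hPX hq⟩ * c' from Subtype.ext hqc, map_mul, map_mul,
              show QuotientGroup.mk' Q (⟨q, hPX hq⟩ : X) = 1 from (QuotientGroup.eq_one_iff _).2 hq,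
              mul_one]
          rw [pow_succ' χ, MulAut.mul_apply, h10, h12, h13, pow_succ', mul_assoc]
      have hcl : c' ^ p ^ l = 1 := by
        refine Subtype.ext ?_
        rw [← hl]
        have h15 := congrArg (fun v : centralizerIn S Y => (v : Ω))
          (pow_card_eq_one' (x := (⟨c, hc⟩ : centralizerIn S Y)))
        exact h15
      have h14 := hk (p ^ l)
      rw [← map_pow, hcl, map_one, mul_one] at h14
      exact (QuotientGroup.eq (s := Q)).1 h14.symm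
  have hres : resTriv hPX ⟨_, hχt⟩ = β ^ p ^ l := by
    refine MulEquiv.ext fun x => Subtype.ext ?_
    have : ∀ k : ℕ, (χ ^ k) (Subgroup.inclusion hPX x) = Subgroup.inclusion hPX ((β ^ k) x) := by
      intro k
      induction k with
      | zero => rfl
      | succ k ihk => rw [pow_succ', pow_succ', MulAut.mul_apply, MulAut.mul_apply, ihk, hχP]
    exact (resTriv_apply hPX _ x).trans (congrArg Subtype.val (this (p ^ l)))
  have hβl : β ^ p ^ l ∈ A₀ :=
    ⟨⟨_, hχt⟩, ⟨pow_mem hχA _, show resTriv hPX ⟨_, hχt⟩ ∈ _ from hres ▸ pow_mem hβ _⟩, hres⟩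
  obtain ⟨b, m, hm, hbm⟩ := Nat.exists_eq_pow_mul_and_not_dvd (orderOf_pos β).ne' p
    (Nat.Prime.ne_one Fact.out)
  have hpm : β ^ m ∈ A₀ := hA₀p _ (pow_mem hβ _) ⟨b, by
    rw [orderOf_pow_of_dvd (fun h => hm (by rw [h]; exact dvd_zero p))
      (hbm ▸ dvd_mul_left _ _), hbm, Nat.mul_div_cancel _ (Nat.pos_of_ne_zero
        fun h => hm (by rw [h]; exact dvd_zero p))]⟩
  have hcop : Nat.gcd (p ^ l) m = 1 :=
    Nat.Coprime.pow_left _ ((Nat.Prime.coprime_iff_not_dvd Fact.out).2 hm)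
  have hbez := Nat.gcd_eq_gcd_ab (p ^ l) m
  rw [hcop] at hbez
  have : β = (β ^ p ^ l) ^ (Nat.gcdA (p ^ l) m) * (β ^ m) ^ (Nat.gcdB (p ^ l) m) := by
    rw [← zpow_natCast β (p ^ l), ← zpow_natCast β m, ← zpow_mul, ← zpow_mul, ← zpow_add, ← hbez]
    simp
  rw [this]
  exact mul_mem (zpow_mem hβl _) (zpow_mem hpm _)

/-- The extension property holds at all centric subgroups of a normal subsystem. -/
theorem extAt_normal (hS : IsPGroup p S) (hE : E.IsNormalIn F p) {P : Subgroup Ω}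
    (hP : E.IsCentric P) : ExtAt F E P := by
  have hTS := hE.1.2.2.2.1.1
  have : Finite T := H85.finite_of_le hTS
  suffices H : ∀ (n : ℕ) (P : Subgroup Ω), E.IsCentric P → Nat.card T - Nat.card P ≤ n →
      ExtAt F E P from H _ P hP le_rfl
  intro n
  induction n using Nat.strong_induction_on with
  | _ n ih =>
  intro P hP hn
  refine extAt_of_fn hS hE.1 hP fun P₀ hP₀ hPP₀ => ?_
  have hc₀ := centric_of_conj hE.1 hP hPP₀
  have hcard : Nat.card P = Nat.card P₀ := H85.isConj_card hPP₀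
  rcases eq_or_lt_of_le hc₀.1 with heq | hlt
  · subst heq
    intro a ha
    obtain ⟨b, hb, hbT, hbC⟩ := hE.2 a ha
    refine ⟨b, hb, trivMod_of_sup (normalizes_pc P₀) le_rfl le_sup_left le_sup_right
      (fun x hx => P₀.mul_mem (P₀.inv_mem hx) ?_) (fun x hx => (hbC x hx).1), hbT⟩
    rw [show x = Subgroup.inclusion le_sup_left (⟨(x : Ω), hx⟩ : P₀) from Subtype.ext rfl]
    exact (hbT _).symm ▸ (a _).2
  · have hYc : E.IsCentric (normalizerIn T P₀) :=
      H85.centric_mono hc₀ (H85.le_normalizerIn hlt.le) inf_le_left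
    have h1 : Nat.card P₀ < Nat.card (normalizerIn T P₀) :=
      card_lt_card_normalizerIn (hS.to_le hTS) le_rfl hlt
    have : Nat.card (normalizerIn T P₀) ≤ Nat.card T := Subgroup.card_le_of_le inf_le_left
    exact extAt_step hS hE.1 hc₀ hP₀ hlt (ih (Nat.card T - Nat.card (normalizerIn T P₀))
      (by omega) _ hYc le_rfl)

end H86
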