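import Cfsg.Agent.H86.SubsystemEq
import Cfsg.Agent.H86.PrimeLeast

/-! `O^{p'}(E)` lies in every weakly normal subsystem on the same subgroup. -/

set_option autoImplicit false

open Cfsg Cfsg.FusionSystem

namespace H86

variable {Ω : Type*} [Group Ω] {S T : Subgroup Ω} [Finite S] {p : ℕ} [Fact p.Prime]
  {F : FusionSystem S} {E D : FusionSystem T}

theorem mem_autGroup_of_restrict (hS : IsPGroup p S) (hE : E.IsWeaklyNormalIn F p)
    (hD : D.IsWeaklyNormalIn F p) {ε : MulAut T} (hε : ε ∈ E.autGroup T) {P : Subgroup Ω}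
    (hP : E.IsCentric P) (h : (dmap ε).comp (Subgroup.inclusion hP.1) ∈ D.Hom P) :
    ε ∈ D.autGroup T := by
  have hTS := hE.2.2.2.1.1
  have : Finite T := H85.finite_of_le hTS
  have hTp : IsPGroup p T := hS.to_le hTS
  have hDn := fun (α : MulAut T) (hα : α ∈ F.autGroup T) =>
    normAut_of_strongInv (strongInv_of_invariant hD.2.2) hTS hα
  have hEA : E.autGroup T ≤ F.autGroup T := fun _ hx =>
    (H85.mem_autGroup hTS).2 (hE.2.2.1 _ ((H85.mem_autGroup le_rfl).1 hx))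
  suffices H : ∀ (n : ℕ) (P : Subgroup Ω) (hP : E.IsCentric P), Nat.card T - Nat.card P ≤ n →
      ∀ ε ∈ E.autGroup T, (dmap ε).comp (Subgroup.inclusion hP.1) ∈ D.Hom P →
      ε ∈ D.autGroup T from H _ P hP le_rfl ε hε h
  intro n
  induction n using Nat.strong_induction_on with
  | _ n ihn =>
  intro P hP hn ε hε hφ
  rcases eq_or_lt_of_le hP.1 with heq | hlt
  · subst heq
    exact (H85.mem_autGroup le_rfl).2 (H85.hom_congr hφ fun _ => rfl)
  set Y := normalizerIn T P with hYdef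
  have hYT : Y ≤ T := H85.normalizerIn_le P
  have hPY : P ≤ Y := H85.le_normalizerIn hP.1
  have : Finite Y := H85.finite_of_le hYT
  have : Finite P := H85.finite_of_le hP.1
  set φ := (dmap ε).comp (Subgroup.inclusion hP.1) with hφdef
  have hεE : H85.IsFIso E ε := (H85.mem_autGroup le_rfl).1 hε
  have hQE : E.IsCentric φ.range :=
    H85.centric_of_isConj hP ⟨φ, H85.restrict hεE hP.1, rfl⟩
  have hQD : D.IsCentric φ.range :=
    ⟨hQE.1, fun R ⟨χ, hχ, hr⟩ =>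
      H85.centric_self (centric_of_conj hE hQE ⟨χ, hD.2.2.1 _ hχ, hr⟩)⟩
  obtain ⟨χ, hχ, hext⟩ :=
    (H85.receptive_of_fullyCentralized hTp hD.1 (H85.centric_fullyCentralized hQD)).2 P φ hφ rfl
  have hX : Y ≤ extender T P φ := by
    intro g hg
    refine H85.mem_extender.2 ⟨hg.1, hg.2, ((ε ⟨g, hg.1⟩ : T) : Ω), SetLike.coe_mem _,
      fun x hx => ?_⟩
    show ((ε ⟨g * x * g⁻¹, _⟩ : T) : Ω) = (ε ⟨g, hg.1⟩ : T) * (ε ⟨x, _⟩ : T) *
      ((ε ⟨g, hg.1⟩ : T) : Ω)⁻¹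
    rw [← Subgroup.coe_inv, ← Subgroup.coe_mul, ← Subgroup.coe_mul, ← map_inv, ← map_mul, ← map_mul]
    rfl
  have hχY := H85.restrict hχ hX
  set χ' : Y →* Ω := χ.comp (Subgroup.inclusion hX) with hχ'def
  have hχT : ∀ y : Y, χ' y ∈ T := H85.map_mem hχY
  have hεi : ε⁻¹ ∈ E.autGroup T := inv_mem hε
  let f : Y →* Ω := (dmap ε⁻¹).comp (χ'.codRestrict T hχT)
  have hfP : ∀ y : Y, (y : Ω) ∈ P → f y = y := by
    intro y hy
    show ((ε⁻¹ ⟨χ' y, hχT y⟩ : T) : Ω) = y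
    rw [show (⟨χ' y, hχT y⟩ : T) = ε ⟨y, hP.1 hy⟩ from
      Subtype.ext (hext y hy (hX y.2)), MulAut.inv_apply_self]
  have hfz : ∀ y : Y, (y : Ω)⁻¹ * f y ∈ P := by
    intro y
    refine H85.centric_self hP (H85.mem_centralizerIn.2 ⟨mul_mem (inv_mem (hYT y.2))
      (SetLike.coe_mem _), fun x hx => ?_⟩)
    let x' : Y := ⟨x, hPY hx⟩
    have hyx : ((y * x' * y⁻¹ : Y) : Ω) ∈ P := H85.conj_mem_of_mem_normalizer y.2.2 hx
    have h1 := hfP _ hyx
    rw [map_mul, map_mul, map_inv, hfP x' hx] at h1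
    have h2 : f y * x * (f y)⁻¹ = (y : Ω) * x * (y : Ω)⁻¹ := h1
    calc x * ((y : Ω)⁻¹ * f y) = (y : Ω)⁻¹ * ((y : Ω) * x * (y : Ω)⁻¹) * f y := by group
      _ = (y : Ω)⁻¹ * (f y * x * (f y)⁻¹) * f y := by rw [h2]
      _ = (y : Ω)⁻¹ * f y * x := by group
  have hfY : ∀ y : Y, f y ∈ Y := fun y => by
    have h := mul_mem y.2 (hPY (hfz y))
    rwa [mul_inv_cancel_left] at h
  have hlf : Lev D (ε⁻¹ * 1) Y f :=
    (lev_one.2 hχY).comp (lev_aut ε⁻¹ le_rfl) (hDn _ (by simp)) hχT fun _ => rfl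
  rw [mul_one] at hlf
  have hfF : f ∈ F.Hom Y := hlf.mem hD.2.2.1 hTS (hEA hεi)
  have hfr : f.range = Y :=
    range_eq_self_of_le F hfF (by rintro _ ⟨y, rfl⟩; exact hfY y)
  set a : MulAut Y := autOfHom f (F.injective_of_mem hfF) hfr with hadef
  have hlk : ∀ k : ℕ, Lev D (ε⁻¹ ^ k) Y (Y.subtype.comp (a ^ k).toMonoidHom) := by
    intro k
    induction k with
    | zero => exact lev_one.2 (H85.id_mem D hYT)
    | succ k ih =>
      rw [pow_succ', pow_succ']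
      exact ih.comp hlf (hDn _ (inv_mem (pow_mem (hEA hεi) k))) (fun y => ((a ^ k) y).2) fun y => rfl
  obtain ⟨l, hl⟩ := IsPGroup.iff_card.1 (hTp.to_le hP.1)
  have hone : a ^ p ^ l = 1 := by
    refine MulEquiv.ext fun y => ?_
    let z : Y := y⁻¹ * a y
    have hzP : (z : Ω) ∈ P := hfz y
    have haz : a z = z := Subtype.ext (hfP z hzP)
    have hk : ∀ k : ℕ, (a ^ k) y = y * z ^ k := by
      intro k
      induction k with
      | zero => simp
      | succ k ihk =>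
        rw [pow_succ', MulAut.mul_apply, ihk, map_mul, map_pow, haz, pow_succ', ← mul_assoc,
          show a y = y * z from (mul_inv_cancel_left _ _).symm]
    have hzp : z ^ p ^ l = 1 := by
      have h := pow_card_eq_one' (G := P) (x := ⟨(z : Ω), hzP⟩)
      rw [hl] at h
      have h' := congrArg Subtype.val h
      refine Subtype.ext ?_
      simpa using h'
    rw [hk, hzp, mul_one]
    rfl
  have h1 := hlk (p ^ l)
  rw [hone] at h1
  obtain ⟨φ₀, h₀, he⟩ := h1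
  have hrest : (dmap (ε ^ p ^ l)).comp (Subgroup.inclusion hYT) ∈ D.Hom Y := by
    refine H85.hom_congr h₀ fun y => ?_
    have hy := (D.le_of_mem h₀).2 y
    have h2 : (⟨(y : Ω), hYT y.2⟩ : T) = (ε⁻¹ ^ p ^ l) ⟨φ₀ y, hy⟩ := Subtype.ext (he y hy)
    show φ₀ y = (((ε ^ p ^ l) ⟨(y : Ω), hYT y.2⟩ : T) : Ω)
    rw [h2, inv_pow, MulAut.apply_inv_self]
  have hcard : Nat.card P < Nat.card Y := card_lt_card_normalizerIn hTp le_rfl hlt
  have : Nat.card Y ≤ Nat.card T := Subgroup.card_le_of_le hYT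
  have hpl : ε ^ p ^ l ∈ D.autGroup T := ihn (Nat.card T - Nat.card Y) (by omega) Y
    (H85.centric_mono hP hPY hYT) le_rfl _ (pow_mem hε _) hrest
  obtain ⟨b, m, hm, hbm⟩ := Nat.exists_eq_pow_mul_and_not_dvd (orderOf_pos ε).ne' p
    (Nat.Prime.ne_one Fact.out)
  have hpm : ε ^ m ∈ D.autGroup T := H85.inn_le_autGroup D le_rfl
    (pElement_inn hS hE (pow_mem hε _) ⟨b, by
      rw [orderOf_pow_of_dvd (fun h => hm (by rw [h]; exact dvd_zero p))
        (hbm ▸ dvd_mul_left _ _), hbm, Nat.mul_div_cancel _ (Nat.pos_of_ne_zero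
          fun h => hm (by rw [h]; exact dvd_zero p))]⟩)
  have hcop : Nat.gcd (p ^ l) m = 1 :=
    Nat.Coprime.pow_left _ ((Nat.Prime.coprime_iff_not_dvd Fact.out).2 hm)
  have hbez := Nat.gcd_eq_gcd_ab (p ^ l) m
  rw [hcop] at hbez
  have : ε = (ε ^ p ^ l) ^ (Nat.gcdA (p ^ l) m) * (ε ^ m) ^ (Nat.gcdB (p ^ l) m) := by
    rw [← zpow_natCast ε (p ^ l), ← zpow_natCast ε m, ← zpow_mul, ← zpow_mul, ← zpow_add, ← hbez]
    simp
  rw [this]
  exact mul_mem (zpow_mem hpl _) (zpow_mem hpm _)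

theorem minSysCl_le_weaklyNormal (hS : IsPGroup p S) (hE : E.IsWeaklyNormalIn F p)
    (hD : D.IsWeaklyNormalIn F p) : (minSysCl p E).IsSubsystemOf D := by
  have hTS := hE.2.2.2.1.1
  have : Finite T := H85.finite_of_le hTS
  have h : (minSysCl p E).IsSubsystemOf (infSys D E) := by
    refine residual_le E ⟨fun P hP a ha hk => ?_, fun ε hε P hP h => ?_⟩
    · exact (H85.mem_autGroup hP.1).2 ⟨(H85.mem_autGroup hP.1).1 ha,
        (H85.mem_autGroup hP.1).1 (pElement_common hS hE hD hP.1 ha hk)⟩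
    · exact (H85.mem_autGroup le_rfl).2 ⟨(H85.mem_autGroup le_rfl).1 hε,
        (H85.mem_autGroup le_rfl).1 (mem_autGroup_of_restrict hS hE hD hε hP h.2)⟩
  exact fun P φ hφ => (h P hφ).2

end H86
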