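import Cfsg.Agent.H86.CentralizerNormal

/-! `C_S(E)` is strongly closed. -/

set_option autoImplicit false

open Cfsg Cfsg.FusionSystem
open scoped Pointwise

namespace H86

variable {Ω : Type*} [Group Ω] {S T : Subgroup Ω} [Finite S] {p : ℕ} [Fact p.Prime]
  {F : FusionSystem S} {E : FusionSystem T}

/-- The normalizer in `T` of a subgroup not containing `T` is larger than its trace on `T`. -/
theorem card_lt_normalizer_trace (hS : IsPGroup p S) (hTc : F.StronglyClosed T) {D : Subgroup Ω}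
    (hDS : D ≤ S) (hD : ¬ T ≤ D) :
    Nat.card ↥(D ⊓ T) < Nat.card (normalizerIn T D) := by
  have hlt : D < D ⊔ T := by
    refine lt_of_le_of_ne le_sup_left fun h => hD ?_
    rw [h]
    exact le_sup_right
  obtain ⟨g, hg, hgN, hgD⟩ := exists_mem_normalizer_notMem hS (sup_le hDS hTc.1) hlt
  obtain ⟨x, hx, t, ht, rfl⟩ := mem_sup_stronglyClosed hTc hDS hg
  have htN : t ∈ normalizerIn T D := ⟨ht, by
    have := mul_mem (inv_mem (Subgroup.le_normalizer hx)) hgN
    rwa [inv_mul_cancel_left] at this⟩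
  have htD : t ∉ D := fun h => hgD (D.mul_mem hx h)
  have hle : D ⊓ T ≤ normalizerIn T D := fun y hy => ⟨hy.2, Subgroup.le_normalizer hy.1⟩
  have : Finite (normalizerIn T D) := H85.finite_of_le (inf_le_left.trans hTc.1)
  refine lt_of_le_of_ne (Subgroup.card_le_of_le hle) fun h => htD ?_
  exact ((Subgroup.eq_of_le_of_card_ge hle h.ge).ge htN).1

/-- The trace on a strongly closed subgroup is carried onto the trace. -/
theorem img_inf_stronglyClosed (hTc : F.StronglyClosed T) {D : Subgroup Ω} {φ : D →* Ω}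
    (hφ : φ ∈ F.Hom D) : H85.img φ (D ⊓ T) = φ.range ⊓ T := by
  refine le_antisymm ?_ ?_
  · intro y hy
    obtain ⟨x, hx, rfl⟩ := H85.mem_img.1 hy
    exact ⟨⟨x, rfl⟩, map_mem_of_stronglyClosed hTc hφ hx.2⟩
  · rintro _ ⟨⟨x, rfl⟩, hy⟩
    refine H85.mem_img.2 ⟨x, ⟨x.2, ?_⟩, rfl⟩
    obtain ⟨ψ, hψ, he⟩ := F.inv_mem hφ
    have h := map_mem_of_stronglyClosed hTc hψ (x := ⟨φ x, x, rfl⟩) hy
    rwa [he] at h

/-- The strong closure step at a fully normalized subgroup. -/
theorem centE_step (hS : IsPGroup p S) (hE : E.IsNormalIn F p) {P R : Subgroup Ω}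
    (hPT : P ≤ T) (hR : R ≤ centE p F E) (hP : (P ⊔ R) ⊓ T = P) (hD : F.IsFullyNormalized (P ⊔ R))
    (hlt : P < T)
    (ih : ∀ P' : Subgroup Ω, P' ≤ T → Nat.card P < Nat.card P' → ∀ φ ∈ F.Hom (P' ⊔ R),
      ∀ x : ↥(P' ⊔ R), (x : Ω) ∈ R → φ x ∈ centE p F E)
    {α : MulAut ↥(P ⊔ R)} (hα : α ∈ F.autGroup (P ⊔ R)) (x : ↥(P ⊔ R)) (hx : (x : Ω) ∈ R) :
    (α x : Ω) ∈ centE p F E := by
  classical
  revert α x
  have hW := hE.1
  have hF := hW.2.1
  have hTc := hW.2.2.2.1
  have hTS := hTc.1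
  set D := P ⊔ R with hDdef
  intro α hα x hx
  have hDS : D ≤ S := hD.1
  have : Finite D := H85.finite_of_le hDS
  have hRC : R ≤ centralizerIn S T := hR.trans centE_le
  have hrec := H85.receptive_of_fullyNormalized hS hF hD
  have hαF : H85.IsFIso F α := (H85.mem_autGroup hDS).1 hα
  have : Finite T := H85.finite_of_le hTS
  by_cases hC : centralizerIn T P ≤ P
  swap
  · obtain ⟨ψ, hψ, hext⟩ := H85.receptive_extend hrec hαF
    set P' := P ⊔ centralizerIn T P with hP'def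
    have hP'T : P' ≤ T := sup_le hPT inf_le_left
    have hX : P' ⊔ R ≤ extender S D (D.subtype.comp α.toMonoidHom) := by
      refine sup_le (sup_le ?_ ?_) ?_
      · exact le_sup_left.trans (H85.le_extender hDS fun y => H85.map_mem hαF y)
      · intro c hc
        refine H85.centralizerIn_le_extender _ _ (H85.mem_centralizerIn.2 ⟨hTS hc.1, fun y hy => ?_⟩)
        have hle : D ≤ Subgroup.centralizer {c} := sup_le
          (fun z hz => Subgroup.mem_centralizer_singleton_iff.2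
            ((H85.mem_centralizerIn.1 hc).2 z hz))
          (fun z hz => Subgroup.mem_centralizer_singleton_iff.2
            ((H85.mem_centralizerIn.1 (hRC hz)).2 c hc.1).symm)
        exact Subgroup.mem_centralizer_singleton_iff.1 (hle hy)
      · exact le_sup_right.trans (H85.le_extender hDS fun y => H85.map_mem hαF y)
    have : Finite P' := H85.finite_of_le (hP'T.trans hTS)
    have hbig : Nat.card P < Nat.card P' :=
      lt_of_le_of_ne (Subgroup.card_le_of_le le_sup_left) fun h => hC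
        (le_sup_right.trans (Subgroup.eq_of_le_of_card_ge le_sup_left h.ge).symm.le)
    have h1 := ih P' hP'T hbig _ (H85.restrict hψ hX) ⟨x, Subgroup.mem_sup_right hx⟩ hx
    rw [show (α x : Ω) = _ from (hext x x.2 (hX (Subgroup.mem_sup_right hx))).symm]
    exact h1
  -- now `P` is centric in `E`
  have hPc : E.IsCentric P := by
    refine ⟨hPT, fun Q hQ c hc => ?_⟩
    obtain ⟨φ, hφ, rfl⟩ := hQ
    obtain ⟨-, -, -, ψ, hψ, hext, hfix⟩ := cent_mono (cent_centE hS hE) hR P hφ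
    let e := H85.isoOf ψ hψ rfl
    have he : H85.IsFIso F e := H85.isFIso_isoOf ψ hψ rfl
    obtain ⟨ξ, hξ, hξe⟩ := H85.receptive_extend hrec he.symm
    have hQle := H85.le_extender (φ := (P ⊔ R).subtype.comp e.symm.toMonoidHom) he.symm.left_le
      fun y => H85.map_mem he.symm y
    have hcQ : c ∈ centralizerIn S ψ.range := by
      refine H85.mem_centralizerIn.2 ⟨hTS hc.1, ?_⟩
      rintro _ ⟨z, rfl⟩
      have hle : P ⊔ R ≤ ((Subgroup.centralizer {c}).comap ψ).map (P ⊔ R).subtype := by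
        refine sup_le (fun w hw => ⟨Subgroup.inclusion le_sup_left ⟨w, hw⟩, ?_, rfl⟩)
          (fun w hw => ⟨Subgroup.inclusion le_sup_right ⟨w, hw⟩, ?_, rfl⟩)
        · show ψ _ ∈ Subgroup.centralizer {c}
          rw [hext]
          exact Subgroup.mem_centralizer_singleton_iff.2
            ((H85.mem_centralizerIn.1 hc).2 _ ⟨_, rfl⟩)
        · show ψ _ ∈ Subgroup.centralizer {c}
          rw [hfix]
          exact Subgroup.mem_centralizer_singleton_iff.2
            ((H85.mem_centralizerIn.1 (hRC hw)).2 c hc.1).symm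
      obtain ⟨y, hy, hyz⟩ := hle z.2
      exact Subgroup.mem_centralizer_singleton_iff.1 ((Subtype.ext hyz : y = z) ▸ hy)
    have hcX := H85.centralizerIn_le_extender ψ.range
      ((P ⊔ R).subtype.comp e.symm.toMonoidHom) hcQ
    have h1 := H85.extend_maps_centralizer (e := e.symm) hQle (fun y => hξe y y.2 _)
      (H85.map_mem hξ _) (g := ⟨c, hcX⟩) hcQ
    have h2 : ξ ⟨c, hcX⟩ ∈ T := map_mem_of_stronglyClosed hTc hξ hc.1
    have h3 : ξ ⟨c, hcX⟩ ∈ P := hC ⟨h2, fun y hy => h1.2 y (Subgroup.mem_sup_left hy)⟩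
    let y : ↥(P ⊔ R) := ⟨_, Subgroup.mem_sup_left h3⟩
    have h4 : (⟨c, hcX⟩ : ↥(extender S ψ.range ((P ⊔ R).subtype.comp e.symm.toMonoidHom))) =
        ⟨(e y : Ω), hQle (e y).2⟩ := by
      refine F.injective_of_mem hξ ?_
      rw [hξe (e y : Ω) (e y).2 _]
      show (y : Ω) = ((e.symm (e y) : ↥(P ⊔ R)) : Ω)
      rw [MulEquiv.symm_apply_apply]
    rw [show c = (e y : Ω) from congrArg Subtype.val h4]
    refine ⟨⟨(y : Ω), h3⟩, (hext _).symm.trans ?_⟩
    exact congrArg ψ (Subtype.ext rfl)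
  have hPD : P ≤ D := le_sup_left
  have hDX : D ≤ pc S P := sup_le le_sup_left (hRC.trans (centralizerIn_T_le_pc hPT))
  have hPS : P ≤ S := hPT.trans hTS
  have : Finite P := H85.finite_of_le hPS
  have hDn : D ≤ Subgroup.normalizer (P : Set Ω) := hDX.trans (normalizes_pc P)
  let K₀ : Subgroup (trivMod P D) := ((F.autGroup D).subgroupOf (trivMod P D)) ⊓
    (E.autGroup P).comap (resTriv hPD)
  let K : Subgroup (MulAut D) := K₀.map (trivMod P D).subtype
  have hKA : K ≤ F.autGroup D := by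
    rintro _ ⟨k, hk, rfl⟩
    exact hk.1
  have hKn : ∀ a ∈ F.autGroup D, ∀ k ∈ K, a * k * a⁻¹ ∈ K := by
    rintro a ha _ ⟨k, hk, rfl⟩
    have haF : H85.IsFIso F a := (H85.mem_autGroup hDS).1 ha
    have haP : ∀ z : D, (z : Ω) ∈ P → (a z : Ω) ∈ P := fun z hz => by
      rw [← hP]
      exact ⟨(a z).2, map_mem_of_stronglyClosed hTc haF (hPT hz)⟩
    have hr := H85.restrict haF hPD
    have hrr : ((D.subtype.comp a.toMonoidHom).comp (Subgroup.inclusion hPD)).range = P :=
      range_eq_self_of_le F hr (by rintro _ ⟨z, rfl⟩; exact haP _ z.2)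
    set aP := autOfHom _ (F.injective_of_mem hr) hrr with haPdef
    have haPF : H85.IsFIso F aP := (H85.mem_autGroup hPS).1 (autOfHom_mem F hr hrr)
    have haPv : ∀ z : P, a (Subgroup.inclusion hPD z) = Subgroup.inclusion hPD (aP z) :=
      fun z => Subtype.ext rfl
    have hinv : ∀ z : P, a⁻¹ (Subgroup.inclusion hPD z) = Subgroup.inclusion hPD (aP⁻¹ z) := by
      intro z
      apply a.injective
      rw [MulAut.apply_inv_self, haPv, MulAut.apply_inv_self]
    have hkt : a * (k : MulAut D) * a⁻¹ ∈ trivMod P D := fun z => by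
      have h1 := k.2 (a⁻¹ z)
      let q : P := ⟨_, h1⟩
      have h2 : (k : MulAut D) (a⁻¹ z) = a⁻¹ z * Subgroup.inclusion hPD q :=
        Subtype.ext (by simp [q])
      rw [MulAut.mul_apply, MulAut.mul_apply, h2, map_mul, MulAut.apply_inv_self, Subgroup.coe_mul,
        inv_mul_cancel_left, haPv]
      exact (aP q).2
    have hres : resTriv hPD ⟨_, hkt⟩ = MulAut.congr aP (resTriv hPD k) := by
      refine MulEquiv.ext fun z => Subtype.ext ?_
      rw [resTriv_apply, MulAut.mul_apply, MulAut.mul_apply]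
      show ((a ((k : MulAut D) (a⁻¹ (Subgroup.inclusion hPD z))) : D) : Ω) = _
      rw [hinv, show (k : MulAut D) (Subgroup.inclusion hPD (aP⁻¹ z)) =
        Subgroup.inclusion hPD (resTriv hPD k (aP⁻¹ z)) from Subtype.ext rfl, haPv]
      rfl
    refine ⟨⟨_, hkt⟩, ⟨mul_mem (mul_mem ha hk.1) (inv_mem ha), ?_⟩, rfl⟩
    show resTriv hPD ⟨_, hkt⟩ ∈ E.autGroup P
    rw [hres]
    exact autGroup_transport hW hPT hPT haPF hk.2
  have hMK : ∀ g (hg : g ∈ normalizerIn T D),
      H85.conjAut S D ⟨g, hTS hg.1, hg.2⟩ ∈ K := by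
    intro g hg
    have hct : H85.conjAut S D ⟨g, hTS hg.1, hg.2⟩ ∈ trivMod P D := fun z => by
      show (z : Ω)⁻¹ * (g * z * g⁻¹) ∈ P
      rw [← hP]
      refine ⟨D.mul_mem (D.inv_mem z.2) (H85.conj_mem_of_mem_normalizer hg.2 z.2), ?_⟩
      rw [show (z : Ω)⁻¹ * (g * z * g⁻¹) = (z : Ω)⁻¹ * g * (z : Ω)⁻¹⁻¹ * g⁻¹ by simp [mul_assoc]]
      exact mul_mem (normal_of_stronglyClosed F hTc (inv_mem (hDS z.2)) hg.1)
        (Subgroup.inv_mem T hg.1)
    refine ⟨⟨_, hct⟩, ⟨conjAut_mem F hDS _, ?_⟩, rfl⟩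
    refine H85.autInducedBy_le_autGroup E hPT (H85.mem_autInducedBy.2 ⟨g, hg.1, fun z => ?_⟩)
    exact resTriv_apply hPD _ z
  obtain ⟨k, hk, β, hβ, hkβ, ψ, hψ, hψe⟩ := frattini_step hS hF hD (K := K) hKA hKn hα
    (normalizerIn T D) (inf_le_inf_right _ hTS) (fun g hg => hMK g hg)
  -- `β` maps `R` into the subgroup
  have hsub : normalizerIn T D ⊔ R ≤ D ⊔ normalizerIn T D :=
    sup_le le_sup_right (le_sup_right.trans le_sup_left)
  have hTN : normalizerIn T D ≤ T := inf_le_left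
  have hnle : ¬ T ≤ D := fun h => hlt.not_ge fun t ht => hP ▸ ⟨h ht, ht⟩
  have hbig := card_lt_normalizer_trace hS hTc hDS hnle
  rw [hP] at hbig
  have hβx : (β x : Ω) ∈ centE p F E := by
    rw [← hψe]
    have h1 := ih _ hTN hbig _ (H85.restrict hψ hsub) ⟨x, Subgroup.mem_sup_right hx⟩ hx
    exact h1
  -- `k` preserves the trace of the subgroup
  let L : Submonoid (MulAut D) :=
    { carrier := {k | ∀ z : D, (z : Ω) ∈ centE p F E → (k z : Ω) ∈ centE p F E}
      one_mem' := fun z hz => hz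
      mul_mem' := fun {a b} ha hb z hz => ha _ (hb z hz) }
  have : Finite (MulAut D) := Finite.of_injective (fun e => (e : D → D)) DFunLike.coe_injective
  have hLinv : ∀ u ∈ L, u⁻¹ ∈ L := fun u hu => by
    have h : u⁻¹ = u ^ (orderOf u - 1) := by
      refine inv_eq_of_mul_eq_one_left ?_
      rw [← pow_succ, Nat.sub_add_cancel (orderOf_pos u), pow_orderOf_eq_one]
    exact h ▸ L.pow_mem hu _
  let L' : Subgroup (MulAut D) := { L with inv_mem' := fun {u} hu => hLinv u hu }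
  have hKL : K ≤ L' := by
    obtain ⟨-, R₀, hR₀⟩ := H85.fullyAutomized_of_fullyNormalized hS hF hD
    have hKn' : (K.subgroupOf (F.autGroup D)).Normal := ⟨fun k hk a => hKn a a.2 k hk⟩
    obtain ⟨R', hR'⟩ := exists_sylow_of_normal_le hKA hKn' R₀ hR₀
    have hle : (⊤ : Subgroup K) ≤ L'.subgroupOf K := by
      rw [← pResidual_sup_sylow R', Cfsg.pResidual]
      refine sup_le ((Subgroup.closure_le _).2 ?_) ?_
      · rintro ⟨_, k, hk, rfl⟩ hko z hz
        have hao : Nat.Coprime (orderOf (resTriv hPD k)) p := by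
          refine Nat.Coprime.of_dvd_left (orderOf_map_dvd _ k) ?_
          rw [← Subgroup.orderOf_coe]
          rw [Set.mem_setOf_eq, ← Subgroup.orderOf_coe] at hko
          exact hko
        obtain ⟨f, hf, hft, hfo, hfe⟩ := exists_coprime_ext hS hE hPc hk.2 hao
        obtain ⟨f', hf', hf't, hf'o, hf'e⟩ := exists_res_trivMod (pc_le hPS) hf hft hPD hDX
        rw [Set.mem_setOf_eq, ← Subgroup.orderOf_coe] at hko
        have heq : (k : MulAut D) = f' := ext_unique hS hE hPc hPD hDX hk.2 hk.1 hf' k.2 hf't hko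
          (Nat.Coprime.of_dvd_left hf'o hfo) (fun w => (resTriv_apply hPD k w).symm)
          (fun w => (hf'e _).trans (hfe w))
        show (((k : MulAut D) z : D) : Ω) ∈ _
        rw [heq, hf'e, hz.2 P hPc _ hk.2 hao f hf hft hfo hfe _ rfl]
        exact hz
      · intro u hu z hz
        rw [hR', Subgroup.mem_subgroupOf, H85.mem_autInducedBy] at hu
        obtain ⟨s, hs, hse⟩ := hu
        have hzS : (z : Ω) ∈ S := hDS z.2
        have h1 := centE_image hS hE (D := T ⊔ centE p F E) (R := centE p F E) le_sup_left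
          le_sup_right le_rfl (F.conj_mem (sup_le hTS (centE_le.trans inf_le_left)) hs)
          ⟨z, Subgroup.mem_sup_right hz⟩ hz
        show (((u : MulAut D) z : D) : Ω) ∈ _
        rw [hse z]
        exact h1
    intro k hk
    exact hle (Subgroup.mem_top (⟨k, hk⟩ : K))
  rw [hkβ]
  exact hKL hk (β x) hβx

theorem stronglyClosed_centE (hS : IsPGroup p S) (hE : E.IsNormalIn F p) :
    F.StronglyClosed (centE p F E) := by
  have hW := hE.1
  have hF := hW.2.1
  have hTc := hW.2.2.2.1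
  have hTS := hTc.1
  have : Finite T := H85.finite_of_le hTS
  refine ⟨centE_le.trans inf_le_left, fun R hR φ hφ x => ?_⟩
  suffices H : ∀ (n : ℕ) (P R : Subgroup Ω), P ≤ T → R ≤ centE p F E →
      Nat.card T - Nat.card P ≤ n → ∀ φ ∈ F.Hom (P ⊔ R), ∀ x : ↥(P ⊔ R), (x : Ω) ∈ R →
      φ x ∈ centE p F E by
    have hm : ∀ z : ↥((⊥ : Subgroup Ω) ⊔ R), (z : Ω) ∈ R := fun z => by
      have h := z.2
      simp only [bot_sup_eq] at h
      exact h
    have h1 := H _ ⊥ R bot_le hR le_rfl (φ.comp (Subgroup.inclusion (by simp)))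
      (H85.restrict hφ _) ⟨(x : Ω), Subgroup.mem_sup_right x.2⟩ x.2
    exact h1
  intro n
  induction n using Nat.strong_induction_on with
  | _ n ih =>
  intro P₀ R hP₀ hR hn
  set D := P₀ ⊔ R with hDdef
  intro φ hφ x hx
  have hDS : D ≤ S := H85.source_le hφ
  by_cases hTD : T ≤ D
  · exact centE_image hS hE hTD le_sup_right hR hφ x hx
  set P := D ⊓ T with hPdef
  have hP₀P : P₀ ≤ P := le_inf le_sup_left hP₀
  have hPT : P ≤ T := inf_le_right
  have : Finite P := H85.finite_of_le (hPT.trans hTS)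
  have hPc : Nat.card P₀ ≤ Nat.card P := Subgroup.card_le_of_le hP₀P
  have key : ∀ (P' R' : Subgroup Ω), P' ≤ T → R' ≤ centE p F E → Nat.card P < Nat.card P' →
      ∀ χ ∈ F.Hom (P' ⊔ R'), ∀ y : ↥(P' ⊔ R'), (y : Ω) ∈ R' → χ y ∈ centE p F E := by
    intro P' R' hP' hR' hlt
    have : Nat.card P' ≤ Nat.card T := Subgroup.card_le_of_le hP'
    exact ih (Nat.card T - Nat.card P') (by omega) P' R' hP' hR' le_rfl
  -- a fully normalized conjugate
  obtain ⟨D₁, hDD₁, hD₁⟩ := H85.exists_fullyNormalized F hDS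
  obtain ⟨m, hm, -, himg⟩ := H85.exists_map_to_fullyNormalized hS hF hD₁ hDD₁
  have hDN : D ≤ normalizerIn S D := H85.le_normalizerIn hDS
  have hconj₂ : F.IsConj φ.range D₁ := H85.isConj_trans (H85.isConj_symm ⟨φ, hφ, rfl⟩) hDD₁
  obtain ⟨m₂, hm₂, -, himg₂⟩ := H85.exists_map_to_fullyNormalized hS hF hD₁ hconj₂
  have hφS : φ.range ≤ S := H85.range_le hφ
  have hDN₂ : φ.range ≤ normalizerIn S φ.range := H85.le_normalizerIn hφS
  have hmD := H85.restrict hm hDN
  set g := m.comp (Subgroup.inclusion hDN) with hgdef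
  have hgr : g.range = D₁ := by
    rw [← himg]
    ext y
    constructor
    · rintro ⟨z, rfl⟩
      exact H85.apply_mem_img z.2
    · intro hy
      obtain ⟨z, hz, rfl⟩ := H85.mem_img.1 hy
      exact ⟨⟨z, hz⟩, congrArg m (Subtype.ext rfl)⟩
  set P₁ := D₁ ⊓ T with hP₁def
  set R₁ := H85.img g R with hR₁def
  have hP₁g : H85.img g P = P₁ := by rw [hPdef, img_inf_stronglyClosed hTc hmD, hgr]
  have hR₁ : R₁ ≤ centE p F E := by
    intro y hy
    obtain ⟨z, hz, rfl⟩ := H85.mem_img.1 hy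
    have hN : normalizerIn T D ⊔ R ≤ normalizerIn S D :=
      sup_le (inf_le_inf_right _ hTS) (le_sup_right.trans hDN)
    exact key _ R inf_le_left hR (card_lt_normalizer_trace hS hTc hDS hTD) _
      (H85.restrict hm hN) ⟨z, Subgroup.mem_sup_right hz⟩ hz
  have hD₁eq : P₁ ⊔ R₁ = D₁ := by
    refine le_antisymm (sup_le inf_le_left ((H85.img_le_range g).trans hgr.le)) ?_
    rw [← hgr]
    rintro _ ⟨z, rfl⟩
    have hz : (z : Ω) ∈ P ⊔ R := sup_le_sup_right hP₀P R z.2
    have hle : P ⊔ R ≤ ((P₁ ⊔ R₁).comap g).map D.subtype := sup_le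
      (fun w hw => ⟨⟨w, hw.1⟩, Subgroup.mem_sup_left (hP₁g ▸ H85.apply_mem_img hw), rfl⟩)
      (fun w hw => ⟨⟨w, Subgroup.mem_sup_right hw⟩,
        Subgroup.mem_sup_right (H85.apply_mem_img hw), rfl⟩)
    obtain ⟨w, hw, hwz⟩ := hle hz
    exact (Subtype.ext hwz : w = z) ▸ hw
  have hcard₁ : Nat.card P₁ = Nat.card P := by
    rw [← hP₁g]
    exact (Nat.card_congr (H85.resIso g (F.injective_of_mem hmD) inf_le_left).toEquiv).symm
  -- the automorphism
  let e₁ : D ≃* D₁ := H85.isoOf g hmD hgr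
  have he₁ : H85.IsFIso F e₁ := H85.isFIso_isoOf g hmD hgr
  let e₂ : φ.range ≃* D₁ :=
    (H85.resIso m₂ (F.injective_of_mem hm₂) hDN₂).trans (MulEquiv.subgroupCongr himg₂)
  have he₂ : H85.IsFIso F e₂ := H85.hom_congr (H85.restrict hm₂ hDN₂) fun z => rfl
  let e := H85.isoOf φ hφ rfl
  have hα : H85.IsFIso F (e₁.symm.trans (e.trans e₂)) :=
    he₁.symm.trans ((H85.isFIso_isoOf φ hφ rfl).trans he₂)
  have hP₁lt : P₁ < T := lt_of_le_of_ne inf_le_right fun h => hTD (by
    have hPeq : P = T := Subgroup.eq_of_le_of_card_ge hPT (by rw [← hcard₁, h])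
    exact hPeq ▸ inf_le_left)
  have hαR : ∀ y : D₁, (y : Ω) ∈ R₁ →
      ((e₁.symm.trans (e.trans e₂)) y : Ω) ∈ centE p F E := by
    generalize (e₁.symm.trans (e.trans e₂)) = α at hα
    revert α
    rw [← hD₁eq]
    intro α hα y hy
    exact centE_step hS hE inf_le_right hR₁ (by rw [hD₁eq]) (hD₁eq.symm ▸ hD₁) hP₁lt
      (fun P' hP' hlt => key P' R₁ hP' hR₁ (hcard₁ ▸ hlt))
      ((H85.mem_autGroup (hD₁eq.symm ▸ hD₁.1)).2 hα) y hy
  have hw : (e₂ (e x) : Ω) ∈ centE p F E := by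
    have h1 := hαR (e₁ x) (H85.apply_mem_img (φ := g) hx)
    rwa [MulEquiv.trans_apply, MulEquiv.symm_apply_apply] at h1
  -- back along the inverse of the second map
  let i₂ := H85.isoOf m₂ hm₂ rfl
  have hi₂ : H85.IsFIso F i₂ := H85.isFIso_isoOf m₂ hm₂ rfl
  set w : Ω := (e₂ (e x) : Ω) with hwdef
  have hwe : w = m₂ (Subgroup.inclusion hDN₂ (e x)) := rfl
  have hN₂ : normalizerIn T φ.range ≤ normalizerIn S φ.range := inf_le_inf_right _ hTS
  set P₃ := H85.img m₂ (normalizerIn T φ.range) with hP₃def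
  have hP₃T : P₃ ≤ T := by
    intro y hy
    obtain ⟨z, hz, rfl⟩ := H85.mem_img.1 hy
    exact map_mem_of_stronglyClosed hTc hm₂ hz.1
  have hnle₂ : ¬ T ≤ φ.range := by
    intro h
    have h1 : P = T := by
      refine Subgroup.eq_of_le_of_card_ge hPT ?_
      rw [Nat.card_congr (H85.resIso φ (F.injective_of_mem hφ) (inf_le_left : P ≤ D)).toEquiv]
      show Nat.card T ≤ Nat.card (H85.img φ (D ⊓ T))
      rw [img_inf_stronglyClosed hTc hφ, inf_eq_right.2 h]
    exact hTD (h1 ▸ inf_le_left)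
  have hbig : Nat.card P < Nat.card P₃ := by
    rw [Nat.card_congr (H85.resIso φ (F.injective_of_mem hφ) (inf_le_left : P ≤ D)).toEquiv,
      show H85.img φ P = φ.range ⊓ T from img_inf_stronglyClosed hTc hφ,
      ← Nat.card_congr (H85.resIso m₂ (F.injective_of_mem hm₂) hN₂).toEquiv]
    exact card_lt_normalizer_trace hS hTc hφS hnle₂
  have hle₃ : P₃ ⊔ Subgroup.zpowers w ≤ m₂.range :=
    sup_le (H85.img_le_range m₂) (Subgroup.zpowers_le.2 ⟨_, hwe.symm⟩)
  have h1 := key P₃ (Subgroup.zpowers w) hP₃T (Subgroup.zpowers_le.2 hw) hbig _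
    (H85.restrict hi₂.symm hle₃) ⟨w, Subgroup.mem_sup_right (Subgroup.mem_zpowers w)⟩
    (Subgroup.mem_zpowers w)
  have h2 : (Subgroup.inclusion hle₃
      ⟨w, Subgroup.mem_sup_right (Subgroup.mem_zpowers w)⟩ : m₂.range) =
      i₂ (Subgroup.inclusion hDN₂ (e x)) := Subtype.ext hwe
  have h3 : (((i₂.symm (Subgroup.inclusion hle₃
      ⟨w, Subgroup.mem_sup_right (Subgroup.mem_zpowers w)⟩)) : normalizerIn S φ.range) : Ω) = φ x := by
    rw [h2, MulEquiv.symm_apply_apply]
    rfl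
  exact h3 ▸ h1

end H86
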