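import Cfsg.Agent.H86.Join
import Cfsg.Agent.H86.Sylow
import Cfsg.Agent.H86.Induction
import Cfsg.Agent.H85.Normal
import Cfsg.Agent.H85.CentricExt
import Cfsg.Agent.H85.GroupSystem

/-! Constrained fusion systems: the largest normal subgroup, normal subgroups, central quotients. -/

set_option autoImplicit false

open Cfsg Cfsg.FusionSystem
open scoped commutatorElement

namespace H86

section General

variable {Ω : Type*} [Group Ω] {S : Subgroup Ω}

/-- In a constrained system `O_p(F)` is centric and induces every element of `S` acting on it as an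
element of a normal `p`-subgroup of its automisation. -/
theorem core_spec [Finite S] {p : ℕ} [Fact p.Prime] (hS : IsPGroup p S) {F : FusionSystem S}
    (hF : F.IsConstrained p) :
    F.IsNormal F.core ∧ F.IsCentric F.core ∧
      ∀ (N : Subgroup (MulAut F.core)), N ≤ F.autGroup F.core →
        (N.subgroupOf (F.autGroup F.core)).Normal → IsPGroup p N →
        ∀ g (hg : g ∈ normalizerIn S F.core), H85.conjAut S F.core ⟨g, hg⟩ ∈ N → g ∈ F.core := by
  obtain ⟨hsat, Q₀, hQ₀, hQ₀c⟩ := hF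
  have hnor : F.IsNormal F.core := sSup_mem_of_sup_closed (C := fun Q => F.IsNormal Q)
    (fun Q h => h.1) (isNormal_bot F) (fun Q R => isNormal_sup F)
  have hcen : F.IsCentric F.core := H85.centric_mono hQ₀c (le_sSup hQ₀) hnor.1
  refine ⟨hnor, hcen, ?_⟩
  set Q := F.core with hQdef
  intro N hN hNn hNp g hg hgN
  have hQS : Q ≤ S := hnor.1
  have hQsc := H85.stronglyClosed_of_isNormal hnor
  have hQn := fullyNormalized_stronglyClosed hQsc
  obtain ⟨hQa, hQr⟩ := H85.automized_receptive_of_fullyNormalized hS hsat hQn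
  obtain ⟨-, T, hT⟩ := hQa
  have hNS : N ≤ autInducedBy S Q := by
    intro a ha
    have h1 : N.subgroupOf (F.autGroup Q) ≤ (T : Subgroup (F.autGroup Q)) :=
      (hNp.of_equiv (Subgroup.subgroupOfEquivOfLe hN).symm).le_sylow_of_normal T
    have h2 := h1 (show (⟨a, hN ha⟩ : F.autGroup Q) ∈ N.subgroupOf (F.autGroup Q) from ha)
    rw [hT] at h2
    exact h2
  let Qx : Subgroup Ω :=
    ((N ⊔ Cfsg.Inn Q).comap (H85.conjAut S Q)).map (normalizerIn S Q).subtype
  have hQxS : Qx ≤ S := (Subgroup.map_subtype_le _).trans inf_le_left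
  have hQQx : Q ≤ Qx := fun x hx => ⟨⟨x, H85.le_normalizerIn hQS hx⟩,
    Subgroup.mem_sup_right ⟨⟨x, hx⟩, MulEquiv.ext fun y => Subtype.ext rfl⟩, rfl⟩
  have hInn : Cfsg.Inn Q ≤ F.autGroup Q := H85.inn_le_autGroup F hQS
  have hMn : ∀ a ∈ F.autGroup Q, ∀ b ∈ N ⊔ Cfsg.Inn Q, a * b * a⁻¹ ∈ N ⊔ Cfsg.Inn Q := by
    intro a ha b hb
    have : N ⊔ Cfsg.Inn Q ≤ (N ⊔ Cfsg.Inn Q).comap (MulAut.conj a).toMonoidHom := by
      refine sup_le (fun n hn => Subgroup.mem_sup_left ?_) ?_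
      · exact hNn.conj_mem ⟨n, hN hn⟩ hn ⟨a, ha⟩
      · rintro _ ⟨q, rfl⟩
        refine Subgroup.mem_sup_right ⟨a q, MulEquiv.ext fun y => ?_⟩
        show a q * y * (a q)⁻¹ = a (q * a⁻¹ y * q⁻¹)
        rw [map_mul, map_mul, map_inv, MulAut.apply_inv_self]
    exact this hb
  have hMS : N ⊔ Cfsg.Inn Q ≤ autInducedBy S Q := sup_le hNS (H85.inn_le_autInducedBy hQS)
  have hnorm : F.IsNormal Qx := by
    rw [H85.isNormal_iff_extends hS hsat hQxS]
    intro P hP φ hφ
    obtain ⟨ψ, hψ, hψe, hψQ⟩ := hnor.2 P φ hφ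
    have : Finite Q := H85.finite_of_le hQS
    have hψ' := H85.restrict hψ (le_sup_right : Q ≤ P ⊔ Q)
    have hr : (ψ.comp (Subgroup.inclusion (le_sup_right : Q ≤ P ⊔ Q))).range = Q :=
      range_eq_self_of_le F hψ' (by rintro _ ⟨x, rfl⟩; exact hQsc.2 Q le_rfl _ hψ' x)
    let α : MulAut Q := H85.isoOf _ hψ' hr
    have hαA : α ∈ F.autGroup Q := Subgroup.subset_closure (H85.isFIso_isoOf _ hψ' hr)
    have hαF := (H85.mem_autGroup hQS).1 hαA
    obtain ⟨χ₀, hχ₀, hext⟩ := H85.receptive_extend hQr hαF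
    have hX : Qx ≤ extender S Q (Q.subtype.comp α.toMonoidHom) := by
      rintro _ ⟨s, hs, rfl⟩
      refine H85.mem_extender.2 ⟨s.2.1, s.2.2, ?_⟩
      obtain ⟨h, hh, hhe⟩ := H85.mem_autInducedBy.1 (hMS (hMn α hαA _ hs))
      refine ⟨h, hh, fun x hx => ?_⟩
      have h3 := hhe (α x)
      simp only [MulAut.mul_apply, MulAut.inv_apply_self] at h3
      refine Eq.trans ?_ h3
      exact congrArg (fun z : Q => ((α z : Q) : Ω)) (Subtype.ext rfl)
    have hχ := H85.restrict hχ₀ hX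
    set χ := χ₀.comp (Subgroup.inclusion hX) with hχdef
    have hχQ : ∀ x : Q, χ ⟨x, hQQx x.2⟩ = (α x : Ω) := fun x => hext x x.2 _
    have hχmem : ∀ s, χ s ∈ Qx := by
      rintro ⟨_, s, hs, rfl⟩
      have h1 : χ ⟨_, s, hs, rfl⟩ ∈ normalizerIn S Q :=
        ⟨H85.map_mem hχ _, H85.extend_maps_normalizer (e := α) hQQx hχQ s.2.2⟩
      refine ⟨⟨_, h1⟩, ?_, rfl⟩
      have h2 : H85.conjAut S Q ⟨_, h1⟩ = α * H85.conjAut S Q s * α⁻¹ := by
        refine MulEquiv.ext fun y => Subtype.ext ?_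
        obtain ⟨x, rfl⟩ := α.surjective y
        show χ ⟨_, s, hs, rfl⟩ * (α x : Ω) * (χ ⟨_, s, hs, rfl⟩)⁻¹ = _
        rw [← H85.extend_conj (e := α) hQQx hχQ (g := (⟨_, s, hs, rfl⟩ : Qx)) (x := x)
          (H85.conj_mem_of_mem_normalizer s.2.2 x.2)]
        simp only [MulAut.mul_apply, MulAut.inv_apply_self]
        rfl
      show H85.conjAut S Q ⟨_, h1⟩ ∈ N ⊔ Cfsg.Inn Q
      rw [h2]
      exact hMn α hαA _ hs
    have hle : P ⊔ Q ≤ Qx := sup_le hP hQQx
    obtain ⟨z, hzQ, -, hz⟩ := H85.centric_agree hS hsat (le_sup_right : Q ≤ P ⊔ Q) hcen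
      (H85.restrict hχ hle) hψ (fun x hx => hχQ ⟨x, hx⟩)
    have hzQx : (z : Ω) ∈ Qx := hQQx hzQ
    have : Finite Qx := H85.finite_of_le hQxS
    have hγ : χ.comp (MulAut.conj (⟨z, hzQx⟩ : Qx)).toMonoidHom ∈ F.Hom Qx := by
      have hc := F.conj_mem hQxS (hQxS hzQx)
      exact comp_mem' F hc hχ
        (fun x => Qx.mul_mem (Qx.mul_mem hzQx x.2) (Qx.inv_mem hzQx)) (fun x => rfl)
    have hγr : (χ.comp (MulAut.conj (⟨z, hzQx⟩ : Qx)).toMonoidHom).range = Qx :=
      range_eq_self_of_le F hγ (by rintro _ ⟨x, rfl⟩; exact hχmem _)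
    refine ⟨H85.isoOf _ hγ hγr, Subgroup.subset_closure (H85.isFIso_isoOf _ hγ hγr), fun x => ?_⟩
    refine Eq.trans ?_ (hψe x)
    rw [hz (Subgroup.inclusion le_sup_left x)]
    rfl
  exact le_sSup (a := Qx) hnorm ⟨⟨g, hg⟩, Subgroup.mem_sup_left hgN, rfl⟩

/-- An element of `S` stabilising the series `1 ≤ Q ∩ R ≤ Q` lies in `Q = O_p(F)`. -/
theorem mem_core_of_stab [Finite S] {p : ℕ} [Fact p.Prime] (hS : IsPGroup p S)
    {F : FusionSystem S} (hF : F.IsConstrained p) (R : Subgroup Ω)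
    (hinv : ∀ a ∈ F.autGroup F.core, ∀ q : F.core, (q : Ω) ∈ R → (a q : Ω) ∈ R)
    {x : Ω} (hx : x ∈ S) (h1 : ∀ q ∈ F.core, q ∈ R → x * q * x⁻¹ = q)
    (h2 : ∀ q ∈ F.core, q⁻¹ * (x * q * x⁻¹) ∈ R) : x ∈ F.core := by
  obtain ⟨hnor, hcen, hspec⟩ := core_spec hS hF
  set Q := F.core with hQdef
  have hQS : Q ≤ S := hnor.1
  have : Finite Q := H85.finite_of_le hQS
  have hxN : x ∈ normalizerIn S Q :=
    ⟨hx, H85.mem_normalizer_of_conj fun q hq =>
      normal_of_stronglyClosed F (H85.stronglyClosed_of_isNormal hnor) hx hq⟩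
  let A : ℕ → Subgroup Q := fun i => if i = 0 then ⊥ else if i = 1 then R.subgroupOf Q else ⊤
  have hM : ∀ a ∈ F.autGroup Q, ∀ i, ∀ q ∈ A i, a q ∈ A i := by
    intro a ha i q hq
    rcases i with _ | _ | i
    · have hq' : q = 1 := Subgroup.mem_bot.1 hq
      show a q ∈ (⊥ : Subgroup Q)
      rw [hq', map_one]
      exact one_mem _
    · exact hinv a ha q hq
    · exact Subgroup.mem_top _
  have hc : H85.conjAut S Q ⟨x, hxN⟩ ∈ F.autGroup Q :=
    H85.autInducedBy_le_autGroup F hQS (H85.mem_autInducedBy.2 ⟨x, hx, fun _ => rfl⟩)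
  refine hspec (H85.chainStab (F.autGroup Q) A hM) (H85.chainStab_le hM)
    (H85.chainStab_normal hM) (H85.chainStab_isPGroup (m := 2) (hS.to_le hQS) hM rfl rfl)
    x hxN ⟨hc, fun i q hq => ?_⟩
  rcases i with _ | _ | i
  · show q⁻¹ * H85.conjAut S Q ⟨x, hxN⟩ q ∈ (⊥ : Subgroup Q)
    rw [Subgroup.mem_bot, inv_mul_eq_one]
    exact Subtype.ext (h1 q q.2 hq).symm
  · exact h2 q q.2
  · exact Subgroup.mem_top _

end General

variable {G : Type*} [Group G] [Finite G]

theorem isConstrained_comap {p : ℕ} [Fact p.Prime] {H : Type*} [Group H]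
    (j : H →* G) (hj : Function.Injective j) (hn : j.range.Normal) {S : Subgroup G}
    (R : Sylow p G) (hR : (R : Subgroup G) = S)
    (hF : (groupFusionSystem S).IsConstrained p) :
    (∃ R' : Sylow p H, (R' : Subgroup H) = S.comap j) ∧
      (groupFusionSystem (S.comap j)).IsConstrained p := by
  classical
  subst hR
  have : Finite H := Finite.of_injective j hj
  obtain ⟨R₀, hR₀⟩ := exists_sylow_inf_normal R j.range
  let e : H ≃* j.range := MonoidHom.ofInjective hj
  have hes : Function.Surjective e.symm.toMonoidHom := e.symm.surjective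
  have hT : ((R₀.mapSurjective (f := e.symm.toMonoidHom) hes : Sylow p H) : Subgroup H) =
      (R : Subgroup G).comap j := by
    refine (Sylow.coe_mapSurjective hes R₀).trans ?_
    rw [hR₀]
    ext y
    constructor
    · rintro ⟨z, hz, rfl⟩
      show j (e.symm z) ∈ (R : Subgroup G)
      have : j (e.symm z) = (z : G) := congrArg Subtype.val (e.apply_symm_apply z)
      rw [this]
      exact hz
    · intro hy
      exact ⟨e y, hy, e.symm_apply_apply y⟩
  refine ⟨⟨_, hT⟩, ?_⟩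
  have hsat := H85.isSaturated_groupFusionSystem (R₀.mapSurjective (f := e.symm.toMonoidHom) hes)
  rw [hT] at hsat
  have hTp : IsPGroup p ((R : Subgroup G).comap j) := hT ▸ Sylow.isPGroup' _
  set F := groupFusionSystem (R : Subgroup G)
  obtain ⟨hnor, -, -⟩ := core_spec R.2 hF
  set E := groupFusionSystem ((R : Subgroup G).comap j)
  have hscE : ∀ U : Subgroup G, F.StronglyClosed U → E.StronglyClosed (U.comap j) := by
    intro U hU
    refine ⟨Subgroup.comap_mono hU.1, fun P hP φ hφ x => ?_⟩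
    obtain ⟨-, hφS, h, hh⟩ := hφ
    have hmem : conjHom (P.map j) (j h) ∈ F.Hom (P.map j) := by
      refine ⟨(Subgroup.map_le_iff_le_comap.2 (hP.trans (Subgroup.comap_mono hU.1))), ?_,
        j h, fun _ => rfl⟩
      rintro ⟨_, y, hy, rfl⟩
      show j h * j y * (j h)⁻¹ ∈ (R : Subgroup G)
      rw [← map_inv, ← map_mul, ← map_mul, ← hh ⟨y, hy⟩]
      exact hφS ⟨y, hy⟩
    have h1 := hU.2 (P.map j) (Subgroup.map_le_iff_le_comap.2 hP) _ hmem ⟨j x, x, x.2, rfl⟩
    show j (φ x) ∈ U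
    rw [hh, map_mul, map_mul, map_inv]
    exact h1
  obtain ⟨n, Qs, h0, hlast, -, hsc, hcomm⟩ := H85.exists_chain_of_isNormal R.2 hnor
  have hR' : E.IsNormal (F.core.comap j) := by
    have h := H85.isNormal_of_chain hTp hsat n (fun i => (Qs i).comap j)
      (by simp only [h0]; exact (MonoidHom.ker_eq_bot_iff j).2 hj)
      (fun i _ => hscE _ (hsc i)) (fun i hi => ?_)
    · simpa [hlast] using h
    · simp only [hlast]
      rw [Subgroup.commutator_le]
      intro a ha b hb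
      show j ⁅a, b⁆ ∈ Qs i
      rw [map_commutatorElement]
      exact hcomm i hi (Subgroup.commutator_mem_commutator ha hb)
  refine ⟨hsat, _, hR', hR'.1, ?_⟩
  intro P hP x hx
  obtain ⟨φ, hφ, hφr⟩ := hP
  have hPe : P = F.core.comap j := by
    rw [← hφr]
    refine range_eq_self_of_le E hφ ?_
    rintro _ ⟨y, rfl⟩
    exact (H85.stronglyClosed_of_isNormal hR').2 _ le_rfl φ hφ y
  rw [hPe] at hx ⊢
  obtain ⟨hxS, hxC⟩ := H85.mem_centralizerIn.1 hx
  refine mem_core_of_stab R.2 hF j.range (fun a ha q hq => ?_) hxS (fun q hqQ hq => ?_)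
    (fun q hqQ => ?_)
  · obtain ⟨-, -, g, hg⟩ := (H85.mem_autGroup hnor.1).1 ha
    rw [show ((a q : F.core) : G) = g * (q : G) * g⁻¹ from hg q]
    exact hn.conj_mem _ hq g
  · obtain ⟨y, rfl⟩ := hq
    rw [← map_inv, ← map_mul, ← map_mul, ← hxC y hqQ, mul_inv_cancel_right]
  · rw [← mul_assoc, ← mul_assoc]
    have h1 : q⁻¹ * j x * q⁻¹⁻¹ ∈ j.range := hn.conj_mem _ ⟨x, rfl⟩ q⁻¹
    rw [inv_inv] at h1
    exact j.range.mul_mem h1 (inv_mem ⟨x, rfl⟩)

theorem isConstrained_of_subnormal {p : ℕ} [Fact p.Prime] (S : Sylow p G)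
    (hF : (groupFusionSystem (S : Subgroup G)).IsConstrained p) {H : Subgroup G}
    (hH : H.IsSubnormal) :
    (∃ R : Sylow p H, (R : Subgroup H) = (S : Subgroup G).subgroupOf H) ∧
      (groupFusionSystem ((S : Subgroup G).subgroupOf H)).IsConstrained p := by
  induction hH with
  | top =>
    exact isConstrained_comap (⊤ : Subgroup G).subtype Subtype.coe_injective
      (by rw [Subgroup.range_subtype]; infer_instance) S rfl hF
  | step H K hle _ hN ih =>
    obtain ⟨⟨R, hR⟩, hK⟩ := ih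
    exact isConstrained_comap (Subgroup.inclusion hle) (Subgroup.inclusion_injective hle)
      (by rw [Subgroup.inclusion_range]; exact hN) R hR hK

theorem isConstrained_central_quotient {p : ℕ} [Fact p.Prime] (S : Sylow p G)
    (hF : (groupFusionSystem (S : Subgroup G)).IsConstrained p) (Z : Subgroup G) [Z.Normal]
    (hZ : Z ≤ Subgroup.center G) :
    (groupFusionSystem ((S : Subgroup G).map (QuotientGroup.mk' Z))).IsConstrained p := by
  classical
  set π := QuotientGroup.mk' Z with hπ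
  have hsurj : Function.Surjective π := QuotientGroup.mk'_surjective Z
  have hker : ∀ g, π g = 1 ↔ g ∈ Z := fun g => QuotientGroup.eq_one_iff g
  set F := groupFusionSystem (S : Subgroup G)
  set E := groupFusionSystem ((S : Subgroup G).map π)
  have hsat : E.IsSaturated p := by
    have := H85.isSaturated_groupFusionSystem (S.mapSurjective hsurj)
    rwa [Sylow.coe_mapSurjective] at this
  obtain ⟨hnor, -, -⟩ := core_spec S.2 hF
  have hSn : ∀ y ∈ (S : Subgroup G) ⊔ Z, (∃ k : ℕ, y ^ p ^ k = 1) → y ∈ (S : Subgroup G) := by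
    rintro y hy ⟨k, hk⟩
    let K : Subgroup G := (S : Subgroup G) ⊔ Z
    have hKn : ((S : Subgroup G).subgroupOf K).Normal := by
      rw [Subgroup.normal_subgroupOf_iff_le_normalizer le_sup_left]
      refine sup_le Subgroup.le_normalizer fun z hz => ?_
      refine Subgroup.mem_normalizer_iff.2 fun x => ?_
      rw [← Subgroup.mem_center_iff.1 (hZ hz) x, mul_inv_cancel_right]
    have hS' : ((S.subtype (le_sup_left : (S : Subgroup G) ≤ K) : Sylow p K) : Subgroup K).Normal := by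
      rw [Sylow.coe_subtype]
      exact hKn
    have hp : IsPGroup p (Subgroup.zpowers (⟨y, hy⟩ : K)) := by
      obtain ⟨m, -, hm⟩ := (Nat.dvd_prime_pow (Fact.out : p.Prime)).1
        (orderOf_dvd_of_pow_eq_one (Subtype.ext hk : (⟨y, hy⟩ : K) ^ p ^ k = 1))
      exact IsPGroup.of_card (n := m) (by rw [Nat.card_zpowers, hm])
    obtain ⟨P, hP⟩ := hp.exists_le_sylow
    have := Sylow.unique_of_normal _ hS'
    rw [Subsingleton.elim P (S.subtype (le_sup_left : (S : Subgroup G) ≤ K)), Sylow.coe_subtype] at hP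
    exact hP (Subgroup.mem_zpowers _)
  have hscE : ∀ U : Subgroup G, F.StronglyClosed U → E.StronglyClosed (U.map π) := by
    intro U hU
    refine ⟨Subgroup.map_mono hU.1, fun P hP φ hφ x => ?_⟩
    obtain ⟨-, hφS, gb, hgb⟩ := hφ
    obtain ⟨g, rfl⟩ := hsurj gb
    obtain ⟨u, hu, hux⟩ := hP x.2
    obtain ⟨s, hs, hsx⟩ := hφS x
    have h1 : π s = π (g * u * g⁻¹) := by rw [hsx, hgb, map_mul, map_mul, map_inv, hux]
    rw [hπ, QuotientGroup.mk'_eq_mk'] at h1
    obtain ⟨z, hz, hsz⟩ := h1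
    have h2 : g * u * g⁻¹ ∈ (S : Subgroup G) := by
      refine hSn _ (hsz ▸ Subgroup.mul_mem_sup hs hz) ?_
      obtain ⟨k, hk⟩ := S.2 ⟨u, hU.1 hu⟩
      refine ⟨k, ?_⟩
      rw [conj_pow, show u ^ p ^ k = 1 from congrArg Subtype.val hk, mul_one, mul_inv_cancel]
    have h3 : conjHom (Subgroup.zpowers u) g ∈ F.Hom (Subgroup.zpowers u) := by
      refine ⟨Subgroup.zpowers_le.2 (hU.1 hu), ?_, g, fun _ => rfl⟩
      rintro ⟨_, i, rfl⟩
      show g * u ^ i * g⁻¹ ∈ (S : Subgroup G)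
      rw [← conj_zpow]
      exact (S : Subgroup G).zpow_mem h2 i
    refine ⟨g * u * g⁻¹, hU.2 _ (Subgroup.zpowers_le.2 hu) _ h3 ⟨u, Subgroup.mem_zpowers u⟩, ?_⟩
    rw [hgb, map_mul, map_mul, map_inv, hux]
  obtain ⟨n, Qs, h0, hlast, -, hsc, hcomm⟩ := H85.exists_chain_of_isNormal S.2 hnor
  have hR' : E.IsNormal (F.core.map π) := by
    have h := H85.isNormal_of_chain (S.2.map π) hsat n (fun i => (Qs i).map π)
      (by simp [h0]) (fun i _ => hscE _ (hsc i)) (fun i hi => ?_)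
    · simpa [hlast] using h
    · simp only [hlast]
      rw [← Subgroup.map_commutator]
      exact Subgroup.map_mono (hcomm i hi)
  refine ⟨hsat, _, hR', hR'.1, ?_⟩
  intro P hP xb hxb
  obtain ⟨φ, hφ, hφr⟩ := hP
  have hPe : P = F.core.map π := by
    rw [← hφr]
    refine range_eq_self_of_le E hφ ?_
    rintro _ ⟨y, rfl⟩
    exact (H85.stronglyClosed_of_isNormal hR').2 _ le_rfl φ hφ y
  rw [hPe] at hxb ⊢
  obtain ⟨⟨x, hxS, rfl⟩, hxC⟩ := H85.mem_centralizerIn.1 hxb
  refine ⟨x, mem_core_of_stab S.2 hF Z (fun a ha q hq => ?_) hxS (fun q hqQ hq => ?_)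
    (fun q hqQ => ?_), rfl⟩
  · obtain ⟨-, -, g, hg⟩ := (H85.mem_autGroup hnor.1).1 ha
    rw [show ((a q : F.core) : G) = g * (q : G) * g⁻¹ from hg q]
    exact (inferInstance : Z.Normal).conj_mem _ hq g
  · rw [Subgroup.mem_center_iff.1 (hZ hq) x, mul_inv_cancel_right]
  · rw [← hker, map_mul, map_inv, map_mul, map_mul, map_inv, ← hxC _ ⟨q, hqQ, rfl⟩,
      mul_inv_cancel_right, inv_mul_cancel]

end H86
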