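import Cfsg.Agent.H86.NormalSub
import Cfsg.Agent.H87.PowerIndex
import Cfsg.Agent.H85.Focal

/-! The `p`-residual subsystem of the fusion system of a group. -/

set_option autoImplicit false

open Cfsg Cfsg.FusionSystem

namespace H86

variable {G : Type*} [Group G] [Finite G]

theorem pResidual_aut_le_group {p : ℕ} [hp : Fact p.Prime] (S : Sylow p G) {P : Subgroup G}
    (hP : P ≤ (S : Subgroup G) ⊓ pResidual p G) :
    (pResidual p ((groupFusionSystem (S : Subgroup G)).autGroup P)).map
        ((groupFusionSystem (S : Subgroup G)).autGroup P).subtype ≤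
      (fusionSystemOfSubgroup (pResidual p G) ((S : Subgroup G) ⊓ pResidual p G)
        inf_le_right).autGroup P := by
  classical
  set D := fusionSystemOfSubgroup (pResidual p G) ((S : Subgroup G) ⊓ pResidual p G) inf_le_right
    with hD
  rw [pResidual, MonoidHom.map_closure, Subgroup.closure_le]
  rintro _ ⟨α, hα, rfl⟩
  obtain ⟨-, -, g, hg⟩ := (H85.mem_autGroup (hP.trans inf_le_left)).1 α.2
  obtain ⟨k, hk⟩ := exists_pow_mem_pResidual p g
  have hgN : g ∈ Subgroup.normalizer (P : Set G) :=
    H85.mem_normalizer_of_induced (α := (α : MulAut P)) hg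
  have hcop : Nat.Coprime (p ^ k) (orderOf α) := (Nat.Coprime.pow_right k hα).symm
  let ν : MulAut P := P.normalizerMonoidHom ⟨g, hgN⟩
  have hν : ν = (α : MulAut P) := MulEquiv.ext fun x => Subtype.ext (hg x).symm
  have hmem : P.normalizerMonoidHom (⟨g, hgN⟩ ^ p ^ k) ∈ D.autGroup P :=
    Subgroup.subset_closure ⟨hP, fun x => hP (SetLike.coe_mem _),
      g ^ p ^ k, hk, fun x => rfl⟩
  rw [map_pow, show P.normalizerMonoidHom ⟨g, hgN⟩ = (α : MulAut P) from hν] at hmem
  show (α : MulAut P) ∈ D.autGroup P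
  obtain ⟨m, hm⟩ := exists_pow_eq_self_of_coprime (x := (α : MulAut P))
    (n := p ^ k) (by rw [Subgroup.orderOf_coe]; exact hcop)
  rw [← hm]
  exact pow_mem hmem m

theorem pResidual_system_eq {p : ℕ} [Fact p.Prime] (S : Sylow p G)
    {E : FusionSystem ((groupFusionSystem (S : Subgroup G)).hyperfocalSubgroup p)}
    (hE : (groupFusionSystem (S : Subgroup G)).IsPResidual p E) :
    E.Hom = (fusionSystemOfSubgroup (pResidual p G) ((S : Subgroup G) ⊓ pResidual p G)
      inf_le_right).Hom := by
  have hN : (pResidual p G).Normal := pResidual_normal' p G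
  obtain ⟨R, hR⟩ := exists_sylow_inf_normal S (pResidual p G)
  obtain ⟨⟨hsat, -, hsub, -, -⟩, -⟩ := isNormalIn_fusionSystemOfSubgroup S (pResidual p G)
  exact H87.pResidual_hom_eq S.2 hE.1 hsat (H85.hyperfocal_groupFusionSystem S) hE.2.1 hsub
    hE.2.2.2 fun P hP => pResidual_aut_le_group S hP

end H86
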