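import Cfsg.Agent.H86.SubsystemEq
import Cfsg.Agent.H86.NormalSub
import Cfsg.Agent.H86.Induction
import Cfsg.Agent.H85.CentricExt
import Cfsg.Agent.H85.Model

/-! Normal subsystems of the fusion system of a group with `C_G(O_p(G)) ≤ O_p(G)` come from normal
subgroups. -/

set_option autoImplicit false

open Cfsg
open Cfsg.FusionSystem (normalizerIn centralizerIn extender hyperfocalSubgroup)

namespace H86

section ModelSub

variable {G : Type*} [Group G] [Finite G] {p : ℕ} [Fact p.Prime]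

/-- The elements acting trivially on `N` modulo `R`. -/
def quotCentralizer (N R : Subgroup G) [hN : N.Normal] [hR : R.Normal] : Subgroup G :=
  (Subgroup.centralizer ((N.map (QuotientGroup.mk' R) : Subgroup (G ⧸ R)) : Set (G ⧸ R))).comap
    (QuotientGroup.mk' R)

theorem mem_quotCentralizer {N R : Subgroup G} [N.Normal] [R.Normal] {g : G} :
    g ∈ quotCentralizer N R ↔ ∀ q ∈ N, q⁻¹ * (g * q * g⁻¹) ∈ R := by
  rw [quotCentralizer, Subgroup.mem_comap, Subgroup.mem_centralizer_iff]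
  constructor
  · intro h q hq
    have h1 := h _ ⟨q, hq, rfl⟩
    rw [← map_mul, ← map_mul, QuotientGroup.mk'_apply, QuotientGroup.mk'_apply,
      QuotientGroup.eq] at h1
    have h2 : q⁻¹ * (g * q * g⁻¹) = g * (((q * g)⁻¹ * (g * q))) * g⁻¹ := by group
    rw [h2]
    exact ‹R.Normal›.conj_mem _ h1 g
  · rintro h _ ⟨q, hq, rfl⟩
    rw [← map_mul, ← map_mul, QuotientGroup.mk'_apply, QuotientGroup.mk'_apply, QuotientGroup.eq]
    have h2 : (q * g)⁻¹ * (g * q) = g⁻¹ * (q⁻¹ * (g * q * g⁻¹)) * g := by group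
    rw [h2]
    have h3 := ‹R.Normal›.conj_mem _ (h q hq) g⁻¹
    rwa [inv_inv] at h3

instance quotCentralizer_normal (N R : Subgroup G) [N.Normal] [R.Normal] :
    (quotCentralizer N R).Normal :=
  have : (N.map (QuotientGroup.mk' R)).Normal :=
    ‹N.Normal›.map _ (QuotientGroup.mk'_surjective R)
  Subgroup.Normal.comap inferInstance _

theorem isNormalIn_of_inf_eq (S : Sylow p G) (N : Subgroup G) [N.Normal] {T : Subgroup G}
    (hTN : T ≤ N) (h : (S : Subgroup G) ⊓ N = T) :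
    (fusionSystemOfSubgroup N T hTN).IsNormalIn (groupFusionSystem (S : Subgroup G)) p := by
  subst h
  exact isNormalIn_fusionSystemOfSubgroup S N

variable (S : Sylow p G) (hG : Subgroup.centralizer ((pCore p G : Subgroup G) : Set G) ≤ pCore p G)
  {T : Subgroup G} {E : FusionSystem T}
  (hE : E.IsNormalIn (groupFusionSystem (S : Subgroup G)) p)

include hE in
theorem sc_mem {g x : G} (hx : x ∈ T) (hgx : g * x * g⁻¹ ∈ (S : Subgroup G)) :
    g * x * g⁻¹ ∈ T := by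
  have hTc := hE.1.2.2.2.1
  have hle : Subgroup.zpowers x ≤ T := Subgroup.zpowers_le.2 hx
  refine hTc.2 _ hle (Cfsg.conjHom _ g) ⟨hle.trans hTc.1, ?_, g, fun y => rfl⟩
    ⟨x, Subgroup.mem_zpowers x⟩
  intro y
  have h : Subgroup.zpowers x ≤ (S : Subgroup G).comap (MulAut.conj g).toMonoidHom :=
    Subgroup.zpowers_le.2 hgx
  exact h y.2

include hE in
theorem core_inter_normal : (T ⊓ pCore p G).Normal :=
  ⟨fun x hx g => ⟨sc_mem S hE hx.1 (H85.pCore_le_sylow' S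
    ((H85.pCoreNormalInst p G).conj_mem x hx.2 g)), (H85.pCoreNormalInst p G).conj_mem x hx.2 g⟩⟩

include hG in
/-- Elements fixing `R` and acting trivially modulo `R` on `O_p(G)` lie in `O_p(G)`. -/
theorem stab_le_core (R : Subgroup G) [R.Normal] :
    quotCentralizer (pCore p G) R ⊓ Subgroup.centralizer (R : Set G) ≤ pCore p G := by
  set Q := pCore p G with hQdef
  set K := quotCentralizer Q R ⊓ Subgroup.centralizer (R : Set G) with hKdef
  refine le_sSup (show K ∈ {N : Subgroup G | N.Normal ∧ IsPGroup p N} from ⟨inferInstance, ?_⟩)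
  rintro ⟨g, hgZ, hgC⟩
  let a : MulAut Q := MulAut.conjNormal g
  obtain ⟨k, hk⟩ := H85.aut_isPElement (H85.pCore_isPGroup' p G) (Q := R) a
    (fun x hx => Subtype.ext (by
      show g * (x : G) * g⁻¹ = x
      rw [← Subgroup.mem_centralizer_iff.1 hgC _ hx, mul_inv_cancel_right]))
    (fun x => mem_quotCentralizer.1 hgZ x x.2)
  have hgk : g ^ p ^ k ∈ Q := hG (Subgroup.mem_centralizer_iff.2 fun q hq => by
    have h1 : (MulAut.conjNormal (g ^ p ^ k) : MulAut Q) ⟨q, hq⟩ = ⟨q, hq⟩ := by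
      rw [map_pow, hk]
      rfl
    have h2 : g ^ p ^ k * q * (g ^ p ^ k)⁻¹ = q := congrArg Subtype.val h1
    exact (mul_inv_eq_iff_eq_mul.1 h2).symm)
  obtain ⟨l, hl⟩ := H85.pCore_isPGroup' p G ⟨_, hgk⟩
  refine ⟨k + l, Subtype.ext ?_⟩
  show g ^ p ^ (k + l) = 1
  rw [pow_add, pow_mul]
  exact congrArg Subtype.val hl

/-- Conjugation on a normal subgroup, as maps of the fusion system. -/
theorem conjNormal_mem {R : Subgroup G} [hR : R.Normal] (hRS : R ≤ (S : Subgroup G)) (g : G) :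
    (MulAut.conjNormal g : MulAut R) ∈ (groupFusionSystem (S : Subgroup G)).autGroup R :=
  (H85.mem_autGroup hRS).2 ⟨hRS, fun _ => hRS (SetLike.coe_mem _), g, fun _ => rfl⟩

include hE hG in
set_option maxHeartbeats 1000000 in
theorem exists_subgroup_model :
    ∃ N : Subgroup G, ∃ hTN : T ≤ N, N.Normal ∧ (S : Subgroup G) ⊓ N = T ∧
      (∀ P : Subgroup G, E.Hom P = (fusionSystemOfSubgroup N T hTN).Hom P) ∧
      ∀ H' : Subgroup G, (∃ hTH' : T ≤ H', H'.Normal ∧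
        (∃ R : Sylow p H', (R : Subgroup H') = T.subgroupOf H') ∧
        ∀ P : Subgroup G, E.Hom P = (fusionSystemOfSubgroup H' T hTH').Hom P) → H' = N := by
  classical
  have hS : IsPGroup p (S : Subgroup G) := S.2
  have hEw := hE.1
  have hEF := hEw.2.2.1
  have hTc := hEw.2.2.2.1
  have hTS : T ≤ (S : Subgroup G) := hTc.1
  have hTp : IsPGroup p T := hS.to_le hTS
  have : Finite T := inferInstance
  set F := groupFusionSystem (S : Subgroup G) with hFdef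
  set Q := pCore p G with hQdef
  have hQS : Q ≤ (S : Subgroup G) := H85.pCore_le_sylow' S
  have hSN : ∀ s ∈ (S : Subgroup G), ∀ t ∈ T, s * t * s⁻¹ ∈ T :=
    fun s hs t ht => normal_of_stronglyClosed F hTc hs ht
  set R : Subgroup G := T ⊓ Q with hRdef
  have hRn : R.Normal := core_inter_normal S hE
  have hRT : R ≤ T := inf_le_left
  have hRS : R ≤ (S : Subgroup G) := hRT.trans hTS
  have hTQR : ∀ t ∈ T, ∀ q ∈ Q, q⁻¹ * (t * q * t⁻¹) ∈ R := by
    intro t ht q hq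
    refine ⟨?_, Q.mul_mem (Q.inv_mem hq) ((H85.pCoreNormalInst p G).conj_mem q hq t)⟩
    rw [show q⁻¹ * (t * q * t⁻¹) = q⁻¹ * t * q⁻¹⁻¹ * t⁻¹ by group]
    exact T.mul_mem (hSN _ (inv_mem (hQS hq)) t ht) (T.inv_mem ht)
  -- `R` is centric and fully normalized in `E`
  have hRc : ∀ t ∈ T, (∀ x ∈ R, x * t = t * x) → t ∈ R := fun t ht hc =>
    ⟨ht, stab_le_core hG R ⟨mem_quotCentralizer.2 (hTQR t ht),
      Subgroup.mem_centralizer_iff.2 hc⟩⟩
  have hREsc : E.StronglyClosed R := by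
    refine ⟨hRT, fun P hP φ hφ x => ⟨(E.le_of_mem hφ).2 x, ?_⟩⟩
    obtain ⟨-, -, g, hg⟩ := hEF P hφ
    rw [hg]
    exact (H85.pCoreNormalInst p G).conj_mem _ (hP x.2).2 g
  have hREn := fullyNormalized_stronglyClosed hREsc
  obtain ⟨hRa, hRr⟩ := H85.automized_receptive_of_fullyNormalized hTp hEw.1 hREn
  -- the groups `A` and `H₀`
  set A := E.autGroup R with hAdef
  let ρ : G →* MulAut R := MulAut.conjNormal
  have hρ : ∀ (g : G) (x : R), ((ρ g x : R) : G) = g * (x : G) * g⁻¹ := fun g x => rfl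
  have hAinv : ∀ (g : G), ∀ a ∈ A, ρ g * a * (ρ g)⁻¹ ∈ A := by
    intro g a ha
    have h := autGroup_transport hEw hRT hRT ((H85.mem_autGroup hRS).1 (conjNormal_mem S hRS g)) ha
    exact h
  set H₀ := quotCentralizer Q R ⊓ A.comap ρ with hH₀def
  have hH₀n : H₀.Normal := by
    refine ⟨fun x hx g => ⟨(quotCentralizer_normal Q R).conj_mem x hx.1 g, ?_⟩⟩
    show ρ (g * x * g⁻¹) ∈ A
    rw [map_mul, map_mul, map_inv]
    exact hAinv g _ hx.2
  have hTconj : ∀ t ∈ T, ρ t ∈ autInducedBy T R := fun t ht =>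
    H85.mem_autInducedBy.2 ⟨t, ht, hρ t⟩
  have hTH₀ : T ≤ H₀ := fun t ht => ⟨mem_quotCentralizer.2 (hTQR t ht),
    H85.autInducedBy_le_autGroup E hRT (hTconj t ht)⟩
  -- `H₀` induces all of `A`
  set L := H₀.map ρ with hLdef
  have hAG : ∀ a ∈ A, ∃ g, ρ g = a := by
    intro a ha
    obtain ⟨-, -, g, hg⟩ := hEF R ((H85.mem_autGroup hRT).1 ha)
    exact ⟨g, MulEquiv.ext fun x => Subtype.ext (hg x).symm⟩
  have hLp : ∀ a ∈ A, (∃ k : ℕ, orderOf a = p ^ k) → a ∈ L := by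
    intro a ha hk
    obtain ⟨γ, hγ, hc⟩ := H85.fullyAutomized_conj hRa (Subgroup.zpowers_le.2 ha)
      (isPGroup_zpowers hk)
    obtain ⟨t, ht, hte⟩ := H85.mem_autInducedBy.1 (hc a (Subgroup.mem_zpowers a))
    obtain ⟨g, rfl⟩ := hAG γ hγ
    refine ⟨g⁻¹ * t * g, by
      have h := hH₀n.conj_mem t (hTH₀ ht) g⁻¹
      rwa [inv_inv] at h, ?_⟩
    rw [map_mul, map_mul, map_inv,
      show ρ t = ρ g * a * (ρ g)⁻¹ from MulEquiv.ext fun x => Subtype.ext (hte x).symm]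
    group
  have hLt : ∀ β ∈ E.autGroup T, ∀ α ∈ A, (∀ x : R, (β ⟨x, hRT x.2⟩ : G) = α x) → α ∈ L := by
    intro β hβ α hα hβα
    obtain ⟨β', hβ', hβe, hβC⟩ := hE.2 β hβ
    obtain ⟨-, -, g, hg⟩ := (H85.mem_autGroup (sup_le hTS (H85.centralizerIn_le T))).1 hβ'
    have hgT : ∀ x : T, g * (x : G) * g⁻¹ = β x := fun x =>
      (hg (Subgroup.inclusion le_sup_left x)).symm.trans (hβe x)
    have hgρ : ρ g = α := MulEquiv.ext fun x =>
      Subtype.ext ((hgT ⟨x, hRT x.2⟩).trans (hβα x))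
    obtain ⟨a, m, hm, ham⟩ := Nat.exists_eq_pow_mul_and_not_dvd (orderOf_pos g).ne' p
      (Nat.Prime.ne_one Fact.out)
    -- the `p`-part
    have hpm : ρ g ^ m ∈ L := by
      refine hLp _ (hgρ ▸ pow_mem hα m) ?_
      have h1 : (ρ g ^ m) ^ p ^ a = 1 := by
        rw [← pow_mul, mul_comm, ← ham, ← map_pow, pow_orderOf_eq_one, map_one]
      obtain ⟨j, -, hj⟩ := (Nat.dvd_prime_pow Fact.out).1 (orderOf_dvd_of_pow_eq_one h1)
      exact ⟨j, hj⟩
    -- the part prime to `p`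
    set g' := g ^ p ^ a with hg'def
    have hg'T : ∀ x : T, g' * (x : G) * g'⁻¹ = (β ^ p ^ a) x := by
      intro x
      rw [hg'def]
      generalize p ^ a = j
      induction j generalizing x with
      | zero => simp
      | succ j ih =>
        rw [pow_succ, pow_succ, MulAut.mul_apply, ← ih (β x), ← hgT x]
        group
    have hg'C : ∀ c ∈ centralizerIn (S : Subgroup G) T, c⁻¹ * (g' * c * g'⁻¹) ∈ T := by
      intro c hc
      rw [hg'def]
      generalize p ^ a = j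
      induction j with
      | zero => simp [one_mem]
      | succ j ih =>
        have h1 : c⁻¹ * (g * c * g⁻¹) ∈ T := by
          have h := hg ⟨c, le_sup_right (α := Subgroup G) hc⟩
          exact h ▸ (hβC ⟨c, le_sup_right (α := Subgroup G) hc⟩ hc).1
        have h2 : c⁻¹ * (g ^ (j + 1) * c * (g ^ (j + 1))⁻¹) =
            (c⁻¹ * (g * c * g⁻¹)) * (g * (c⁻¹ * (g ^ j * c * (g ^ j)⁻¹)) * g⁻¹) := by
          rw [pow_succ']
          group
        rw [h2]
        exact mul_mem h1 (by rw [hgT ⟨_, ih⟩]; exact SetLike.coe_mem _)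
    have hg'ord : ¬ p ∣ orderOf g' := by
      rw [hg'def, orderOf_pow_of_dvd (pow_ne_zero _ (Nat.Prime.ne_zero Fact.out))
        (ham ▸ dvd_mul_right _ _), ham, Nat.mul_div_cancel_left _
        (Nat.pow_pos (Nat.Prime.pos Fact.out))]
      exact hm
    have hg'H : g' ∈ H₀ := by
      refine ⟨mem_quotCentralizer.2 fun x hx => ?_, ?_⟩
      swap
      · show ρ (g ^ p ^ a) ∈ A
        rw [map_pow, hgρ]
        exact pow_mem hα _
      set y := g' * x * g'⁻¹ * x⁻¹ with hydef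
      have hyQ : y ∈ Q :=
        mul_mem ((H85.pCoreNormalInst p G).conj_mem x hx g') (inv_mem hx)
      -- `y` induces an element of `Aut_E(T)`
      have hyN : y ∈ normalizerIn (S : Subgroup G) T :=
        ⟨hQS hyQ, H85.mem_normalizer_of_conj fun t ht => hSN y (hQS hyQ) t ht⟩
      have hxN : x ∈ normalizerIn (S : Subgroup G) T :=
        ⟨hQS hx, H85.mem_normalizer_of_conj fun t ht => hSN x (hQS hx) t ht⟩
      set cx := H85.conjAut (S : Subgroup G) T ⟨x, hxN⟩ with hcxdef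
      set cy := H85.conjAut (S : Subgroup G) T ⟨y, hyN⟩ with hcydef
      have hb : β ^ p ^ a ∈ E.autGroup T := pow_mem hβ _
      have hcyE : cy ∈ E.autGroup T := by
        have h1 := autGroup_transport hEw le_rfl le_rfl
          ((H85.mem_autGroup hTS).1 (conjAut_mem F hTS ⟨x, hxN⟩)) (inv_mem hb)
        have h2 := mul_mem hb h1
        convert h2 using 1
        refine MulEquiv.ext fun t => Subtype.ext ?_
        obtain ⟨t₁, rfl⟩ := cx.surjective t
        show y * (cx t₁ : G) * y⁻¹ = ((β ^ p ^ a) (cx ((β ^ p ^ a)⁻¹ (cx.symm (cx t₁)))) : G)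
        rw [MulEquiv.symm_apply_apply, ← hg'T]
        obtain ⟨t₂, rfl⟩ := (β ^ p ^ a).surjective t₁
        rw [MulAut.inv_apply_self]
        show y * (x * ((β ^ p ^ a) t₂ : G) * x⁻¹) * y⁻¹ = g' * (x * (t₂ : G) * x⁻¹) * g'⁻¹
        rw [← hg'T t₂, hydef]
        group
      obtain ⟨t, ht⟩ := pElement_inn hS hEw hcyE (exists_orderOf_of_isPGroup
        (H85.autInducedBy_isPGroup hS T) (H85.conjAut_range (S : Subgroup G) T ▸ ⟨⟨y, hyN⟩, rfl⟩))
      have hc : (t : G)⁻¹ * y ∈ centralizerIn (S : Subgroup G) T := by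
        refine H85.mem_centralizerIn.2 ⟨mul_mem (inv_mem (hTS t.2)) (hQS hyQ), fun w hw => ?_⟩
        have h := congrArg (fun f : MulAut T => ((f ⟨w, hw⟩ : T) : G)) ht
        have h' : (t : G) * w * (t : G)⁻¹ = y * w * y⁻¹ := h
        calc w * ((t : G)⁻¹ * y) = (t : G)⁻¹ * ((t : G) * w * (t : G)⁻¹) * y := by group
          _ = (t : G)⁻¹ * (y * w * y⁻¹) * y := by rw [h']
          _ = (t : G)⁻¹ * y * w := by group
      have hyR : y⁻¹ * (g' * y * g'⁻¹) ∈ R := by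
        refine ⟨?_, Q.mul_mem (Q.inv_mem hyQ) ((H85.pCoreNormalInst p G).conj_mem y hyQ g')⟩
        set c := (t : G)⁻¹ * y with hcdef
        have h1 : y⁻¹ * (g' * y * g'⁻¹) =
            c⁻¹ * ((t : G)⁻¹ * (g' * (t : G) * g'⁻¹)) * c * (c⁻¹ * (g' * c * g'⁻¹)) := by
          rw [hcdef]
          group
        rw [h1, hg'T]
        refine mul_mem ?_ (hg'C c hc)
        have h := hSN c⁻¹ (inv_mem hc.1) _ (mul_mem (inv_mem t.2) ((β ^ p ^ a) t).2)
        rwa [inv_inv] at h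
      let π := QuotientGroup.mk' R
      have hπ : ∀ z : G, π z = 1 ↔ z ∈ R := fun z => QuotientGroup.eq_one_iff z
      have hcomm : π g' * π y = π y * π g' := by
        have h := (hπ _).2 hyR
        rw [map_mul, map_mul, map_mul, map_inv, map_inv, inv_mul_eq_one,
          eq_mul_inv_iff_mul_eq] at h
        exact h.symm
      have hk : ∀ k : ℕ, π g' ^ k * π x * (π g' ^ k)⁻¹ = π y ^ k * π x := by
        intro k
        induction k with
        | zero => simp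
        | succ k ih =>
          have hc' : π g' * π y ^ k = π y ^ k * π g' := (Commute.pow_right hcomm k)
          have hx' : π g' * π x * (π g')⁻¹ = π y * π x := by
            rw [hydef, map_mul, map_mul, map_mul, map_inv, map_inv]
            group
          calc π g' ^ (k + 1) * π x * (π g' ^ (k + 1))⁻¹
              = π g' * (π g' ^ k * π x * (π g' ^ k)⁻¹) * (π g')⁻¹ := by rw [pow_succ']; group
            _ = π g' * π y ^ k * π x * (π g')⁻¹ := by rw [ih]; group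
            _ = π y ^ k * (π g' * π x * (π g')⁻¹) := by rw [hc']; group
            _ = π y ^ (k + 1) * π x := by rw [hx', pow_succ, mul_assoc]
      have h1 := hk (orderOf g')
      rw [← map_pow π g', pow_orderOf_eq_one, map_one, one_mul, inv_one, mul_one,
        eq_comm, mul_eq_right] at h1
      obtain ⟨l, hl⟩ := H85.pCore_isPGroup' p G ⟨y, hyQ⟩
      have h2 : π y ^ p ^ l = 1 := by
        rw [← map_pow, show y ^ p ^ l = 1 from congrArg Subtype.val hl, map_one]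
      have hπy : π y = 1 := orderOf_eq_one_iff.1 (Nat.eq_one_of_dvd_coprimes
        (Nat.Coprime.pow_left _ ((Nat.Prime.coprime_iff_not_dvd Fact.out).2 hg'ord))
        (orderOf_dvd_of_pow_eq_one h2) (orderOf_dvd_of_pow_eq_one h1))
      have h5 : x⁻¹ * (g' * x * g'⁻¹) = x⁻¹ * y * x⁻¹⁻¹ := by rw [hydef]; group
      rw [h5]
      exact hRn.conj_mem _ ((hπ y).1 hπy) _
    have hpa : ρ g ^ p ^ a ∈ L := ⟨g', hg'H, map_pow ρ g _⟩
    have hcop : Nat.gcd (p ^ a) m = 1 :=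
      Nat.Coprime.pow_left _ ((Nat.Prime.coprime_iff_not_dvd Fact.out).2 hm)
    have hbez := Nat.gcd_eq_gcd_ab (p ^ a) m
    rw [hcop] at hbez
    rw [← hgρ]
    have : ρ g = (ρ g ^ p ^ a) ^ (Nat.gcdA (p ^ a) m) * (ρ g ^ m) ^ (Nat.gcdB (p ^ a) m) := by
      rw [← zpow_natCast (ρ g) (p ^ a), ← zpow_natCast (ρ g) m, ← zpow_mul, ← zpow_mul, ← zpow_add,
        ← hbez]
      simp
    rw [this]
    exact mul_mem (zpow_mem hpa _) (zpow_mem hpm _)
  have hL : ∀ a ∈ A, a ∈ L := by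
    intro α hα
    rcases eq_or_ne R T with heq | hne
    · refine hLt (MulAut.congr (MulEquiv.subgroupCongr heq) α) ((H85.mem_autGroup le_rfl).2 ?_)
        α hα (fun x => ?_)
      · have h := H85.restrict ((H85.mem_autGroup hRT).1 hα) heq.ge
        exact H85.hom_congr h fun x => rfl
      · rfl
    have hRN : ∀ t ∈ T, t ∈ Subgroup.normalizer (R : Set G) := fun t _ => by
      rw [Subgroup.normalizer_eq_top]; trivial
    have hTN : T ≤ normalizerIn T R := le_inf le_rfl fun t ht => hRN t ht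
    obtain ⟨k, hk, β, hβ, hkβ, ψ, hψ, hψe⟩ := frattini_step hTp hEw.1 hREn (K := opAut p A)
      (opAut_le _) (fun a ha k hk => opAut_conj ha hk) hα (normalizerIn T R) le_rfl
      (fun g hg => mem_opAut (conjAut_mem E hRT _) (exists_orderOf_of_isPGroup
        (H85.autInducedBy_isPGroup hTp R) (H85.conjAut_range T R ▸ ⟨⟨g, hg⟩, rfl⟩)))
    have hT' : T ≤ R ⊔ normalizerIn T R := hTN.trans le_sup_right
    have hψT := H85.restrict hψ hT'
    have hr : (ψ.comp (Subgroup.inclusion hT')).range = T :=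
      range_eq_self_of_le E hψT (H85.range_le hψT)
    have hβL : β ∈ L := hLt _ (autOfHom_mem E hψT hr) β hβ fun x =>
      (congrArg ψ (Subtype.ext rfl)).trans (hψe x)
    rw [hkβ]
    exact mul_mem (opAut_le_iff.2 hLp hk) hβL
  -- `K` and the Sylow subgroup
  set K := quotCentralizer Q R ⊓ Subgroup.centralizer (R : Set G) with hKdef
  have hKQ : K ≤ Q := stab_le_core hG R
  have hρK : ∀ g, ρ g = 1 ↔ g ∈ Subgroup.centralizer (R : Set G) := by
    intro g
    rw [Subgroup.mem_centralizer_iff]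
    constructor
    · intro h x hx
      have h1 : g * x * g⁻¹ = x := by
        have := congrArg (fun f : MulAut R => ((f ⟨x, hx⟩ : R) : G)) h
        exact this
      exact (mul_inv_eq_iff_eq_mul.1 h1).symm
    · intro h
      refine MulEquiv.ext fun x => Subtype.ext ?_
      show g * (x : G) * g⁻¹ = x
      rw [← h x x.2, mul_inv_cancel_right]
  have hKH : K ≤ H₀ := fun k hk => ⟨hk.1, by
    show ρ k ∈ A
    rw [(hρK k).2 hk.2]
    exact one_mem _⟩
  have hKT : ∀ k ∈ K, k ∈ T → k ∈ R := fun k hk hkT => ⟨hkT, hKQ hk⟩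
  set P₀ := (S : Subgroup G) ⊓ H₀ with hP₀def
  have hTP₀ : T ≤ P₀ := le_inf hTS hTH₀
  have hP₀split : ∀ s ∈ P₀, ∃ t ∈ T, ∃ k ∈ K, s = t * k := by
    intro s hs
    have hAS : autInducedBy T R ≤ P₀.map ρ := by
      intro a ha
      obtain ⟨t, ht, hta⟩ := H85.mem_autInducedBy.1 ha
      exact ⟨t, hTP₀ ht, MulEquiv.ext fun x => Subtype.ext (hta x).symm⟩
    have hRa' := hRa
    rw [H85.isFullyAutomized_iff hTp] at hRa'
    have hmax := hRa'.2 (P₀.map ρ) (by rintro _ ⟨u, hu, rfl⟩; exact hu.2.2)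
      ((hS.to_le inf_le_left).map ρ) hAS
    have h : ρ s ∈ autInducedBy T R := hmax ▸ ⟨s, hs, rfl⟩
    obtain ⟨t, ht, hts⟩ := H85.mem_autInducedBy.1 h
    refine ⟨t, ht, t⁻¹ * s, ⟨(mul_mem (inv_mem (hTH₀ ht)) hs.2 : t⁻¹ * s ∈ H₀).1, ?_⟩, by group⟩
    refine (hρK _).1 ?_
    rw [map_mul, map_inv, inv_mul_eq_one]
    exact MulEquiv.ext fun x => Subtype.ext (hts x).symm
  have hcomm : ∀ a ∈ P₀, ∀ b ∈ P₀, a * b * a⁻¹ * b⁻¹ ∈ T := by
    have hTn : (T.subgroupOf P₀).Normal := ⟨fun x hx g => hSN g g.2.1 x hx⟩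
    intro a ha b hb
    obtain ⟨t₁, ht₁, k₁, hk₁, rfl⟩ := hP₀split a ha
    obtain ⟨t₂, ht₂, k₂, hk₂, rfl⟩ := hP₀split b hb
    have hk : k₁ * k₂ * k₁⁻¹ * k₂⁻¹ ∈ T := by
      have h1 := mem_quotCentralizer.1 hk₁.1 k₂ (hKQ hk₂)
      have h2 := hRn.conj_mem _ h1 k₂
      rw [show k₁ * k₂ * k₁⁻¹ * k₂⁻¹ = k₂ * (k₂⁻¹ * (k₁ * k₂ * k₁⁻¹)) * k₂⁻¹ by group]
      exact hRT h2
    have hkP : ∀ k ∈ K, k ∈ P₀ := fun k hk => ⟨hQS (hKQ hk), hKH hk⟩
    let π := QuotientGroup.mk' (T.subgroupOf P₀)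
    have hπ : ∀ z : P₀, π z = 1 ↔ (z : G) ∈ T := fun z => QuotientGroup.eq_one_iff z
    refine (hπ ⟨_, mul_mem (mul_mem (mul_mem ha hb) (inv_mem ha)) (inv_mem hb)⟩).1 ?_
    have e : (⟨_, mul_mem (mul_mem (mul_mem ha hb) (inv_mem ha)) (inv_mem hb)⟩ : P₀) =
        (⟨t₁, hTP₀ ht₁⟩ * ⟨k₁, hkP k₁ hk₁⟩) * (⟨t₂, hTP₀ ht₂⟩ * ⟨k₂, hkP k₂ hk₂⟩) *
        (⟨t₁, hTP₀ ht₁⟩ * ⟨k₁, hkP k₁ hk₁⟩)⁻¹ * (⟨t₂, hTP₀ ht₂⟩ * ⟨k₂, hkP k₂ hk₂⟩)⁻¹ := rfl
    rw [e]
    simp only [map_mul, map_inv, (hπ ⟨t₁, hTP₀ ht₁⟩).2 ht₁, (hπ ⟨t₂, hTP₀ ht₂⟩).2 ht₂, one_mul]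
    rw [← map_inv π, ← map_inv π, ← map_mul π, ← map_mul π, ← map_mul π]
    exact (hπ _).2 hk
  -- the transfer
  set P₁ : Subgroup H₀ := (S : Subgroup G).subgroupOf H₀ with hP₁def
  set T₁ : Subgroup P₁ := (T.subgroupOf H₀).subgroupOf P₁ with hT₁def
  have hT₁n : T₁.Normal := ⟨fun x hx g => hSN _ g.2 _ hx⟩
  have hc₁ : ∀ a b : P₁ ⧸ T₁, a * b = b * a := by
    intro a b
    obtain ⟨a, rfl⟩ := QuotientGroup.mk'_surjective T₁ a
    obtain ⟨b, rfl⟩ := QuotientGroup.mk'_surjective T₁ b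
    rw [← map_mul, ← map_mul, QuotientGroup.mk'_apply, QuotientGroup.mk'_apply, eq_comm,
      QuotientGroup.eq]
    show (((b * a)⁻¹ * (a * b) : P₁) : G) ∈ T
    have h := hcomm ((a : H₀) : G)⁻¹ (inv_mem ⟨a.2, (a : H₀).2⟩) ((b : H₀) : G)⁻¹
      (inv_mem ⟨b.2, (b : H₀).2⟩)
    simpa [mul_assoc] using h
  let iA : CommGroup (P₁ ⧸ T₁) := { mul_comm := hc₁ }
  have hP1 : IsPGroup p P₁ := hS.comap_of_injective H₀.subtype H₀.subtype_injective
  have hA1 : IsPGroup p (P₁ ⧸ T₁) := hP1.to_quotient T₁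
  let φ : P₁ →* P₁ ⧸ T₁ := QuotientGroup.mk' T₁
  have hφ : ∀ z : P₁, φ z = 1 ↔ ((z : H₀) : G) ∈ T := fun z => QuotientGroup.eq_one_iff z
  obtain ⟨f, hfdef⟩ : ∃ f : H₀ →* P₁ ⧸ T₁, f = MonoidHom.transfer φ := ⟨_, rfl⟩
  obtain ⟨R₀, hR₀⟩ := exists_sylow_inf_normal S H₀
  have hidx : ¬ p ∣ P₁.index := by
    have h := R₀.not_dvd_index
    rwa [hR₀] at h
  have hpelem : ∀ (u : H₀) (g : G), (∃ k : ℕ, (u : G) ^ p ^ k = 1) → g * (u : G) * g⁻¹ ∈ T →
      f u = 1 := by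
    intro u g _ hu
    have : Fintype (Quotient (MulAction.orbitRel (Subgroup.zpowers u) (H₀ ⧸ P₁))) :=
      Fintype.ofFinite _
    rw [hfdef]
    rw [MonoidHom.transfer_eq_prod_quotient_orbitRel_zpowers_quot]
    refine Finset.prod_eq_one fun q _ => (hφ _).2 ?_
    set j := Function.minimalPeriod (u • ·) q.out
    set g₀ : H₀ := q.out.out
    have hS' : (((g₀⁻¹ * u ^ j * g₀ : H₀)) : G) ∈ (S : Subgroup G) :=
      QuotientGroup.out_conj_pow_minimalPeriod_mem P₁ u q.out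
    have h1 : (((g₀⁻¹ * u ^ j * g₀ : H₀)) : G) =
        ((g₀ : G)⁻¹ * g⁻¹) * (g * (u : G) * g⁻¹) ^ j * ((g₀ : G)⁻¹ * g⁻¹)⁻¹ := by
      rw [conj_pow]
      simp only [Subgroup.coe_mul, Subgroup.coe_inv, Subgroup.coe_pow]
      group
    show (((g₀⁻¹ * u ^ j * g₀ : H₀)) : G) ∈ T
    rw [h1] at hS' ⊢
    exact sc_mem S hE (pow_mem hu j) hS'
  have hfK : ∀ (k : H₀) (hk : (k : G) ∈ K), f k = (φ ⟨k, hQS (hKQ hk)⟩) ^ P₁.index := by
    intro k hk
    have : Fintype (Quotient (MulAction.orbitRel (Subgroup.zpowers k) (H₀ ⧸ P₁))) :=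
      Fintype.ofFinite _
    rw [hfdef]
    rw [MonoidHom.transfer_eq_prod_quotient_orbitRel_zpowers_quot,
      Subgroup.index_eq_sum_minimalPeriod P₁ k, ← Finset.prod_pow_eq_pow_sum]
    refine Finset.prod_congr rfl fun q _ => ?_
    set j := Function.minimalPeriod (k • ·) q.out
    set g₀ : H₀ := q.out.out
    rw [← map_pow]
    refine QuotientGroup.eq.2 ?_
    show ((((g₀⁻¹ * k ^ j * g₀ : H₀)⁻¹ * k ^ j : H₀)) : G) ∈ T
    have hkj : ((k : G) ^ j) ∈ Q := pow_mem (hKQ hk) j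
    have hw := mem_quotCentralizer.1 (inv_mem g₀.2.1 : (g₀ : G)⁻¹ ∈ quotCentralizer Q R) _ hkj
    refine hRT ?_
    have h1 : ((((g₀⁻¹ * k ^ j * g₀ : H₀)⁻¹ * k ^ j : H₀)) : G) =
        (((k : G) ^ j)⁻¹ * ((g₀ : G)⁻¹ * (k : G) ^ j * (g₀ : G)⁻¹⁻¹))⁻¹ := by
      simp only [Subgroup.coe_mul, Subgroup.coe_inv, Subgroup.coe_pow]
      group
    rw [h1]
    exact inv_mem hw
  set N := f.ker.map H₀.subtype with hNdef
  have hmemN : ∀ g : G, g ∈ N ↔ ∃ hg : g ∈ H₀, f ⟨g, hg⟩ = 1 :=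
    fun g => ⟨fun ⟨x, hx, hxg⟩ => hxg ▸ ⟨x.2, hx⟩, fun ⟨hg, h⟩ => ⟨⟨g, hg⟩, h, rfl⟩⟩
  have hpow1 : ∀ g ∈ (S : Subgroup G), ∃ k : ℕ, g ^ p ^ k = 1 := fun g hg => by
    obtain ⟨k, hk⟩ := hS ⟨g, hg⟩
    exact ⟨k, congrArg Subtype.val hk⟩
  have hTN : T ≤ N := fun t ht => (hmemN t).2 ⟨hTH₀ ht,
    hpelem _ 1 (hpow1 t (hTS ht)) (by simpa using ht)⟩
  have hKN : ∀ k ∈ K, k ∈ N → k ∈ T := by
    intro k hk hkN
    obtain ⟨hkH, hk1⟩ := (hmemN k).1 hkN
    rw [hfK ⟨k, hkH⟩ hk] at hk1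
    have h1 : orderOf (φ ⟨⟨k, hkH⟩, hQS (hKQ hk)⟩) ∣ P₁.index := orderOf_dvd_of_pow_eq_one hk1
    obtain ⟨j, hj⟩ := hA1 (φ ⟨⟨k, hkH⟩, hQS (hKQ hk)⟩)
    have h2 : orderOf (φ ⟨⟨k, hkH⟩, hQS (hKQ hk)⟩) = 1 := Nat.eq_one_of_dvd_coprimes
      (Nat.Coprime.pow_left _ ((Nat.Prime.coprime_iff_not_dvd Fact.out).2 hidx))
      (orderOf_dvd_of_pow_eq_one hj) h1
    exact (hφ _).1 (orderOf_eq_one_iff.1 h2)
  have hNT : (S : Subgroup G) ⊓ N = T := by
    refine le_antisymm (fun s hs => ?_) (le_inf hTS hTN)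
    obtain ⟨t, ht, k, hk, rfl⟩ := hP₀split s ⟨hs.1, ((hmemN s).1 hs.2).1⟩
    have : k ∈ N := by
      have := mul_mem (inv_mem (hTN ht)) hs.2
      rwa [inv_mul_cancel_left] at this
    exact mul_mem ht (hKN k hk this)
  -- elements of a subgroup with Sylow subgroup `T` lie in `N`
  have hkill : ∀ (H' : Subgroup G), H' ≤ H₀ → ∀ hTH' : T ≤ H',
      (∃ R' : Sylow p H', (R' : Subgroup H') = T.subgroupOf H') → ∀ c : G, ∀ x ∈ H', ∀ hx : c * x * c⁻¹ ∈ H₀,
        f ⟨c * x * c⁻¹, hx⟩ = 1 := by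
    intro H' hH' hTH' hR' c x hxH hx
    obtain ⟨R', hR'⟩ := hR'
    obtain ⟨a, m, hm, ham⟩ := Nat.exists_eq_pow_mul_and_not_dvd (orderOf_pos x).ne' p
      (Nat.Prime.ne_one Fact.out)
    set z : H₀ := ⟨c * x * c⁻¹, hx⟩ with hzdef
    have hm1 : f (z ^ m) = 1 := by
      have hu : (x ^ m) ^ p ^ a = 1 := by rw [← pow_mul, mul_comm, ← ham, pow_orderOf_eq_one]
      let u : H' := ⟨x ^ m, pow_mem hxH m⟩
      have hup : IsPGroup p (Subgroup.zpowers u) := by
        refine isPGroup_zpowers ?_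
        obtain ⟨j, -, hj⟩ := (Nat.dvd_prime_pow Fact.out).1
          (orderOf_dvd_of_pow_eq_one (Subtype.ext hu : u ^ p ^ a = 1))
        exact ⟨j, hj⟩
      obtain ⟨U, hU⟩ := hup.exists_le_sylow
      obtain ⟨h, hh⟩ := MulAction.exists_smul_eq H' U R'
      have h1 : h * u * h⁻¹ ∈ (R' : Subgroup H') := by
        rw [← hh, Sylow.coe_subgroup_smul]
        exact Subgroup.smul_mem_pointwise_smul _ _ _ (hU (Subgroup.mem_zpowers u))
      rw [hR'] at h1
      have hcoe : (z : G) ^ m = c * x ^ m * c⁻¹ := conj_pow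
      refine hpelem (z ^ m) ((h : G) * c⁻¹) ⟨a, ?_⟩ ?_
      · rw [Subgroup.coe_pow, hcoe, conj_pow, hu]
        group
      · rw [Subgroup.coe_pow, hcoe]
        rw [show (h : G) * c⁻¹ * (c * x ^ m * c⁻¹) * ((h : G) * c⁻¹)⁻¹ =
          (h : G) * x ^ m * (h : G)⁻¹ by group]
        exact h1
    rw [map_pow] at hm1
    obtain ⟨j, hj⟩ := hA1 (f z)
    exact orderOf_eq_one_iff.1 (Nat.eq_one_of_dvd_coprimes
      (Nat.Coprime.pow_left _ ((Nat.Prime.coprime_iff_not_dvd Fact.out).2 hm))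
      (orderOf_dvd_of_pow_eq_one hj) (orderOf_dvd_of_pow_eq_one hm1))
  have hNH : N ≤ H₀ := Subgroup.map_subtype_le _
  have hNsyl : ∃ R' : Sylow p N, (R' : Subgroup N) = T.subgroupOf N := by
    refine ⟨{ toSubgroup := T.subgroupOf N
              isPGroup' := hTp.comap_subtype
              is_maximal' := fun {U} hU hle => ?_ }, rfl⟩
    refine le_antisymm (fun x hx => ?_) hle
    -- conjugate into `S` inside `H₀`
    have hUH : U.map N.subtype ≤ H₀ := (Subgroup.map_subtype_le U).trans hNH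
    obtain ⟨U'', hU''⟩ :=
      ((hU.map N.subtype).of_equiv (Subgroup.subgroupOfEquivOfLe hUH).symm).exists_le_sylow
    obtain ⟨h, hh⟩ := MulAction.exists_smul_eq H₀ U'' R₀
    have hcard : (U.map N.subtype).map (MulAut.conj (h : G)).toMonoidHom ≤ T := by
      rintro _ ⟨u, hu, rfl⟩
      have h1 : h * ⟨u, hUH hu⟩ * h⁻¹ ∈ (R₀ : Subgroup H₀) := by
        rw [← hh, Sylow.coe_subgroup_smul]
        exact Subgroup.smul_mem_pointwise_smul _ _ _ (hU'' hu)
      rw [hR₀] at h1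
      refine hNT.le ⟨h1, ?_⟩
      obtain ⟨hH, hf⟩ := (hmemN u).1 (Subgroup.map_subtype_le U hu)
      refine (hmemN _).2
        ⟨show (h : G) * u * (h : G)⁻¹ ∈ H₀ from (h * ⟨u, hH⟩ * h⁻¹ : H₀).2, ?_⟩
      show f (h * ⟨u, hH⟩ * h⁻¹) = 1
      rw [map_mul, map_mul, hf, mul_one, map_inv, mul_inv_cancel]
    have hc1 : Nat.card ↥((U.map N.subtype).map (MulAut.conj (h : G)).toMonoidHom) = Nat.card U := by
      rw [Nat.card_congr ((U.map N.subtype).equivMapOfInjective _ (MulEquiv.injective _)).symm.toEquiv,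
        Nat.card_congr (U.equivMapOfInjective _ N.subtype_injective).symm.toEquiv]
    have hc2 : Nat.card U ≤ Nat.card (T.subgroupOf N) := by
      rw [Nat.card_congr (Subgroup.subgroupOfEquivOfLe hTN).toEquiv, ← hc1]
      exact Subgroup.card_le_of_le hcard
    exact (Subgroup.eq_of_le_of_card_ge hle hc2).ge hx
  have hNn : N.Normal := by
    refine ⟨fun x hx c => ?_⟩
    have hx' : c * x * c⁻¹ ∈ H₀ := hH₀n.conj_mem x (hNH hx) c
    exact (hmemN _).2 ⟨hx', hkill N hNH hTN hNsyl c x hx hx'⟩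
  -- the fusion systems
  have hsurjN : ∀ a ∈ A, ∃ n ∈ N, ρ n = a := by
    intro a ha
    obtain ⟨g, hg, rfl⟩ := hL a ha
    -- `f` is onto on `K`
    obtain ⟨z, hz⟩ := QuotientGroup.mk'_surjective T₁ (f ⟨g, hg⟩)
    obtain ⟨t, ht, k, hk, htk⟩ := hP₀split ((z : H₀) : G) ⟨z.2, (z : H₀).2⟩
    have hφz : φ z = φ ⟨⟨k, hKH hk⟩, hQS (hKQ hk)⟩ := by
      refine QuotientGroup.eq.2 ?_
      show (((z : H₀) : G))⁻¹ * k ∈ T
      rw [htk]
      have h := hSN k⁻¹ (inv_mem (hQS (hKQ hk))) _ (inv_mem ht)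
      rw [inv_inv] at h
      rw [show (t * k)⁻¹ * k = k⁻¹ * t⁻¹ * k by group]
      exact h
    obtain ⟨j, hj⟩ := hA1 (φ z)
    have hcop' : Nat.Coprime P₁.index (orderOf (φ z)) := Nat.Coprime.coprime_dvd_right
      (orderOf_dvd_of_pow_eq_one hj)
      (Nat.Coprime.pow_right _ ((Nat.Prime.coprime_iff_not_dvd Fact.out).2 hidx).symm)
    obtain ⟨s, hs⟩ := exists_pow_eq_self_of_coprime hcop'
    have hks : k ^ s ∈ K := pow_mem hk s
    refine ⟨g * (k ^ s)⁻¹, (hmemN _).2 ⟨mul_mem hg (inv_mem (hKH hks)), ?_⟩, ?_⟩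
    · have e : (⟨g * (k ^ s)⁻¹, mul_mem hg (inv_mem (hKH hks))⟩ : H₀) =
          ⟨g, hg⟩ * (⟨k, hKH hk⟩ ^ s)⁻¹ := Subtype.ext (by simp)
      rw [e, map_mul, map_inv, map_pow, hfK ⟨k, hKH hk⟩ hk, ← hφz, hs, mul_inv_eq_one]
      exact hz.symm
    · rw [map_mul, map_inv, (hρK _).2 hks.2, inv_one, mul_one]
  have hDn : (fusionSystemOfSubgroup N T hTN).IsNormalIn F p := by
    have : N.Normal := hNn
    exact isNormalIn_of_inf_eq S N hTN hNT
  have hautT : E.autGroup T = (fusionSystemOfSubgroup N T hTN).autGroup T := by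
    have hn : ∀ {D : FusionSystem T}, D.IsWeaklyNormalIn F p →
        ((D.autGroup T).subgroupOf (F.autGroup T)).Normal := fun hD =>
      ⟨fun x hx c => autGroup_transport hD le_rfl le_rfl ((H85.mem_autGroup hTS).1 c.2) hx⟩
    have hsub : ∀ {D : FusionSystem T}, D.IsWeaklyNormalIn F p → D.autGroup T ≤ F.autGroup T :=
      fun hD _ hx => (H85.mem_autGroup hTS).2 (hD.2.2.1 _ ((H85.mem_autGroup le_rfl).1 hx))
    -- the key step
    have key : ∀ {D D' : FusionSystem T}, D.IsWeaklyNormalIn F p → D'.IsWeaklyNormalIn F p →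
        ∀ {x y : MulAut T}, x ∈ D.autGroup T → y ∈ D'.autGroup T →
        (∀ w : T, (w : G) ∈ R → x w = y w) → y ∈ D.autGroup T := by
      intro D D' hD hD' x y hx hy hxy
      have hfix : ∀ w : T, (w : G) ∈ R → (x⁻¹ * y) w = w := fun w hw => by
        rw [MulAut.mul_apply, ← hxy w hw, MulAut.inv_apply_self]
      have hquot : ∀ w : T, (w : G)⁻¹ * ((x⁻¹ * y) w : T) ∈ R := by
        intro w
        refine hRc _ (mul_mem (inv_mem w.2) ((x⁻¹ * y) w).2) fun r hr => ?_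
        let r' : T := ⟨r, hRT hr⟩
        have hwr : ((w * r' * w⁻¹ : T) : G) ∈ R := hRn.conj_mem r hr w
        have h1 := hfix _ hwr
        rw [map_mul, map_mul, map_inv, hfix r' hr] at h1
        have h2 : ((x⁻¹ * y) w : G) * r * ((x⁻¹ * y) w : G)⁻¹ = (w : G) * r * (w : G)⁻¹ :=
          congrArg Subtype.val h1
        calc r * ((w : G)⁻¹ * ((x⁻¹ * y) w : T))
            = (w : G)⁻¹ * ((w : G) * r * (w : G)⁻¹) * ((x⁻¹ * y) w : T) := by group
          _ = (w : G)⁻¹ * ((((x⁻¹ * y) w : T) : G) * r * (((x⁻¹ * y) w : T) : G)⁻¹) *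
              ((x⁻¹ * y) w : T) := by rw [h2]
          _ = (w : G)⁻¹ * ((x⁻¹ * y) w : T) * r := by group
      obtain ⟨l, hl⟩ := H85.aut_isPElement hTp (x⁻¹ * y) hfix hquot
      obtain ⟨j, -, hj⟩ := (Nat.dvd_prime_pow Fact.out).1 (orderOf_dvd_of_pow_eq_one hl)
      have hyF := hsub hD' hy
      have hxF := hsub hD hx
      have h := mem_of_pElement_defect (p := p) (A₂ := (D'.autGroup T).subgroupOf (F.autGroup T))
        (hn hD) ?_ (x := (⟨x, hxF⟩ : F.autGroup T)) (y := ⟨y, hyF⟩) hx hy ?_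
      · exact h
      · rintro c hc ⟨k, hk⟩
        exact H85.inn_le_autGroup D le_rfl
          (pElement_inn hS hD' hc ⟨k, (orderOf_injective (F.autGroup T).subtype
            Subtype.coe_injective c).trans hk⟩)
      · exact ⟨j, by rw [← hj, ← Subgroup.orderOf_coe]; rfl⟩
    refine le_antisymm ?_ ?_
    · intro β hβ
      have hRimg : ∀ w : T, (w : G) ∈ R → (β w : G) ∈ R := fun w hw =>
        hREsc.2 R le_rfl _ (H85.restrict ((H85.mem_autGroup le_rfl).1 hβ) hRT) ⟨w, hw⟩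
      let βR : R →* G := (T.subtype.comp β.toMonoidHom).comp (Subgroup.inclusion hRT)
      have hβR : βR ∈ E.Hom R := H85.restrict ((H85.mem_autGroup le_rfl).1 hβ) hRT
      have hr : βR.range = R := range_eq_self_of_le E hβR
        (by rintro _ ⟨w, rfl⟩; exact hRimg (Subgroup.inclusion hRT w) w.2)
      obtain ⟨n, hn', hne⟩ := hsurjN _ (autOfHom_mem E hβR hr)
      have hnR : ∀ w : T, (w : G) ∈ R → n * (w : G) * n⁻¹ = β w := fun w hw =>
        (congrArg (fun f : MulAut R => ((f ⟨w, hw⟩ : R) : G)) hne).trans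
          (congrArg (fun z : T => (β z : G)) (Subtype.ext rfl))
      have hnT : ∀ t ∈ T, n * t * n⁻¹ ∈ T := by
        intro t ht
        set u : G := (β ⟨t, ht⟩ : G) with hudef
        have huN : u⁻¹ * (n * t * n⁻¹) ∈ N :=
          mul_mem (inv_mem (hTN (SetLike.coe_mem _))) (mul_mem (mul_mem hn' (hTN ht)) (inv_mem hn'))
        have hK' : u⁻¹ * (n * t * n⁻¹) ∈ K := by
          refine ⟨(hNH huN).1, Subgroup.mem_centralizer_iff.2 fun r hr' => ?_⟩
          obtain ⟨w, hw⟩ := (autOfHom βR (E.injective_of_mem hβR) hr).surjective ⟨r, hr'⟩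
          have hwr : (β ⟨(w : G), hRT w.2⟩ : G) = r := congrArg Subtype.val hw
          have h1 := hnR ⟨(w : G), hRT w.2⟩ w.2
          rw [hwr] at h1
          have hw' : (t * (w : G) * t⁻¹) ∈ R := hRn.conj_mem _ w.2 t
          have h2 : n * (t * (w : G) * t⁻¹) * n⁻¹ = u * r * u⁻¹ := by
            rw [hnR ⟨_, hRT hw'⟩ hw', ← hwr, hudef, ← Subgroup.coe_inv, ← Subgroup.coe_mul,
              ← Subgroup.coe_mul, ← map_inv, ← map_mul, ← map_mul]
            rfl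
          have h3 : (n * t * n⁻¹) * r * (n * t * n⁻¹)⁻¹ = u * r * u⁻¹ := by
            rw [← h2, ← h1]
            group
          calc r * (u⁻¹ * (n * t * n⁻¹)) = u⁻¹ * (u * r * u⁻¹) * (n * t * n⁻¹) := by group
            _ = u⁻¹ * ((n * t * n⁻¹) * r * (n * t * n⁻¹)⁻¹) * (n * t * n⁻¹) := by rw [h3]
            _ = u⁻¹ * (n * t * n⁻¹) * r := by group
        have h := mul_mem (SetLike.coe_mem (β ⟨t, ht⟩)) (hKN _ hK' huN)
        rwa [mul_inv_cancel_left] at h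
      let c : MulAut T := T.normalizerMonoidHom ⟨n, H85.mem_normalizer_of_conj hnT⟩
      have hc : c ∈ (fusionSystemOfSubgroup N T hTN).autGroup T :=
        (H85.mem_autGroup le_rfl).2 ⟨le_rfl, fun w => (c w).2, n, hn', fun w => rfl⟩
      exact key hDn.1 hEw hc hβ fun w hw => Subtype.ext (hnR w hw)
    · intro c hc
      obtain ⟨-, -, n, hn', hne⟩ := (H85.mem_autGroup le_rfl).1 hc
      have hα : ρ n ∈ A := (hNH hn').2
      obtain ⟨ψ, hψ, hext⟩ := H85.receptive_extend hRr ((H85.mem_autGroup hRT).1 hα)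
      have hX : T ≤ extender T R (R.subtype.comp (ρ n).toMonoidHom) := by
        intro t ht
        refine H85.mem_extender.2 ⟨ht, by rw [Subgroup.normalizer_eq_top]; trivial,
          (c ⟨t, ht⟩ : G), SetLike.coe_mem _, fun x hx => ?_⟩
        show n * (t * (x : G) * t⁻¹) * n⁻¹ = (c ⟨t, ht⟩ : G) * (n * (x : G) * n⁻¹) *
          (c ⟨t, ht⟩ : G)⁻¹
        rw [show (c ⟨t, ht⟩ : G) = n * t * n⁻¹ from hne ⟨t, ht⟩]
        group
      have hψT := H85.restrict hψ hX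
      have hr : (ψ.comp (Subgroup.inclusion hX)).range = T :=
        range_eq_self_of_le E hψT (H85.range_le hψT)
      refine key hEw hDn.1 (autOfHom_mem E hψT hr) hc fun w hw => Subtype.ext ?_
      refine (hext w hw (hX w.2)).trans ?_
      exact (hne w).symm
  refine ⟨N, hTN, hNn, hNT, hom_eq_of_autGroup_eq hS hEw hDn.1 hautT, ?_⟩
  rintro H' ⟨hTH', hH'n, ⟨R', hR'⟩, hH'hom⟩
  have hST : ∀ x ∈ H', x ∈ (S : Subgroup G) → x ∈ T := by
    intro x hxH hxS
    have hle : T.subgroupOf H' ≤ (S : Subgroup G).subgroupOf H' := fun y hy => hTS hy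
    have hmax := R'.3 (hS.comap_of_injective H'.subtype H'.subtype_injective) (hR' ▸ hle)
    exact (hR' ▸ hmax.le) (show (⟨x, hxH⟩ : H') ∈ (S : Subgroup G).subgroupOf H' from hxS)
  have hH'H : H' ≤ H₀ := by
    intro x hx
    refine ⟨mem_quotCentralizer.2 fun q hq => ?_, ?_⟩
    · have hQn := (H85.pCoreNormalInst p G).conj_mem q hq x
      have h1 : q⁻¹ * (x * q * x⁻¹) ∈ H' := by
        rw [show q⁻¹ * (x * q * x⁻¹) = q⁻¹ * x * q⁻¹⁻¹ * x⁻¹ by group]
        exact mul_mem (hH'n.conj_mem x hx _) (inv_mem hx)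
      exact ⟨hST _ h1 (hQS (Q.mul_mem (Q.inv_mem hq) hQn)), Q.mul_mem (Q.inv_mem hq) hQn⟩
    · refine (H85.mem_autGroup hRT).2 ((hH'hom R).ge ?_)
      exact ⟨hRT, fun w => hRT (SetLike.coe_mem _), x, hx, fun w => rfl⟩
  refine le_antisymm (fun x hx => (hmemN x).2 ⟨hH'H hx, ?_⟩) ?_
  · have h := hkill H' hH'H hTH' ⟨R', hR'⟩ 1 x hx (by simpa using hH'H hx)
    have e : (⟨1 * x * 1⁻¹, by simpa using hH'H hx⟩ : H₀) = ⟨x, hH'H hx⟩ :=
      Subtype.ext (by simp)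
    rwa [e] at h
  · intro n hn
    have hα : ρ n ∈ A := (hNH hn).2
    have h := (hH'hom R).le ((H85.mem_autGroup hRT).1 hα)
    obtain ⟨-, -, y, hy, hye⟩ := h
    have hyn : y⁻¹ * n ∈ K := by
      refine ⟨(mul_mem (inv_mem (hH'H hy)) (hNH hn) : y⁻¹ * n ∈ H₀).1, (hρK _).1 ?_⟩
      rw [map_mul, map_inv, inv_mul_eq_one]
      exact MulEquiv.ext fun w => Subtype.ext (hye w).symm
    have hyN : y ∈ N := (hmemN y).2 ⟨hH'H hy, by
      have h := hkill H' hH'H hTH' ⟨R', hR'⟩ 1 y hy (by simpa using hH'H hy)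
      have e : (⟨1 * y * 1⁻¹, by simpa using hH'H hy⟩ : H₀) = ⟨y, hH'H hy⟩ :=
        Subtype.ext (by simp)
      rwa [e] at h⟩
    have h2 := mul_mem hy (hTH' (hKN _ hyn (mul_mem (inv_mem hyN) hn)))
    rwa [mul_inv_cancel_left] at h2

end ModelSub

end H86
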