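import Cfsg.Agent.H86.Basic
import Cfsg.Agent.H85.Normal

/-! A strongly closed subgroup is normal when it is abelian over a normal subgroup with `p`-group
automisation. -/

set_option autoImplicit false

open Cfsg Cfsg.FusionSystem

namespace H86

variable {Ω : Type*} [Group Ω] {S : Subgroup Ω}

theorem isNormal_of_abelian_over [Finite S] {p : ℕ} [Fact p.Prime] (hS : IsPGroup p S)
    {F : FusionSystem S} (hF : F.IsSaturated p) {Q Q₁ : Subgroup Ω} (hQ : F.StronglyClosed Q)
    (hQ₁ : F.IsNormal Q₁) (hab : ⁅Q, Q⁆ ≤ Q₁)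
    (hAut : IsPGroup p (F.autGroup Q₁)) : F.IsNormal Q := by
  classical
  have hQ₁S : Q₁ ≤ S := hQ₁.1
  have : Finite Q₁ := H85.finite_of_le hQ₁S
  let A := F.autGroup Q₁
  let W := Q₁ ⋊[A.subtype] A
  have : Finite W := Finite.of_equiv _ SemidirectProduct.equivProd.symm
  have hW : IsPGroup p W := by
    obtain ⟨a, ha⟩ := IsPGroup.iff_card.1 (hS.to_le hQ₁S)
    obtain ⟨b, hb⟩ := IsPGroup.iff_card.1 hAut
    exact IsPGroup.of_card (n := a + b) (by rw [SemidirectProduct.card, ha, hb, pow_add])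
  have : Group.IsNilpotent W := hW.isNilpotent
  obtain ⟨n, hn⟩ := Group.IsNilpotent.nilpotent W
  let U : ℕ → Subgroup Q₁ := fun i =>
    (Subgroup.upperCentralSeries W i).comap SemidirectProduct.inl
  let Qs : ℕ → Subgroup Ω := fun i => if i ≤ n then (U i).map Q₁.subtype else Q
  have hU : ∀ (i : ℕ) (α : A) (x : Q₁), x ∈ U i → (α : MulAut Q₁) x ∈ U i := by
    intro i α x hx
    show (SemidirectProduct.inl ((α : MulAut Q₁) x) : W) ∈ Subgroup.upperCentralSeries W i
    rw [show (α : MulAut Q₁) x = A.subtype α x from rfl, SemidirectProduct.inl_aut, map_inv]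
    exact (inferInstance : (Subgroup.upperCentralSeries W i).Normal).conj_mem _ hx _
  have hsc : ∀ i, i ≤ n + 1 → F.StronglyClosed (Qs i) := by
    intro i _
    by_cases hi : i ≤ n
    · simp only [Qs, if_pos hi]
      refine ⟨(Subgroup.map_subtype_le _).trans hQ₁S, fun R hR φ hφ x => ?_⟩
      obtain ⟨α, hα, he⟩ :=
        (H85.isNormal_iff_extends hS hF hQ₁S).1 hQ₁ R (hR.trans (Subgroup.map_subtype_le _)) φ hφ
      rw [← he x]
      obtain ⟨y, hy, hyx⟩ := hR x.2
      refine ⟨_, hU i ⟨α, hα⟩ _ ?_, rfl⟩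
      rw [show Subgroup.inclusion (hR.trans (Subgroup.map_subtype_le _)) x = y from
        Subtype.ext hyx.symm]
      exact hy
    · simpa only [Qs, if_neg hi] using hQ
  have h0 : Qs 0 = ⊥ := by
    simp only [Qs, if_pos (Nat.zero_le n), U, Subgroup.upperCentralSeries_zero]
    rw [eq_bot_iff]
    rintro _ ⟨x, hx, rfl⟩
    have : x = 1 := SemidirectProduct.inl_injective
      ((Subgroup.mem_bot.1 hx).trans (map_one _).symm)
    simp [this]
  have hlast : Qs (n + 1) = Q := by simp [Qs]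
  have hcomm : ∀ i, i < n + 1 → ⁅Qs (n + 1), Qs (i + 1)⁆ ≤ Qs i := by
    intro i hi
    rw [hlast]
    rcases Nat.lt_or_ge i n with hin | hin
    · simp only [Qs, if_pos (Nat.succ_le_of_lt hin), if_pos hin.le]
      rw [Subgroup.commutator_le]
      rintro g hg _ ⟨x, hx, rfl⟩
      have hgN : g ∈ Subgroup.normalizer (Q₁ : Set Ω) :=
        H85.mem_normalizer_of_conj fun y hy => (H85.stronglyClosed_of_isNormal hQ₁).2 Q₁ le_rfl _
          (F.conj_mem hQ₁S (hQ.1 hg)) ⟨y, hy⟩
      let α : A := ⟨_, H85.autInducedBy_le_autGroup F hQ₁S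
        (H85.mem_autInducedBy (α := H85.conjAut S Q₁ ⟨g, hQ.1 hg, hgN⟩) |>.2
          ⟨g, hQ.1 hg, fun _ => rfl⟩)⟩
      refine ⟨(α : MulAut Q₁) x * x⁻¹, ?_, rfl⟩
      show (SemidirectProduct.inl ((α : MulAut Q₁) x * x⁻¹) : W) ∈ Subgroup.upperCentralSeries W i
      rw [map_mul, map_inv, show (α : MulAut Q₁) x = A.subtype α x from rfl,
        SemidirectProduct.inl_aut, map_inv]
      have h1 : SemidirectProduct.inl x ∈ Subgroup.upperCentralSeries W (i + 1) := hx
      rw [Subgroup.mem_upperCentralSeries_succ_iff] at h1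
      have h2 := inv_mem (h1 (SemidirectProduct.inr α))
      convert h2 using 1
      group
    · obtain rfl : i = n := by omega
      simp only [Qs, if_pos (le_refl i), if_neg (Nat.not_succ_le_self i)]
      refine hab.trans fun y hy => ⟨⟨y, hy⟩, ?_, rfl⟩
      show (SemidirectProduct.inl _ : W) ∈ Subgroup.upperCentralSeries W i
      rw [hn]
      trivial
  have := H85.isNormal_of_chain hS hF (n + 1) Qs h0 hsc hcomm
  rwa [hlast] at this

end H86
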