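import Cfsg.Agent.H86.PrimeLocal
import Cfsg.Agent.H86.Criterion
import Cfsg.Agent.H85.CentricExt

/-! Saturation of the least closed subsystem of index prime to `p`. -/

set_option autoImplicit false

open Cfsg Cfsg.FusionSystem

namespace H86

variable {Ω : Type*} [Group Ω] {S : Subgroup Ω}

/-- `ε` is the level of an automorphism of `P C_S(P)` fixing `P` pointwise. -/
def FixLev (E F : FusionSystem S) (P : Subgroup Ω) (ε : MulAut S) : Prop :=
  ∃ b ∈ F.autGroup (pc S P), (∀ x : pc S P, (x : Ω) ∈ P → (b x : Ω) = x) ∧ LevA E ε b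

variable [Finite S] {p : ℕ} [Fact p.Prime] {F E : FusionSystem S}

theorem FixLev.mem_stab {P : Subgroup Ω} {ε : MulAut S} (h : FixLev E F P ε) :
    ∃ b ∈ F.autGroup (pc S P), (∀ x : pc S P, (x : Ω) ∈ P → (b x : Ω) ∈ P) ∧ LevA E ε b := by
  obtain ⟨b, hb, hbx, hl⟩ := h
  exact ⟨b, hb, fun x hx => (hbx x hx).symm ▸ hx, hl⟩

theorem fixLev_mul (hd : PrimeData p F E) {P : Subgroup Ω} {ε ε' : MulAut S}
    (hε : ε ∈ F.autGroup S) (h' : FixLev E F P ε') (h : FixLev E F P ε) :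
    FixLev E F P (ε' * ε) := by
  obtain ⟨b', hb', hx', hl'⟩ := h'
  obtain ⟨b, hb, hx, hl⟩ := h
  refine ⟨b' * b, mul_mem hb' hb, fun x hxP => ?_, levA_mul hd hε hl' hl⟩
  rw [MulAut.mul_apply, show b x = x from Subtype.ext (hx x hxP), hx' x hxP]

theorem fixLev_inv (hd : PrimeData p F E) {P : Subgroup Ω} {ε : MulAut S}
    (hε : ε ∈ F.autGroup S) (h : FixLev E F P ε) : FixLev E F P ε⁻¹ := by
  obtain ⟨b, hb, hx, hl⟩ := h
  refine ⟨b⁻¹, inv_mem hb, fun x hxP => ?_, levA_inv hd hε hl⟩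
  conv_lhs => rw [← (Subtype.ext (hx x hxP) : b x = x), MulAut.inv_apply_self]

theorem fixLev_conj (hd : PrimeData p F E) {P : Subgroup Ω} {κ τ : MulAut S}
    (hκ : κ ∈ F.autGroup S) (hτ : τ ∈ F.autGroup S) {b : MulAut (pc S P)}
    (hb : b ∈ F.autGroup (pc S P)) (hbP : ∀ x : pc S P, (x : Ω) ∈ P → (b x : Ω) ∈ P)
    (hlb : LevA E τ b) (h : FixLev E F P κ) : FixLev E F P (τ * κ * τ⁻¹) := by
  obtain ⟨c, hc, hx, hlc⟩ := h
  refine ⟨b * c * b⁻¹, mul_mem (mul_mem hb hc) (inv_mem hb), fun x hxP => ?_,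
    levA_mul hd (inv_mem hτ) (levA_mul hd hκ hlb hlc) (levA_inv hd hτ hlb)⟩
  have hR : pc S P ≤ S := hlb.le
  obtain ⟨w, hw, hwx⟩ := H85.mem_img.1
    ((img_eq_of_mapsTo ((H85.mem_autGroup hR).1 hb) (le_sup_left : P ≤ pc S P) hbP).ge hxP)
  rw [MulAut.mul_apply, MulAut.mul_apply, show x = b w from Subtype.ext hwx.symm,
    MulAut.inv_apply_self, show c w = w from Subtype.ext (hx w hw)]

theorem fixLev_mul_right {P : Subgroup Ω} {ε a : MulAut S} (ha : a ∈ E.autGroup S)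
    (h : FixLev E F P ε) : FixLev E F P (ε * a) := by
  obtain ⟨b, hb, hx, hl⟩ := h
  exact ⟨b, hb, hx, hl.mul_right ha⟩

/-- The hypothesis of the descending induction. -/
def LoopAbove (E F : FusionSystem S) (P : Subgroup Ω) : Prop :=
  ∀ Z : Subgroup Ω, F.IsFullyNormalized Z → Nat.card P < Nat.card Z →
    ∀ κ ∈ F.autGroup S, Lev E κ Z Z.subtype → FixLev E F Z κ

theorem stepA (hS : IsPGroup p S) (hF : F.IsSaturated p) (hd : PrimeData p F E)
    {P Z : Subgroup Ω} (hP : F.IsFullyNormalized P) (ih : LoopAbove E F P)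
    (hlt : Nat.card P < Nat.card Z) (hPZ : P ≤ Z) (hZ : Z ≤ normalizerIn S P)
    {κ : MulAut S} (hκ : κ ∈ F.autGroup S) (hl : Lev E κ Z Z.subtype) : FixLev E F P κ := by
  have hA := hd.inv
  have hZS : Z ≤ S := hZ.trans (H85.normalizerIn_le P)
  obtain ⟨Z2, hZZ2, hZ2⟩ := H85.exists_fullyNormalized F hZS
  obtain ⟨m, hm, -, himg⟩ := H85.exists_map_to_fullyNormalized hS hF hZ2 hZZ2
  have hZN : Z ≤ normalizerIn S Z := H85.le_normalizerIn hZS
  obtain ⟨μ, hμ, hlm⟩ := frattini_centric hS hF hA hd.good hm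
  let eZ : Z ≃* Z2 :=
    (H85.resIso m (F.injective_of_mem hm) hZN).trans (MulEquiv.subgroupCongr himg)
  have heZ : Lev E μ Z (Z2.subtype.comp eZ.toMonoidHom) := hlm.res hZN fun _ => rfl
  have heZ' : Lev E μ⁻¹ Z2 (Z.subtype.comp eZ.symm.toMonoidHom) :=
    heZ.inv (hA _ hμ) fun y => ⟨eZ.symm y, congrArg Subtype.val (eZ.apply_symm_apply y), rfl⟩
  -- the image of `P` and the map back to `P`
  set P2 := H85.img m P with hP2def
  have hP2Z2 : P2 ≤ Z2 := himg ▸ H85.img_mono m hPZ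
  have hPN : P ≤ normalizerIn S Z := hPZ.trans hZN
  have hP2P : F.IsConj P2 P := H85.isConj_symm (H85.isConj_img hm hPN)
  have hR2N : pc S Z2 ≤ normalizerIn S P2 := by
    refine sup_le ?_ ?_
    · intro y hy
      obtain ⟨z, hz, rfl⟩ := H85.mem_img.1 (himg.ge hy)
      exact mem_normalizerIn_of_map hm hPN rfl (hZ hz).2
    · intro g hg
      have : Finite P2 := H85.finite_of_le (hP2Z2.trans hZ2.1)
      refine ⟨hg.1, H85.mem_normalizer_of_conj fun x hx => ?_⟩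
      rw [← (H85.mem_centralizerIn.1 hg).2 x (hP2Z2 hx), mul_inv_cancel_right]
      exact hx
  obtain ⟨e2, he2, he2val, he2img⟩ := H85.exists_map_to_fullyNormalized hS hF hP hP2P
  obtain ⟨η, hη, hle2⟩ := frattini_centric hS hF hA hd.good he2
  -- `e2 ∘ m` on `Z`
  have hmZ : ∀ z : Z, m (Subgroup.inclusion hZN z) ∈ normalizerIn S P2 := fun z =>
    hR2N (le_sup_left (α := Subgroup Ω)
      (himg.le (H85.apply_mem_img (x := Subgroup.inclusion hZN z) z.2)))
  let χ : Z →* Ω := e2.comp ((m.comp (Subgroup.inclusion hZN)).codRestrict _ hmZ)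
  have hν : η * μ ∈ F.autGroup S := mul_mem hη hμ
  have hlχ : Lev E (η * μ) Z χ := (hlm.res hZN fun _ => rfl).comp hle2 (hA _ (inv_mem hμ)) hmZ
    fun x => rfl
  have key : ∀ κ ∈ F.autGroup S, Lev E κ Z Z.subtype →
      FixLev E F P (η * μ * κ * (η * μ)⁻¹) := by
    intro κ hκ hl
    have hκ2 : μ * (κ * μ⁻¹) ∈ F.autGroup S := mul_mem hμ (mul_mem hκ (inv_mem hμ))
    have hl2 : Lev E (μ * (κ * μ⁻¹)) Z2 Z2.subtype :=
      (heZ'.comp hl (hA _ (by simpa using hμ)) (fun y => (eZ.symm y).2)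
        (χ := Z.subtype.comp eZ.symm.toMonoidHom) fun _ => rfl).comp heZ
        (hA _ (inv_mem (mul_mem hκ (inv_mem hμ)))) (fun y => (eZ.symm y).2) fun y =>
        (congrArg Subtype.val (eZ.apply_symm_apply y)).symm
    obtain ⟨b, hb, hbx, hlb⟩ := ih Z2 hZ2 (hlt.trans_le (H85.isConj_card hZZ2).le) _ hκ2 hl2
    set R3 := H85.img e2 (pc S Z2) with hR3def
    let r : pc S Z2 ≃* R3 := H85.resIso e2 (F.injective_of_mem he2) hR2N
    have hr : H85.IsFIso F r := H85.isFIso_resIso he2 hR2N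
    have hlr : Lev E η (pc S Z2) (R3.subtype.comp r.toMonoidHom) := hle2.res hR2N fun _ => rfl
    have hlr' : Lev E η⁻¹ R3 ((pc S Z2).subtype.comp r.symm.toMonoidHom) :=
      hlr.inv (hA _ hη) fun y => ⟨r.symm y, congrArg Subtype.val (r.apply_symm_apply y), rfl⟩
    have hlf : Lev E (η * (μ * (κ * μ⁻¹) * η⁻¹)) R3
        (R3.subtype.comp (MulAut.congr r b).toMonoidHom) :=
      (hlr'.comp hlb (hA _ (by simpa using hη)) (fun y => (r.symm y).2)
        (χ := (pc S Z2).subtype.comp (b.toMonoidHom.comp r.symm.toMonoidHom)) fun _ => rfl).comp hlr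
        (hA _ (inv_mem (mul_mem hκ2 (inv_mem hη)))) (fun y => (b (r.symm y)).2) fun y => rfl
    have hR2S : pc S Z2 ≤ S := pc_le hZ2.1
    have hf : H85.IsFIso F (MulAut.congr r b) :=
      ((hr.symm.trans ((H85.mem_autGroup hR2S).1 hb)).trans hr).congr fun _ => rfl
    have hPR3 : P ≤ R3 := fun y hy =>
      H85.img_mono e2 (hP2Z2.trans le_sup_left) (he2img.ge hy)
    have hR3N : R3 ≤ normalizerIn S P := by
      intro y hy
      obtain ⟨x, -, rfl⟩ := H85.mem_img.1 hy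
      exact he2val x
    have hfix : ∀ y : R3, (y : Ω) ∈ P → MulAut.congr r b y = y := by
      intro y hy
      obtain ⟨x, hx, hxy⟩ := H85.mem_img.1 (he2img.ge hy)
      have h1 : y = r ⟨(x : Ω), le_sup_left (α := Subgroup Ω) (hP2Z2 hx)⟩ :=
        Subtype.ext (hxy.symm.trans (congrArg e2 (Subtype.ext rfl)))
      rw [h1]
      show r (b (r.symm (r _))) = _
      rw [MulEquiv.symm_apply_apply]
      exact congrArg r (Subtype.ext (hbx _ (hP2Z2 hx)))
    obtain ⟨ε', hε', hlε', b3, hb3, -, hlb3, hb3e⟩ := loc hS hF hd hP hPR3 hR3N hf fun y hy => by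
      show ((MulAut.congr r b y : R3) : Ω) ∈ P
      rw [hfix y hy]
      exact hy
    have hH : FixLev E F P ε' := ⟨b3, hb3, fun x hx => by
      have h1 := hb3e ⟨x, hPR3 hx⟩ hx
      exact h1.trans (congrArg Subtype.val (hfix ⟨x, hPR3 hx⟩ hx)), hlb3⟩
    have hc3 : F.IsCentric R3 := H85.centric_of_isConj
      (centric_pc (H85.fullyCentralized_of_fullyNormalized hS hF hZ2)) hr.isConj
    have h1 := fixLev_mul_right (lev_unique hd hc3
      (mul_mem hη (mul_mem hκ2 (inv_mem hη))) hε' hlf hlε') hH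
    convert h1 using 1
    group
  have hχF : χ ∈ F.Hom Z := hlχ.mem hd.sub le_rfl hν
  obtain ⟨ε', hε', hlε', b', hb', hbP', hlb', -⟩ := loc hS hF hd hP hPZ hZ hχF fun x hx =>
    he2img.le (H85.apply_mem_img (φ := e2) (H85.apply_mem_img (φ := m) hx))
  let e := H85.isoOf χ hχF rfl
  have hloop : Lev E (ε'⁻¹ * (η * μ)) Z Z.subtype :=
    hlχ.comp (hlε'.inv (hA _ hε') (ψ := Z.subtype.comp e.symm.toMonoidHom)
      fun y => ⟨e.symm y, congrArg Subtype.val (e.apply_symm_apply y), rfl⟩)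
      (hA _ (inv_mem hν)) (fun x => ⟨x, rfl⟩) fun x =>
      (congrArg Subtype.val (e.symm_apply_apply x)).symm
  have hτ : ε'⁻¹ * (η * μ) ∈ F.autGroup S := mul_mem (inv_mem hε') hν
  have h1 := key _ hτ hloop
  have h2 := key κ hκ hl
  have hA1 : η * μ * (ε'⁻¹ * (η * μ)) * (η * μ)⁻¹ ∈ F.autGroup S :=
    mul_mem (mul_mem hν hτ) (inv_mem hν)
  have hA2 : η * μ * κ * (η * μ)⁻¹ ∈ F.autGroup S := mul_mem (mul_mem hν hκ) (inv_mem hν)
  have h3 := fixLev_mul hd hA1 (fixLev_mul hd hA2 (fixLev_inv hd hA1 h1) h2) h1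
  have h4 := fixLev_conj hd (mul_mem (mul_mem (inv_mem hA1) hA2) hA1) (inv_mem hε') (inv_mem hb')
    (fun x hx => ?_) (levA_inv hd hε' hlb') h3
  · convert h4 using 1
    group
  · obtain ⟨w, hw, hwx⟩ := H85.mem_img.1 ((img_eq_of_mapsTo
      ((H85.mem_autGroup (pc_le hP.1)).1 hb') (le_sup_left : P ≤ pc S P) hbP').ge hx)
    rw [show x = b' w from Subtype.ext hwx.symm, MulAut.inv_apply_self]
    exact hw

theorem keyLemma (hS : IsPGroup p S) (hF : F.IsSaturated p) (hd : PrimeData p F E)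
    {P : Subgroup Ω} (hP : F.IsFullyNormalized P) (ih : LoopAbove E F P)
    {Q Y : Subgroup Ω} (hQY : Q < Y) (hYN : Y ≤ normalizerIn S Q)
    (hc : Nat.card Q = Nat.card P) {a₁ a₂ : Y →* Ω} (ha₁ : a₁ ∈ F.Hom Y)
    (h₁ : ∀ x : Y, (x : Ω) ∈ Q → a₁ x ∈ P) (h₂ : ∀ x : Y, (x : Ω) ∈ Q → a₂ x ∈ P)
    {η₁ η₂ : MulAut S} (hη₁ : η₁ ∈ F.autGroup S) (hη₂ : η₂ ∈ F.autGroup S)
    (hl₁ : Lev E η₁ Y a₁) (hl₂ : Lev E η₂ Y a₂) :
    ∃ b ∈ F.autGroup (pc S P), (∀ x : pc S P, (x : Ω) ∈ P → (b x : Ω) ∈ P) ∧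
      LevA E (η₂ * η₁⁻¹) b ∧ ∀ (x : Y) (hx : (x : Ω) ∈ Q),
        (b ⟨a₁ x, le_sup_left (α := Subgroup Ω) (h₁ x hx)⟩ : Ω) = a₂ x := by
  have hA := hd.inv
  have hQY' : Q ≤ Y := hQY.le
  have : Finite P := H85.finite_of_le hP.1
  have : Finite Y := H85.finite_of_le (H85.source_le ha₁)
  have himg : H85.img a₁ Q = P := by
    refine Subgroup.eq_of_le_of_card_ge (fun y hy => ?_) ?_
    · obtain ⟨x, hx, rfl⟩ := H85.mem_img.1 hy
      exact h₁ x hx
    · rw [← hc]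
      exact (Nat.card_congr (H85.resIso a₁ (F.injective_of_mem ha₁) hQY').toEquiv).le
  have hPZ : P ≤ a₁.range := himg ▸ H85.img_le_range a₁
  have hZN : a₁.range ≤ normalizerIn S P := by
    rintro _ ⟨z, rfl⟩
    exact mem_normalizerIn_of_map ha₁ hQY' himg (hYN z.2).2
  have hlt : Nat.card P < Nat.card a₁.range := by
    rw [← hc, card_range F ha₁]
    exact lt_of_le_of_ne (Subgroup.card_le_of_le hQY')
      fun h => hQY.ne (Subgroup.eq_of_le_of_card_ge hQY' h.ge)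
  let e := H85.isoOf a₁ ha₁ rfl
  let χ : a₁.range →* Ω := a₂.comp e.symm.toMonoidHom
  have hlinv : Lev E η₁⁻¹ a₁.range (Y.subtype.comp e.symm.toMonoidHom) :=
    hl₁.inv (hA _ hη₁) fun y => ⟨e.symm y, congrArg Subtype.val (e.apply_symm_apply y), rfl⟩
  have hν : η₂ * η₁⁻¹ ∈ F.autGroup S := mul_mem hη₂ (inv_mem hη₁)
  have hlχ : Lev E (η₂ * η₁⁻¹) a₁.range χ :=
    hlinv.comp hl₂ (hA _ (by simpa using hη₁)) (fun y => (e.symm y).2) fun y => rfl
  have hχF := hlχ.mem hd.sub le_rfl hν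
  have hχP : ∀ x : a₁.range, (x : Ω) ∈ P → χ x ∈ P := by
    intro y hy
    obtain ⟨x, hx, hxy⟩ := H85.mem_img.1 (himg.ge hy)
    rw [show y = e x from Subtype.ext hxy.symm]
    show a₂ (e.symm (e x)) ∈ P
    rw [MulEquiv.symm_apply_apply]
    exact h₂ x hx
  obtain ⟨ε', hε', hlε', b', hb', hbP', hlb', hbe'⟩ := loc hS hF hd hP hPZ hZN hχF hχP
  let f := H85.isoOf χ hχF rfl
  have hloop : Lev E (ε'⁻¹ * (η₂ * η₁⁻¹)) a₁.range a₁.range.subtype :=
    hlχ.comp (hlε'.inv (hA _ hε') (ψ := a₁.range.subtype.comp f.symm.toMonoidHom)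
      fun y => ⟨f.symm y, congrArg Subtype.val (f.apply_symm_apply y), rfl⟩)
      (hA _ (inv_mem hν)) (fun x => ⟨x, rfl⟩) fun x =>
      (congrArg Subtype.val (f.symm_apply_apply x)).symm
  have hτ : ε'⁻¹ * (η₂ * η₁⁻¹) ∈ F.autGroup S := mul_mem (inv_mem hε') hν
  obtain ⟨bh, hbh, hbhx, hlbh⟩ := stepA hS hF hd hP ih hlt hPZ hZN hτ hloop
  refine ⟨b' * bh, mul_mem hb' hbh, fun x hx => ?_, ?_, fun x hx => ?_⟩
  · rw [MulAut.mul_apply]
    exact hbP' _ ((hbhx x hx).symm ▸ hx)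
  · have h := levA_mul hd hτ hlb' hlbh
    rwa [mul_inv_cancel_left] at h
  · rw [MulAut.mul_apply, show bh ⟨a₁ x, _⟩ = ⟨a₁ x, le_sup_left (α := Subgroup Ω) (h₁ x hx)⟩
      from Subtype.ext (hbhx _ (h₁ x hx))]
    refine (hbe' (e x) (h₁ x hx)).trans ?_
    show a₂ (e.symm (e x)) = _
    rw [MulEquiv.symm_apply_apply]

/-- The maps between conjugates of `P` that agree, after moving to `P`, with automorphisms of the
expected level. -/
def Good (E F : FusionSystem S) (P Q : Subgroup Ω) (φ : Q →* Ω) : Prop :=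
  ∀ Q' : Subgroup Ω, φ.range = Q' →
    ∀ a ∈ F.Hom (normalizerIn S Q), ∀ a' ∈ F.Hom (normalizerIn S Q'),
    ∀ η ∈ F.autGroup S, ∀ η' ∈ F.autGroup S,
    Lev E η (normalizerIn S Q) a → Lev E η' (normalizerIn S Q') a' →
    (∀ x : normalizerIn S Q, (x : Ω) ∈ Q → a x ∈ P) →
    (∀ y : normalizerIn S Q', (y : Ω) ∈ Q' → a' y ∈ P) →
    ∃ b ∈ F.autGroup (pc S P), (∀ x : pc S P, (x : Ω) ∈ P → (b x : Ω) ∈ P) ∧
      LevA E (η' * η⁻¹) b ∧
      ∀ (x : Q) (h1 : (x : Ω) ∈ normalizerIn S Q) (h2 : φ x ∈ normalizerIn S Q')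
        (h3 : a ⟨x, h1⟩ ∈ pc S P), (b ⟨a ⟨x, h1⟩, h3⟩ : Ω) = a' ⟨φ x, h2⟩

theorem good_of_extend (hS : IsPGroup p S) (hF : F.IsSaturated p) (hd : PrimeData p F E)
    {P : Subgroup Ω} (hP : F.IsFullyNormalized P) (ih : LoopAbove E F P)
    {Q Y : Subgroup Ω} (hQY : Q < Y) {ψ : Y →* Ω} (hψ : ψ ∈ E.Hom Y)
    (hc : F.IsConj Q P) : Good E F P Q (ψ.comp (Subgroup.inclusion hQY.le)) := by
  intro Q' hQ' a ha a' ha' η hη η' hη' hla hla' haP haP'
  have hYS : Y ≤ S := H85.source_le hψ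
  set X := Y ⊓ Subgroup.normalizer (Q : Set Ω) with hXdef
  have hQX : Q ≤ X := le_inf hQY.le Subgroup.le_normalizer
  obtain ⟨g, hgY, hgN, hgQ⟩ := H85.exists_normalizing hS hYS hQY
  have hQX' : Q < X :=
    SetLike.lt_iff_le_and_exists.2 ⟨hQX, g, Subgroup.mem_inf.2 ⟨hgY, hgN⟩, hgQ⟩
  have hXN : X ≤ normalizerIn S Q := inf_le_inf_right _ hYS
  have himg : H85.img ψ Q = Q' := by
    rw [← hQ']
    ext y
    rw [H85.mem_img]
    exact ⟨fun ⟨x, hx, he⟩ => ⟨⟨x, hx⟩, he⟩, fun ⟨x, he⟩ => ⟨_, x.2, he⟩⟩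
  have hψX : ∀ x : X, ψ (Subgroup.inclusion inf_le_left x) ∈ normalizerIn S Q' := fun x =>
    mem_normalizerIn_of_map (hd.sub Y hψ) hQY.le himg x.2.2
  have hl₂ : Lev E (η' * 1) X
      (a'.comp ((ψ.comp (Subgroup.inclusion inf_le_left)).codRestrict _ hψX)) :=
    (lev_one.2 (H85.restrict hψ inf_le_left)).comp hla' (hd.inv _ (by simp)) hψX fun _ => rfl
  obtain ⟨b, hb, hbP, hlb, hbe⟩ := keyLemma hS hF hd hP ih hQX' hXN (H85.isConj_card hc)
    (H85.restrict ha hXN) (fun x hx => haP _ hx) (fun x hx => haP' _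
      (himg.le (H85.apply_mem_img (φ := ψ) (x := Subgroup.inclusion inf_le_left x) hx))) hη (mul_mem hη' (one_mem _)) (hla.res hXN fun _ => rfl) hl₂
  refine ⟨b, hb, hbP, by simpa using hlb, fun x h1 h2 h3 => ?_⟩
  exact hbe ⟨x, hQX x.2⟩ x.2

/-- The loop condition. -/
theorem fixLev_of_loop (hS : IsPGroup p S) (hF : F.IsSaturated p) (hd : PrimeData p F E)
    (hmin : ∀ D : FusionSystem S, D.IsSubsystemOf E → GoodC p D F → GoodCl D F →
      E.IsSubsystemOf D)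
    {P : Subgroup Ω} (hP : F.IsFullyNormalized P) {ε : MulAut S} (hε : ε ∈ F.autGroup S)
    (hl : Lev E ε P P.subtype) : FixLev E F P ε := by
  suffices h : ∀ (n : ℕ) (P : Subgroup Ω), F.IsFullyNormalized P →
      Nat.card S - Nat.card P ≤ n → ∀ ε ∈ F.autGroup S, Lev E ε P P.subtype → FixLev E F P ε from
    h _ P hP le_rfl ε hε hl
  intro n
  induction n using Nat.strong_induction_on with
  | _ n ihn =>
  intro P hP hn ε hε hl
  by_cases hc : F.IsCentric P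
  · have hle : pc S P ≤ P := sup_le le_rfl (H85.centric_self hc)
    exact ⟨1, one_mem _, fun x _ => rfl, hl.res hle fun _ => rfl⟩
  have ih : LoopAbove E F P := by
    intro Z hZ hlt κ hκ hlκ
    have : Nat.card Z ≤ Nat.card S := Subgroup.card_le_of_le hZ.1
    exact ihn (Nat.card S - Nat.card Z) (by omega) Z hZ le_rfl κ hκ hlκ
  have hnc : ∀ {Q : Subgroup Ω}, F.IsConj Q P → ¬ F.IsCentric Q := fun h hQ =>
    hc (H85.centric_of_isConj hQ h)
  have hns : ∀ {Q : Subgroup Ω}, F.IsConj Q P → Q < S := fun h =>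
    lt_of_le_of_ne (H85.isConj_le h).1 fun e => hnc h (e ▸ H85.centric_top F)
  let D : FusionSystem S :=
    { Hom := fun Q => {φ | φ ∈ E.Hom Q ∧ (F.IsConj Q P → Good E F P Q φ)}
      le_of_mem := fun h => E.le_of_mem h.1
      injective_of_mem := fun h => E.injective_of_mem h.1
      conj_mem := fun {Q g} hQ hg => ⟨E.conj_mem hQ hg, fun hQP =>
        good_of_extend hS hF hd hP ih (hns hQP) (E.conj_mem le_rfl hg) hQP⟩
      comp_mem := fun {Q Q2 φ ψ} hφ hψ h => ⟨E.comp_mem hφ.1 hψ.1 h, fun hQP => by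
        have hφF := hd.sub Q hφ.1
        have hmP : F.IsConj φ.range P :=
          H85.isConj_trans (H85.isConj_symm ⟨φ, hφF, rfl⟩) hQP
        have hle : φ.range ≤ Q2 := by
          rintro _ ⟨x, rfl⟩
          exact h x
        have hgψ : Good E F P φ.range (ψ.comp (Subgroup.inclusion hle)) := by
          rcases eq_or_lt_of_le hle with heq | hlt
          · subst heq
            have e : ψ.comp (Subgroup.inclusion hle) = ψ := MonoidHom.ext fun _ => rfl
            rw [e]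
            exact hψ.2 hmP
          · exact good_of_extend hS hF hd hP ih hlt hψ.1 hmP
        intro Q' hQ' a ha a' ha' η hη η' hη' hla hla' haP haP'
        obtain ⟨am, ham, -, himg⟩ := H85.exists_map_to_fullyNormalized hS hF hP hmP
        obtain ⟨ηm, hηm, hlam⟩ := frattini_centric hS hF hd.inv hd.good ham
        have hamP : ∀ x : normalizerIn S φ.range, (x : Ω) ∈ φ.range → am x ∈ P :=
          fun x hx => himg.le (H85.apply_mem_img hx)
        have hQ'' : (ψ.comp (Subgroup.inclusion hle)).range = Q' := by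
          rw [← hQ']
          ext y
          exact ⟨fun ⟨⟨_, x, rfl⟩, he⟩ => ⟨x, he⟩, fun ⟨x, he⟩ => ⟨⟨_, x, rfl⟩, he⟩⟩
        obtain ⟨b₁, hb₁, hb₁P, hl₁, he₁⟩ :=
          hφ.2 hQP _ rfl a ha am ham η hη ηm hηm hla hlam haP hamP
        obtain ⟨b₂, hb₂, hb₂P, hl₂, he₂⟩ :=
          hgψ Q' hQ'' am ham a' ha' ηm hηm η' hη' hlam hla' hamP haP'
        refine ⟨b₂ * b₁, mul_mem hb₂ hb₁, fun x hx => hb₂P _ (hb₁P x hx), ?_,
          fun x h1 h2 h3 => ?_⟩
        · have h := levA_mul hd (mul_mem hηm (inv_mem hη)) hl₂ hl₁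
          rwa [mul_assoc, inv_mul_cancel_left] at h
        · have hmN : φ x ∈ normalizerIn S φ.range :=
            H85.le_normalizerIn (H85.range_le hφF) ⟨x, rfl⟩
          have hm3 : am ⟨φ x, hmN⟩ ∈ pc S P := le_sup_left (α := Subgroup Ω) (hamP _ ⟨x, rfl⟩)
          rw [MulAut.mul_apply, show b₁ ⟨a ⟨x, h1⟩, h3⟩ = ⟨am ⟨φ x, hmN⟩, hm3⟩ from
            Subtype.ext (he₁ x h1 hmN h3)]
          exact he₂ ⟨φ x, x, rfl⟩ hmN h2 hm3⟩
      inv_mem := fun {Q φ} hφ => by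
        obtain ⟨ψ, hψ, hψe⟩ := E.inv_mem hφ.1
        refine ⟨ψ, ⟨hψ, fun hmP => ?_⟩, hψe⟩
        have hr : ψ.range = Q := by
          ext y
          refine ⟨?_, fun hy => ⟨⟨_, ⟨y, hy⟩, rfl⟩, hψe ⟨y, hy⟩⟩⟩
          rintro ⟨⟨_, x, rfl⟩, rfl⟩
          rw [hψe]
          exact x.2
        intro Q' hQ' a ha a' ha' η hη η' hη' hla hla' haP haP'
        obtain rfl : Q = Q' := hr.symm.trans hQ'
        have hQP : F.IsConj Q P := H85.isConj_trans ⟨φ, hd.sub Q hφ.1, rfl⟩ hmP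
        obtain ⟨b, hb, hbP, hlb, hbe⟩ :=
          hφ.2 hQP _ rfl a' ha' a ha η' hη' η hη hla' hla haP' haP
        refine ⟨b⁻¹, inv_mem hb, ?_, ?_, ?_⟩
        · intro x hx
          obtain ⟨w, hw, hwx⟩ := H85.mem_img.1 ((img_eq_of_mapsTo
            ((H85.mem_autGroup (pc_le hP.1)).1 hb) (le_sup_left : P ≤ pc S P) hbP).ge hx)
          rw [show x = b w from Subtype.ext hwx.symm, MulAut.inv_apply_self]
          exact hw
        · have h := levA_inv hd (mul_mem hη (inv_mem hη')) hlb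
          rwa [mul_inv_rev, inv_inv] at h
        · rintro ⟨y, x, rfl⟩ h1 h2 h3
          have hψx := hψe x
          have hx1 : (x : Ω) ∈ normalizerIn S Q := hψx ▸ h2
          have hx3 : a' ⟨x, hx1⟩ ∈ pc S P := le_sup_left (α := Subgroup Ω) (haP' _ x.2)
          have h4 : b ⟨a' ⟨x, hx1⟩, hx3⟩ = ⟨a ⟨φ x, h1⟩, h3⟩ :=
            Subtype.ext (hbe x hx1 h1 hx3)
          rw [← h4, MulAut.inv_apply_self]
          exact congrArg a' (Subtype.ext hψx.symm) }
  have hDE : D.IsSubsystemOf E := fun Q φ h => h.1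
  have hED : E.IsSubsystemOf D := by
    refine hmin D hDE (fun Q hQ a ha hk => ?_) (fun κ hκ Q hQ h => ?_)
    · exact (H85.mem_autGroup hQ.1).2
        ⟨(H85.mem_autGroup hQ.1).1 (hd.good Q hQ a ha hk), fun h => absurd hQ (hnc h)⟩
    · exact (H85.mem_autGroup le_rfl).2
        ⟨(H85.mem_autGroup le_rfl).1 (hd.cl κ hκ Q hQ (hDE Q h)),
          fun h => absurd (H85.centric_top F) (hnc h)⟩
  obtain ⟨φ₀, h₀, he⟩ := hl
  have h0S := (E.le_of_mem h₀).2
  have hP0 : F.IsConj φ₀.range P := H85.isConj_symm ⟨φ₀, hd.sub P h₀, rfl⟩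
  have hgood := (hED P h₀).2 (H85.isConj_refl F hP.1)
  have hεP : ∀ y : normalizerIn S φ₀.range, (y : Ω) ∈ φ₀.range →
      (dmap ε).comp (Subgroup.inclusion (H85.normalizerIn_le _)) y ∈ P := by
    rintro ⟨_, hy⟩ ⟨x, rfl⟩
    show ((ε ⟨φ₀ x, _⟩ : S) : Ω) ∈ P
    rw [← he x (h0S x)]
    exact x.2
  obtain ⟨b, hb, -, hlb, hbe⟩ := hgood φ₀.range rfl (normalizerIn S P).subtype
    (H85.id_mem F (H85.normalizerIn_le P)) _
    ((lev_aut ε (H85.normalizerIn_le φ₀.range)).mem hd.sub le_rfl hε) 1 (one_mem _) ε hε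
    (lev_one.2 (H85.id_mem E (H85.normalizerIn_le P))) (lev_aut ε (H85.normalizerIn_le φ₀.range))
    (fun x hx => hx) hεP
  refine ⟨b, hb, fun x hx => ?_, by simpa using hlb⟩
  have h2 : φ₀ ⟨x, hx⟩ ∈ normalizerIn S φ₀.range :=
    H85.le_normalizerIn (H85.range_le (hd.sub P h₀)) ⟨_, rfl⟩
  have h1 := hbe ⟨x, hx⟩ (H85.le_normalizerIn hP.1 hx) h2 x.2
  exact h1.trans (he ⟨x, hx⟩ (h0S _)).symm

theorem exists_receptive_extension (hS : IsPGroup p S) (hF : F.IsSaturated p)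
    (hd : PrimeData p F E) {P : Subgroup Ω} (hP : F.IsFullyNormalized P) {δ : MulAut S}
    (hδ : δ ∈ F.autGroup S) (h : FixLev E F P δ) :
    ∃ ξ : normalizerIn S P →* Ω, Lev E δ (normalizerIn S P) ξ ∧
      (∀ x, ξ x ∈ normalizerIn S P) ∧ ∀ x : normalizerIn S P, (x : Ω) ∈ P → ξ x = x := by
  have hPS := hP.1
  set N := normalizerIn S P with hNdef
  unfold FixLev at h
  set R := pc S P with hRdef
  obtain ⟨b, hb, hbx, hlb⟩ := h
  have hR : R ≤ S := pc_le hPS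
  have hRN : R ≤ N := pc_le_normalizerIn hPS
  have hPR : P ≤ R := le_sup_left
  have : Finite N := H85.finite_of_le (H85.normalizerIn_le P)
  have : Finite R := H85.finite_of_le hR
  have : Finite P := H85.finite_of_le hPS
  have hNp : IsPGroup p N := hS.to_le (H85.normalizerIn_le P)
  set L := H85.normalizerSystem F P hPS with hLdef
  have hL : L.IsSaturated p := H85.isSaturated_normalizerSystem hS hF hP L fun _ => rfl
  have hgR : ∀ g ∈ N, g ∈ Subgroup.normalizer (R : Set Ω) := fun g hg =>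
    H85.mem_normalizer_of_conj fun x hx => map_pc (ψ := Cfsg.conjHom R g) (F.conj_mem hR hg.1)
      le_rfl (fun y hy => H85.conj_mem_of_mem_normalizer hg.2 hy) ⟨x, hx⟩ hx
  let G : Subgroup (MulAut R) :=
    { carrier := {a | a ∈ F.autGroup R ∧ ∃ g ∈ N, ∀ x : R, (x : Ω) ∈ P → (a x : Ω) = g * x * g⁻¹}
      one_mem' := ⟨one_mem _, 1, one_mem _, fun x _ => by simp⟩
      mul_mem' := by
        rintro a c ⟨ha, g, hg, hga⟩ ⟨hc, g', hg', hgc⟩
        refine ⟨mul_mem ha hc, g * g', mul_mem hg hg', fun x hx => ?_⟩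
        have hcx : ((c x : R) : Ω) ∈ P := by
          rw [hgc x hx]
          exact H85.conj_mem_of_mem_normalizer hg'.2 hx
        rw [MulAut.mul_apply, hga _ hcx, hgc x hx]
        group
      inv_mem' := by
        rintro a ⟨ha, g, hg, hga⟩
        refine ⟨inv_mem ha, g⁻¹, inv_mem hg, fun x hx => ?_⟩
        have hy : g⁻¹ * (x : Ω) * g ∈ P := H85.conj_mem_of_mem_normalizer' hg.2 hx
        have h1 : a ⟨_, hPR hy⟩ = x := Subtype.ext ((hga _ hy).trans (by group))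
        rw [← h1, MulAut.inv_apply_self]
        show _ = g⁻¹ * ((a ⟨_, hPR hy⟩ : R) : Ω) * g⁻¹⁻¹
        rw [h1, inv_inv] }
  have hbG : b ∈ G := ⟨hb, 1, one_mem _, fun x hx => by rw [hbx x hx]; simp⟩
  have hRn : L.IsFullyNormalized R := by
    refine ⟨hRN, fun Q _ => ?_⟩
    have : normalizerIn N R = N := inf_eq_left.2 fun g hg => hgR g hg
    rw [this]
    exact Subgroup.card_le_of_le (H85.normalizerIn_le Q)
  have hAF : L.IsFullyAutomized p R := H85.fullyAutomized_of_fullyNormalized hNp hL hRn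
  rw [H85.isFullyAutomized_iff hNp] at hAF
  have hGL : G ≤ L.autGroup R := by
    rintro a ⟨ha, g, hg, hga⟩
    refine (H85.mem_autGroup hRN).2 (H85.mem_normalizerHom.2 ⟨(H85.mem_autGroup hR).1 ha, hRN,
      fun x => hRN (a x).2, (R.subtype.comp a.toMonoidHom).comp
        (Subgroup.inclusion (sup_le le_rfl hPR)), H85.restrict ((H85.mem_autGroup hR).1 ha) _,
      fun x => rfl, ?_⟩)
    refine img_eq_of_mapsTo (H85.restrict ((H85.mem_autGroup hR).1 ha) _) le_sup_right fun x hx => ?_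
    show ((a (Subgroup.inclusion _ x) : R) : Ω) ∈ P
    rw [hga _ hx]
    exact H85.conj_mem_of_mem_normalizer hg.2 hx
  have hR₀G : autInducedBy N R ≤ G := by
    intro a ha
    obtain ⟨g, hg, hga⟩ := H85.mem_autInducedBy.1 ha
    exact ⟨(H85.mem_autGroup hR).2 (H85.hom_congr (F.conj_mem hR hg.1) fun x => (hga x).symm),
      g, hg, fun x _ => hga x⟩
  set O := opAut p G with hOdef
  have hR₀O : autInducedBy N R ≤ O := fun a ha =>
    mem_opAut (hR₀G ha) (exists_orderOf_of_isPGroup (H85.autInducedBy_isPGroup hNp R) ha)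
  let Kc : Subgroup G := O.subgroupOf G
  have hKc : Kc.Normal := ⟨fun k hk a => opAut_conj a.2 hk⟩
  let R' : Sylow p Kc :=
    { toSubgroup := ((autInducedBy N R).subgroupOf G).subgroupOf Kc
      isPGroup' := by
        intro x
        obtain ⟨j, hj⟩ := H85.autInducedBy_isPGroup hNp R ⟨((x : G) : MulAut R), x.2⟩
        exact ⟨j, Subtype.ext (Subtype.ext (Subtype.ext (congrArg Subtype.val hj :)))⟩
      is_maximal' := by
        intro Q hQ hle
        refine le_antisymm (fun x hx => ?_) hle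
        have hQ' : (Q.map Kc.subtype).map G.subtype = autInducedBy N R := by
          refine hAF.2 _ ((Subgroup.map_subtype_le _).trans hGL) ((hQ.map _).map _) ?_
          intro a ha
          exact ⟨⟨a, hR₀G ha⟩, ⟨⟨⟨a, hR₀G ha⟩, hR₀O ha⟩, hle ha, rfl⟩, rfl⟩
        exact hQ'.le ⟨(x : G), ⟨x, hx, rfl⟩, rfl⟩ }
  have : Finite (MulAut R) := Finite.of_injective _ DFunLike.coe_injective
  have htop : Subgroup.normalizer (((R' : Subgroup Kc).map Kc.subtype : Subgroup _) : Set _) ⊔ Kc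
      = ⊤ := R'.normalizer_sup_eq_top
  have hmem : (⟨b, hbG⟩ : G) ∈ Kc ⊔
      Subgroup.normalizer (((R' : Subgroup Kc).map Kc.subtype : Subgroup _) : Set _) := by
    rw [sup_comm, htop]
    trivial
  rw [← SetLike.mem_coe, Subgroup.normal_mul] at hmem
  obtain ⟨k, hk, β, hβ, hkβ⟩ := hmem
  have hkb : (k : MulAut R) * (β : MulAut R) = b := congrArg Subtype.val hkβ
  -- `k` has trivial level
  have hlk : LevA E (1 : MulAut S) (k : MulAut R) := by
    refine lev_one.2 ((H85.mem_autGroup hR).1 ?_)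
    exact (opAut_le_iff (A := G) (B := E.autGroup R)).2
      (fun a (ha : a ∈ G) hp => pElement_mem hS hF hd.inv hd.good hR ha.1 hp) hk
  have hlβ : LevA E δ (β : MulAut R) := by
    have h1 := levA_mul hd hδ (levA_inv hd (one_mem _) hlk) hlb
    rw [inv_one, one_mul, ← hkb, inv_mul_cancel_left] at h1
    exact h1
  have hβF : H85.IsFIso F (β : MulAut R) := (H85.mem_autGroup hR).1 β.2.1
  have hc : F.IsCentric R := centric_pc (H85.fullyCentralized_of_fullyNormalized hS hF hP)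
  have hrec : F.IsReceptive R :=
    H85.receptive_of_fullyCentralized hS hF (H85.centric_fullyCentralized hc)
  obtain ⟨ψ, hψ, hext⟩ := H85.receptive_extend hrec hβF
  have hNX : N ≤ extender S R (R.subtype.comp (β : MulAut R).toMonoidHom) := by
    intro g hg
    refine H85.mem_extender.2 ⟨hg.1, hgR g hg, ?_⟩
    set cg : MulAut R := H85.conjAut S R ⟨g, hg.1, hgR g hg⟩ with hcgdef
    have hc1 : cg ∈ autInducedBy N R := H85.mem_autInducedBy.2 ⟨g, hg, fun x => rfl⟩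
    have h2 := (Subgroup.mem_normalizer_iff.mp hβ ⟨cg, hR₀G hc1⟩).mp
      ⟨⟨⟨cg, hR₀G hc1⟩, hR₀O hc1⟩, hc1, rfl⟩
    obtain ⟨w, hw, hwe⟩ := h2
    obtain ⟨h, hh, hhe⟩ := H85.mem_autInducedBy.1
      (hw : ((w : G) : MulAut R) ∈ autInducedBy N R)
    have hwe' : ((w : G) : MulAut R) = (β : MulAut R) * cg * (β : MulAut R)⁻¹ :=
      congrArg Subtype.val hwe
    refine ⟨h, hh.1, fun x hx => ?_⟩
    have h4 := hhe ((β : MulAut R) x)
    change (((((w : G) : MulAut R)) ((β : MulAut R) x) : R) : Ω) = _ at h4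
    rw [hwe'] at h4
    simp only [MulAut.mul_apply, MulAut.inv_apply_self] at h4
    refine Eq.trans ?_ h4
    exact congrArg (fun z : R => ((((β : MulAut R) z) : R) : Ω)) (Subtype.ext rfl)
  have hξ := H85.restrict hψ hNX
  set ξ : N →* Ω := ψ.comp (Subgroup.inclusion hNX) with hξdef
  have hξR : ∀ x : R, ξ (Subgroup.inclusion hRN x) = ((β : MulAut R) x : Ω) :=
    fun x => hext x x.2 _
  obtain ⟨δ', hδ', hlξ⟩ := frattini_centric hS hF hd.inv hd.good hξ
  have hδδ := lev_unique hd hc hδ hδ' hlβ (hlξ.res hRN fun x => (hξR x).symm)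
  have hlξ' : Lev E δ N ξ := by
    have h1 := hlξ.mul_right hδδ
    rwa [mul_inv_cancel_left] at h1
  -- on `P`, `ξ` is conjugation by an element of `N`
  obtain ⟨g, hg, hgβ⟩ := β.2.2
  have hξP : ∀ x : N, (x : Ω) ∈ P → ξ x = g * (x : Ω) * g⁻¹ := by
    intro x hx
    rw [show x = Subgroup.inclusion hRN ⟨x, hPR hx⟩ from Subtype.ext rfl, hξR]
    exact hgβ _ hx
  have hPN : P ≤ N := H85.le_normalizerIn hPS
  have hξN : ∀ x : N, ξ x ∈ N := fun x => mem_normalizerIn_of_map hξ hPN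
    (img_eq_of_mapsTo hξ hPN fun y hy => (hξP y hy).symm ▸ H85.conj_mem_of_mem_normalizer hg.2 hy)
    x.2.2
  refine ⟨(Cfsg.conjHom N g⁻¹).comp (ξ.codRestrict N hξN), ?_, fun x => ?_, fun x hx => ?_⟩
  · have h1 : Lev E (1 * δ) N ((Cfsg.conjHom N g⁻¹).comp (ξ.codRestrict N hξN)) :=
      hlξ'.comp (lev_one.2 (E.conj_mem (H85.normalizerIn_le P) (inv_mem hg.1)))
        (hd.inv _ (inv_mem hδ)) hξN fun x => rfl
    rwa [one_mul] at h1
  · show g⁻¹ * ξ x * g⁻¹⁻¹ ∈ N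
    exact mul_mem (mul_mem (inv_mem hg) (hξN x)) (inv_mem (inv_mem hg))
  · show g⁻¹ * ξ x * g⁻¹⁻¹ = x
    rw [hξP x hx]
    group

theorem isSaturated_of_loop (hS : IsPGroup p S) (hF : F.IsSaturated p) (hd : PrimeData p F E)
    (hloop : ∀ P : Subgroup Ω, F.IsFullyNormalized P → ∀ ε ∈ F.autGroup S,
      Lev E ε P P.subtype → FixLev E F P ε) : E.IsSaturated p := by
  refine isSaturated_of_receptive hS ?_ fun P hPE => ?_
  · have hFA := H85.fullyAutomized_of_fullyNormalized hS hF (H85.fullyNormalized_top F)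
    rw [H85.isFullyAutomized_iff hS] at hFA ⊢
    exact ⟨le_rfl, fun K hK hKp hle => hFA.2 K
      (hK.trans (H85.autGroup_mono (fun P => hd.sub P) S)) hKp hle⟩
  have hP := fullyNormalized_of_sub hS hF hd.inv hd.good hPE
  refine ⟨hP.1, fun Q φ hφ hr => ?_⟩
  obtain ⟨ψ, hψ, hext⟩ :=
    (H85.receptive_of_fullyNormalized hS hF hP).2 Q φ (hd.sub Q hφ) hr
  obtain ⟨δ, hδ, hlψ⟩ := frattini_centric hS hF hd.inv hd.good hψ
  have hQS := H85.source_le hφ
  have hQX : Q ≤ extender S Q φ := H85.le_extender hQS fun x => H85.map_mem hφ x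
  let e := H85.isoOf φ hφ hr
  have hl1 : Lev E δ Q φ := hlψ.res hQX fun x => (hext x x.2 _).symm
  have hlP : Lev E (δ * 1) P P.subtype :=
    (lev_one.2 (H85.isFIso_isoOf φ hφ hr).symm).comp hl1 (hd.inv _ (by simp))
      (fun y => (e.symm y).2) fun y => (congrArg Subtype.val (e.apply_symm_apply y)).symm
  rw [mul_one] at hlP
  obtain ⟨ξ, hlξ, hξN, hξP⟩ :=
    exists_receptive_extension hS hF hd hP hδ (hloop P hP δ hδ hlP)
  have hξF := hlξ.mem hd.sub le_rfl hδ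
  have hPN : P ≤ normalizerIn S P := H85.le_normalizerIn hP.1
  have : Finite (normalizerIn S P) := H85.finite_of_le (H85.normalizerIn_le P)
  have hξr : ξ.range = normalizerIn S P :=
    range_eq_self_of_le F hξF (by rintro _ ⟨x, rfl⟩; exact hξN x)
  let f := H85.isoOf ξ hξF hξr
  have hlf : Lev E δ⁻¹ (normalizerIn S P)
      ((normalizerIn S P).subtype.comp f.symm.toMonoidHom) :=
    hlξ.inv (hd.inv _ hδ) fun y =>
      ⟨f.symm y, congrArg Subtype.val (f.apply_symm_apply y), rfl⟩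
  have himg : H85.img ψ Q = P := by
    rw [← hr]
    ext y
    rw [H85.mem_img]
    exact ⟨fun ⟨x, hx, he⟩ => ⟨⟨x, hx⟩, (hext x hx x.2).symm.trans he⟩,
      fun ⟨x, he⟩ => ⟨⟨x, hQX x.2⟩, x.2, (hext x x.2 _).trans he⟩⟩
  have hψN : ∀ x, ψ x ∈ normalizerIn S P := fun x =>
    mem_normalizerIn_of_map hψ hQX himg (H85.extender_le_normalizerIn _ _ x.2).2
  have h1 : Lev E (δ⁻¹ * δ) (extender S Q φ)
      (((normalizerIn S P).subtype.comp f.symm.toMonoidHom).comp (ψ.codRestrict _ hψN)) :=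
    hlψ.comp hlf (hd.inv _ (inv_mem hδ)) hψN fun _ => rfl
  rw [inv_mul_cancel] at h1
  refine ⟨_, lev_one.1 h1, fun x hx hX => ?_⟩
  show ((f.symm ⟨ψ ⟨x, hX⟩, hψN _⟩ : normalizerIn S P) : Ω) = φ ⟨x, hx⟩
  have h2 : φ ⟨x, hx⟩ ∈ P := hr.le ⟨_, rfl⟩
  have h3 : f ⟨φ ⟨x, hx⟩, hPN h2⟩ = ⟨ψ ⟨x, hX⟩, hψN _⟩ :=
    Subtype.ext ((hξP _ h2).trans (hext x hx hX).symm)
  rw [← h3, MulEquiv.symm_apply_apply]

theorem primeData_minSysCl : PrimeData p F (minSysCl p F) where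
  sub := residual_sub F _
  inv δ hδ := normAut_minSysCl (normAut_self F hδ) (normAut_self F (inv_mem hδ))
  good := goodC_residual fun _ h => h.1
  cl := goodCl_minSysCl

theorem isSaturated_minSysCl (hS : IsPGroup p S) (hF : F.IsSaturated p) :
    (minSysCl p F).IsSaturated p :=
  isSaturated_of_loop hS hF primeData_minSysCl fun _ hP _ hε hl =>
    fixLev_of_loop hS hF primeData_minSysCl
      (fun _ _ hC hCl => residual_le F ⟨hC, hCl⟩) hP hε hl

end H86
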