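import Cfsg.Agent.H86.ProductIface
import Cfsg.Agent.H86.SE.Main

/-! Existence of the product of `S` with a normal subsystem. -/

set_option autoImplicit false

open Cfsg Cfsg.FusionSystem

namespace H86

universe u

/-- The product of `S` with `E`, as an instance of the interface. -/
theorem isProductOn_prodSys {Ω : Type u} [Group Ω] {S T : Subgroup Ω} [Finite S] {p : ℕ}
    [Fact p.Prime] {F : FusionSystem S} {E : FusionSystem T} (d : SE.Data p F E) :
    IsProductOn E F p (SE.prodSys d) where
  saturated := SE.isSaturated_prodSys d
  subsystem := SE.prodSys_sub d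
  hyp_le := SE.hyp_le d
  le := SE.subE_prodSys d
  coprime_mem P hP a ha _ := (H85.mem_autGroup (hP.trans d.le_base)).2
    (SE.subE_prodSys d P ((H85.mem_autGroup hP).1 ha))
  frattini P hP φ hφ := SE.frattini_naive d hP (SE.prodSys_le_naive d P hφ)

/-- Products exist for every normal subsystem of every saturated system on a finite `p`-group. -/
theorem hasProducts (p : ℕ) [Fact p.Prime] : HasProducts.{u} p := by
  intro Ω _ S T _ F E hS hE
  exact ⟨_, isProductOn_prodSys ⟨hS, hE⟩⟩

end H86
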