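import Cfsg.Agent.H75.StellmacherFunctor
import Cfsg.Agent.H89.CompBasic

/-!
Saturated 2-systems with no section `Sym(3)` in an automorphism group: they have no section
`Sym(4)`, and are constrained once Stellmacher's subgroup exists.
-/
set_option autoImplicit false
set_option linter.style.haveILetI false

namespace H86

open Cfsg Cfsg.FusionSystem

universe u

theorem permThree_eq_one_of_conj : ∀ y : Equiv.Perm (Fin 3),
    (∀ z : Equiv.Perm (Fin 3), (y * (z * y * z⁻¹)) ^ 2 = 1 ∧ y ^ 2 = 1) → y = 1 := by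
  decide +kernel

/-- The symmetric group of degree 3 has no nontrivial normal 2-subgroup. -/
theorem permThree_normal_two {N : Subgroup (Equiv.Perm (Fin 3))} (hn : N.Normal)
    (h2 : IsPGroup 2 N) : N = ⊥ := by
  have hsq : ∀ y ∈ N, y ^ 2 = 1 := by
    intro y hy
    obtain ⟨k, hk⟩ := h2 ⟨y, hy⟩
    have h1 : orderOf y ∣ 2 ^ k := orderOf_dvd_of_pow_eq_one (congrArg Subtype.val hk)
    have h6 : orderOf y ∣ 6 := by
      have := orderOf_dvd_natCard (G := Equiv.Perm (Fin 3)) y
      rwa [Nat.card_perm, Nat.card_fin] at this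
    obtain ⟨i, -, hi⟩ := (Nat.dvd_prime_pow Nat.prime_two).1 h1
    refine orderOf_dvd_iff_pow_eq_one.1 ?_
    rw [hi] at h6 ⊢
    rcases i with _ | _ | i
    · exact one_dvd _
    · exact dvd_rfl
    · exact absurd ((Dvd.intro _ (by ring : 4 * 2 ^ i = 2 ^ (i + 1 + 1))).trans h6) (by decide)
  exact (Subgroup.eq_bot_iff_forall _).2 fun y hy => permThree_eq_one_of_conj y fun z =>
    ⟨hsq _ (N.mul_mem hy (hn.conj_mem y hy z)), hsq y hy⟩

/-- The class of the pair partition of four letters that pairs `0` with `j + 1`. -/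
def pairClass (a b : Fin 4) : Fin 3 :=
  match (a : ℕ) ^^^ (b : ℕ) with
  | 1 => 0
  | 2 => 1
  | _ => 2

/-- The action on the pair partitions of four letters. -/
def pairAct (σ : Equiv.Perm (Fin 4)) (j : Fin 3) : Fin 3 := pairClass (σ 0) (σ j.succ)

theorem pairAct_mul : ∀ (σ τ : Equiv.Perm (Fin 4)) (j : Fin 3),
    pairAct (σ * τ) j = pairAct σ (pairAct τ j) := by decide +kernel

/-- The action on the pair partitions, as a homomorphism. -/
def pairHom : Equiv.Perm (Fin 4) →* Equiv.Perm (Fin 3) where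
  toFun σ :=
    { toFun := pairAct σ
      invFun := pairAct σ⁻¹
      left_inv := fun j => by rw [← pairAct_mul, inv_mul_cancel]; revert j; decide +kernel
      right_inv := fun j => by rw [← pairAct_mul, mul_inv_cancel]; revert j; decide +kernel }
  map_one' := Equiv.ext (by decide +kernel)
  map_mul' σ τ := Equiv.ext (pairAct_mul σ τ)

theorem pairHom_surjective : Function.Surjective pairHom := by
  have h : ∀ τ : Equiv.Perm (Fin 3), ∃ σ : Equiv.Perm (Fin 4), ∀ j, pairAct σ j = τ j := by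
    decide +kernel
  exact fun τ => (h τ).imp fun σ hσ => Equiv.ext hσ

theorem involves_permThree_of_permFour {G : Type*} [Group G]
    (h : Cfsg.Involves (Equiv.Perm (Fin 4)) G) : Cfsg.Involves (Equiv.Perm (Fin 3)) G := by
  obtain ⟨K, f, hf⟩ := H87.involves_iff_exists_surjective.1 h
  exact H87.involves_iff_exists_surjective.2 ⟨K, pairHom.comp f, pairHom_surjective.comp hf⟩

/-- A section `Sym(3)` survives a 2-group kernel. -/
theorem involves_permThree_map {G : Type*} [Group G] {M : Type*} [Group M] (ρ : G →* M)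
    {A : Subgroup M} (hA : ∀ g, ρ g ∈ A) (hker : IsPGroup 2 ρ.ker)
    (h : Cfsg.Involves (Equiv.Perm (Fin 3)) G) : Cfsg.Involves (Equiv.Perm (Fin 3)) A := by
  obtain ⟨K, f, hf⟩ := H87.involves_iff_exists_surjective.1 h
  set ρK : K →* A := (ρ.comp K.subtype).codRestrict A (fun k => hA k) with hρK
  have hN : ρK.ker.map f = ⊥ := by
    refine permThree_normal_two ((inferInstance : ρK.ker.Normal).map f hf) (IsPGroup.map ?_ f)
    rintro ⟨x, hx⟩
    obtain ⟨k, hk⟩ := hker ⟨(x : G), congrArg Subtype.val hx⟩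
    refine ⟨k, Subtype.ext (Subtype.ext ?_)⟩
    have h1 := congrArg Subtype.val hk
    simpa using h1
  have hle : ρK.ker ≤ f.ker := fun x hx => Subgroup.mem_bot.1 (hN.le ⟨x, hx, rfl⟩)
  refine H87.involves_iff_exists_surjective.2 ⟨ρK.range,
    MonoidHom.liftOfSurjective ρK.rangeRestrict ρK.rangeRestrict_surjective
      ⟨f, by rwa [MonoidHom.ker_rangeRestrict]⟩, fun z => ?_⟩
  obtain ⟨x, rfl⟩ := hf z
  exact ⟨ρK.rangeRestrict x, MonoidHom.liftOfRightInverse_comp_apply _ _ _ _ x⟩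

variable {Ω : Type u} [Group Ω] {S : Subgroup Ω} [Finite S]

/-- No section `Sym(3)` in the automorphism groups gives no section `Sym(4)` in the local models. -/
theorem sectionFree_of_autGroup (hS : IsPGroup 2 S) {F : FusionSystem S} (hF : F.IsSaturated 2)
    (h3 : ∀ U : Subgroup Ω, U ≤ S → ¬ Cfsg.Involves (Equiv.Perm (Fin 3)) ↥(F.autGroup U)) :
    F.IsSectionFree 2 (Equiv.Perm (Fin 4)) := by
  haveI : Fact (Nat.Prime 2) := ⟨Nat.prime_two⟩
  intro Q hQn hQc N hN L _ ι hL hinv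
  obtain ⟨-, hNn, hNc⟩ := normalizerSystem_constrained hS hF hQn hQc hN
  haveI := H85.finite_of_le (H85.normalizerIn_le (S := S) Q)
  have hQN : Q ≤ normalizerIn S Q := H85.le_normalizerIn hQn.1
  haveI := H85.model_rimg_normal hL hNn
  let e := H85.rimgIso ι hL.2.1.1 Q hQN
  let ρ : L →* MulAut Q := (MulAut.congr e.symm).toMonoidHom.comp MulAut.conjNormal
  have hρ : ∀ g (x : Q), (e (ρ g x) : L) = g * e x * g⁻¹ := fun g x => by
    simp [ρ, MulAut.conjNormal_apply]
  refine h3 Q hQn.1 (involves_permThree_map ρ (A := F.autGroup Q) (fun g => ?_) ?_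
    (involves_permThree_of_permFour hinv))
  · refine (H85.mem_autGroup hQn.1).2 ?_
    have h1 : Q.subtype.comp (ρ g).toMonoidHom ∈ N.Hom Q := by
      refine (hL.2.1.2 Q hQN _ fun x => hQN (ρ g x).2).2 ⟨g, fun x => ?_⟩
      exact hρ g x
    exact ((hN Q).le h1).1
  · have hp := hS.to_le (H85.normalizerIn_le (S := S) Q)
    refine ((hp.to_subgroup (Q.subgroupOf _)).map ι).to_le ?_
    intro g hg
    refine H85.model_centralizer_le (hS.to_le (H85.normalizerIn_le Q)) hL hNn hNc ?_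
    refine Subgroup.mem_centralizer_iff.2 fun y hy => ?_
    have h2 := hρ g (e.symm ⟨y, hy⟩)
    rw [MonoidHom.mem_ker.1 hg, MulAut.one_apply, MulEquiv.apply_symm_apply] at h2
    have h3 : y * g = g * y * g⁻¹ * g := congrArg (· * g) h2
    rwa [inv_mul_cancel_right] at h3

/-- A saturated 2-system with no section `Sym(3)` in an automorphism group is constrained, given
Stellmacher's subgroup. -/
theorem isConstrained_of_s3Free (hW : H75.Stell.HasGood.{u}) (hS : IsPGroup 2 S)
    {F : FusionSystem S} (hF : F.IsSaturated 2)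
    (h3 : ∀ U : Subgroup Ω, U ≤ S → ¬ Cfsg.Involves (Equiv.Perm (Fin 3)) ↥(F.autGroup U)) :
    F.IsConstrained 2 := by
  haveI : Fact (Nat.Prime 2) := ⟨Nat.prime_two⟩
  have hQ := H89.core_isNormal F
  set Q := F.core with hQdef
  refine H89.isConstrained_of_normal hF hQ ?_
  by_contra hcon
  set C := centralizerIn S Q with hCdef
  have hCS : C ≤ S := inf_le_left
  haveI : Finite C := H85.finite_of_le hCS
  have hCp : IsPGroup 2 C := hS.to_le hCS
  have hDn := H87.isNormalIn_centralizerSystem hS hF hQ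
  set D := H85.centralizerSystem F Q hQ.1 with hDdef
  have hDsat : D.IsSaturated 2 := hDn.1.1
  set Z := C ⊓ Q with hZdef
  have hZC : Z ≤ C := inf_le_left
  -- `Z` is normal in `D`, and fixed by every map
  have hfix : ∀ (P : Subgroup Ω) (φ : P →* Ω), φ ∈ D.Hom P →
      ∃ ψ ∈ D.Hom (P ⊔ Z), (∀ x : P, ψ (Subgroup.inclusion le_sup_left x) = φ x) ∧
        ∀ z : Z, ψ (Subgroup.inclusion le_sup_right z) = z := by
    intro P φ hφ
    obtain ⟨-, hPC, hφC, ψ, hψ, hext, hq⟩ := id hφ
    have hle : P ⊔ Z ≤ P ⊔ Q := sup_le_sup_left inf_le_right P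
    have hZv : ∀ z : Z, ψ (Subgroup.inclusion hle (Subgroup.inclusion le_sup_right z)) = z :=
      fun z => hq ⟨z, z.2.2⟩
    have hle' : (P ⊔ Z) ⊔ Q ≤ P ⊔ Q := sup_le hle le_sup_right
    refine ⟨ψ.comp (Subgroup.inclusion hle), ⟨H85.restrict hψ hle, sup_le hPC hZC, ?_,
      ψ.comp (Subgroup.inclusion hle'), H85.restrict hψ hle', fun x => rfl, fun q => hq q⟩,
      fun x => hext x, hZv⟩
    exact H87.mapsTo_sup (fun x => (hext x).symm ▸ hφC x) fun z => by
      show ψ (Subgroup.inclusion hle (Subgroup.inclusion le_sup_right z)) ∈ C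
      rw [hZv]; exact hZC z.2
  have hZn : D.IsNormal Z := by
    refine ⟨hZC, fun P φ hφ => ?_⟩
    obtain ⟨ψ, hψ, hext, hz⟩ := hfix P φ hφ
    refine ⟨ψ, hψ, hext, le_antisymm ?_ fun z hz' => ?_⟩
    · rintro _ ⟨⟨z, hz'⟩, hzm, rfl⟩
      exact (hz ⟨z, hzm⟩).symm ▸ hzm
    · exact ⟨Subgroup.inclusion le_sup_right ⟨z, hz'⟩, hz', hz ⟨z, hz'⟩⟩
  have hall : ∀ P, D.Hom P ⊆ H87.innerOnHom D Z P := fun P φ hφ => by
    obtain ⟨ψ, hψ, hext, hz⟩ := hfix P φ hφ
    exact ⟨hφ, ψ, hψ, hext, 1, C.one_mem, fun z => by simpa using hz z⟩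
  have hDfree : D.IsSectionFree 2 (Equiv.Perm (Fin 4)) :=
    sectionFree_of_autGroup hCp hDsat fun U hU hinv => by
      have hle : D.autGroup U ≤ F.autGroup U := fun a ha =>
        (H85.mem_autGroup (hU.trans hCS)).2 ((H85.mem_autGroup hU).1 ha).1
      exact h3 U (hU.trans hCS)
        (H87.involves_of_injective _ (Subgroup.inclusion_injective hle) hinv)
  have hZsc := H85.stronglyClosed_of_isNormal hZn
  haveI hn : (Z.subgroupOf C).Normal := ⟨fun x hx g =>
    H85.conj_mem_of_mem_normalizer (P := Z) (H85.stronglyClosed_normalizer hZsc g.2) hx⟩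
  obtain ⟨E, hE⟩ := Cfsg.Agent.S5132.result 2 hCp D Z hZsc
  have hsm := Cfsg.Agent.S5134.result 2 hCp D hDsat Z hZsc _ E hE
  have hEfree := H87.sectionFree_factor hCp hDsat hZn hE hDfree
  have hker : ∀ s : C, QuotientGroup.mk' (Z.subgroupOf C) s = 1 ↔ (s : Ω) ∈ Z := fun s => by
    rw [QuotientGroup.mk'_apply, QuotientGroup.eq_one_iff]
    rfl
  have hsur := QuotientGroup.mk'_surjective (Z.subgroupOf C)
  have hC' : IsPGroup 2 (⊤ : Subgroup (C ⧸ Z.subgroupOf C)) :=
    (hCp.to_quotient _).of_equiv Subgroup.topEquiv.symm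
  haveI : Finite (⊤ : Subgroup (C ⧸ Z.subgroupOf C)) := Subtype.finite
  have htop : (⊤ : Subgroup (C ⧸ Z.subgroupOf C)) ≠ ⊥ := fun h =>
    hcon fun x hx => ((hker ⟨x, hx⟩).1 (Subgroup.mem_bot.1 (h.le (Subgroup.mem_top _)))).2
  have hK' := H75.Stell.isNormal_goodW hW (H := Equiv.Perm (Fin 4)) (fun _ _ h => h) hC'
    (H86.isSaturated_image hCp hDsat hsm) hEfree
  have hne : Subgroup.map (⊤ : Subgroup (C ⧸ Z.subgroupOf C)).subtype
      (H75.Stell.goodW ↥(⊤ : Subgroup (C ⧸ Z.subgroupOf C))) ≠ ⊥ := by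
    rw [Ne, Subgroup.map_eq_bot_iff_of_injective _ Subtype.coe_injective]
    exact H75.Stell.goodW_ne_bot hW _ hC' ((Subgroup.nontrivial_iff_ne_bot _).2 htop)
  have hpre := H87.isNormal_preimage hCp hDsat hZn hall hsm hker hsur hK'
  refine (H87.lt_preimageAlong hZC hker hsur hne).not_ge (le_inf ?_ ?_)
  · exact hpre.1
  · exact (H87.le_core hpre).trans (H87.le_core (H89.core_normal_of_weaklyNormal hS hDn.1))

end H86
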