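import Cfsg.Agent.H86.Quotient
import Cfsg.Agent.H86.Invariant

/-! Fusion systems over a direct product of two strongly closed subgroups. -/

set_option autoImplicit false

open Cfsg Cfsg.FusionSystem

namespace H86

variable {Ω : Type*} [Group Ω] {S : Subgroup Ω}

theorem img_sup {P A B : Subgroup Ω} (ψ : P →* Ω) (hA : A ≤ P) (hB : B ≤ P) :
    H85.img ψ (A ⊔ B) = H85.img ψ A ⊔ H85.img ψ B := by
  rw [H85.img, Subgroup.subgroupOf_sup hA hB, Subgroup.map_sup]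
  rfl

theorem img_stronglyClosed [Finite S] {F : FusionSystem S} {T P : Subgroup Ω}
    (hT : F.StronglyClosed T) (hTP : T ≤ P) {ψ : P →* Ω} (hψ : ψ ∈ F.Hom P) :
    H85.img ψ T = T := by
  refine le_antisymm ?_ ?_
  · intro y hy
    obtain ⟨x, hx, rfl⟩ := H85.mem_img.1 hy
    exact map_mem_of_stronglyClosed hT hψ hx
  · intro y hy
    obtain ⟨x, hx, hxy⟩ := exists_preimage_of_stronglyClosed hT hTP hψ hy
    exact H85.mem_img.2 ⟨x, hx, hxy⟩

/-- A map with source in `T₁` extends to the product with a commuting strongly closed `T₂`. -/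
theorem extend_sup [Finite S] {p : ℕ} [Fact p.Prime] (hS : IsPGroup p S) {F : FusionSystem S}
    (hF : F.IsSaturated p) {T₁ T₂ : Subgroup Ω} (h₁ : F.StronglyClosed T₁)
    (h₂ : F.StronglyClosed T₂) (hcomm : ∀ a ∈ T₁, ∀ b ∈ T₂, a * b = b * a)
    {Q : Subgroup Ω} (hQ : Q ≤ T₁) {φ : Q →* Ω} (hφ : φ ∈ F.Hom Q) :
    ∃ ψ ∈ F.Hom (Q ⊔ T₂), ∀ x : Q, ψ (Subgroup.inclusion le_sup_left x) = φ x := by
  obtain ⟨U, hQU, hU⟩ := H85.exists_fullyNormalized F (hQ.trans h₁.1)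
  have hUT : U ≤ T₁ := by
    obtain ⟨χ, hχ, rfl⟩ := hQU
    rintro _ ⟨x, rfl⟩
    exact h₁.2 Q hQ χ hχ x
  have hC : ∀ V : Subgroup Ω, V ≤ T₁ → T₂ ≤ centralizerIn S V := fun V hV b hb =>
    H85.mem_centralizerIn.2 ⟨h₂.1 hb, fun v hv => hcomm v (hV hv) b hb⟩
  have hgood : ∀ V : Subgroup Ω, V ≤ T₁ → F.IsConj V U →
      ∃ a : ↥(V ⊔ T₂) ≃* ↥(U ⊔ T₂), H85.IsFIso F a ∧ ∃ a₀ : V ≃* U, H85.IsFIso F a₀ ∧
        ∀ x : V, ((a (Subgroup.inclusion le_sup_left x)) : Ω) = (a₀ x : Ω) := by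
    intro V hV hVU
    obtain ⟨ψ, hψ, -, himg⟩ := H85.exists_map_to_fullyNormalized hS hF hU hVU
    have hVN : V ≤ normalizerIn S V := H85.le_normalizerIn (hV.trans h₁.1)
    have hTN : T₂ ≤ normalizerIn S V := (hC V hV).trans (H85.centralizerIn_le_normalizerIn V)
    have hr : H85.img ψ (V ⊔ T₂) = U ⊔ T₂ := by
      rw [img_sup ψ hVN hTN, himg, img_stronglyClosed h₂ hTN hψ]
    refine ⟨(H85.resIso ψ (F.injective_of_mem hψ) (sup_le hVN hTN)).trans
      (MulEquiv.subgroupCongr hr), H85.hom_congr (H85.restrict hψ (sup_le hVN hTN)) (fun _ => rfl),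
      (H85.resIso ψ (F.injective_of_mem hψ) hVN).trans (MulEquiv.subgroupCongr himg),
      H85.hom_congr (H85.restrict hψ hVN) (fun _ => rfl), fun x => rfl⟩
  let e : Q ≃* φ.range := H85.isoOf φ hφ rfl
  have he : H85.IsFIso F e := H85.isFIso_isoOf φ hφ rfl
  have hrT : φ.range ≤ T₁ := by
    rintro _ ⟨x, rfl⟩
    exact h₁.2 Q hQ φ hφ x
  obtain ⟨a, ha, a₀, ha₀, haa⟩ := hgood Q hQ hQU
  obtain ⟨b, hb, b₀, hb₀, hbb⟩ :=
    hgood φ.range hrT (H85.isConj_trans (H85.isConj_symm he.isConj) hQU)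
  have hα : H85.IsFIso F (a₀.symm.trans (e.trans b₀)) := ha₀.symm.trans (he.trans hb₀)
  obtain ⟨χ, hχ, hext⟩ :=
    H85.receptive_extend (H85.receptive_of_fullyNormalized hS hF hU) hα
  have hUX : U ⊔ T₂ ≤ extender S U (U.subtype.comp (a₀.symm.trans (e.trans b₀)).toMonoidHom) :=
    sup_le (H85.le_extender hU.1 fun x => H85.map_mem hα x)
      ((hC U hUT).trans (H85.centralizerIn_le_extender _ _))
  have hχ' := H85.restrict hχ hUX
  have hval : ∀ x, (χ.comp (Subgroup.inclusion hUX)) x ∈ U ⊔ T₂ := by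
    intro x
    have h := H85.apply_mem_img (φ := χ.comp (Subgroup.inclusion hUX)) (x := x) x.2
    rw [img_sup _ le_sup_left le_sup_right, img_stronglyClosed h₂ le_sup_right hχ'] at h
    refine sup_le_sup_right ?_ T₂ h
    intro y hy
    obtain ⟨z, hz, rfl⟩ := H85.mem_img.1 hy
    show χ ⟨(z : Ω), hUX z.2⟩ ∈ U
    rw [hext _ hz]
    exact SetLike.coe_mem _
  have h1 := F.comp_mem (F.comp_mem ha hχ' (fun x => (a x).2)) hb.symm (fun x => hval _)
  refine ⟨_, h1, fun x => ?_⟩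
  show ((b.symm ⟨χ ⟨((a (Subgroup.inclusion le_sup_left x)) : Ω), _⟩, _⟩ : ↥(φ.range ⊔ T₂)) : Ω)
    = φ x
  have h2 : χ ⟨((a (Subgroup.inclusion le_sup_left x)) : Ω), hUX (a _).2⟩ =
      ((b₀ (e x) : U) : Ω) := by
    rw [hext _ (haa x ▸ (a₀ x).2)]
    have hz : (⟨((a (Subgroup.inclusion le_sup_left x)) : Ω), haa x ▸ (a₀ x).2⟩ : U) = a₀ x :=
      Subtype.ext (haa x)
    rw [hz]
    show ((b₀ (e (a₀.symm (a₀ x))) : U) : Ω) = _
    rw [a₀.symm_apply_apply]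
  have h3 : b.symm ⟨χ ⟨((a (Subgroup.inclusion le_sup_left x)) : Ω), hUX (a _).2⟩,
      hval (a (Subgroup.inclusion le_sup_left x))⟩ = Subgroup.inclusion le_sup_left (e x) := by
    rw [MulEquiv.symm_apply_eq]
    apply Subtype.ext
    exact h2.trans (hbb (e x)).symm
  exact congrArg Subtype.val h3

section Main

variable [Finite S] {p : ℕ} [Fact p.Prime] {F : FusionSystem S} {S₁ S₂ : Subgroup Ω}

theorem mem_centralizerHom {P : Subgroup Ω} {φ : P →* Ω} {Q : Subgroup Ω} :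
    φ ∈ F.centralizerHom Q P ↔ φ ∈ F.Hom P ∧ P ≤ centralizerIn S Q ∧
      (∀ x : P, φ x ∈ centralizerIn S Q) ∧ ∃ ψ ∈ F.Hom (P ⊔ Q),
        (∀ x : P, ψ (Subgroup.inclusion le_sup_left x) = φ x) ∧
        ∀ x : Q, ψ (Subgroup.inclusion le_sup_right x) = x := Iff.rfl

variable (hS : IsPGroup p S) (hF : F.IsSaturated p)
  (hprod : IsInternalDirectProduct S₁ S₂ S) (h₁ : F.StronglyClosed S₁) (h₂ : F.StronglyClosed S₂)

include hprod in
theorem split_mem {s : Ω} (hs : s ∈ S) : ∃ a ∈ S₁, ∃ b ∈ S₂, a * b = s := by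
  rw [← hprod.2.2.2.2, ← SetLike.mem_coe, Subgroup.coe_mul_of_left_le_normalizer_right S₁ S₂
    (fun a ha => Subgroup.mem_normalizer_iff.2 fun x => by
      constructor
      · intro hx
        rwa [hprod.2.2.1 a ha x hx, mul_inv_cancel_right]
      · intro hx
        have h := hprod.2.2.1 a⁻¹ (inv_mem ha) _ hx
        have h' : x = a⁻¹ * (a * x * a⁻¹) * a := by group
        rw [h', h, mul_assoc, inv_mul_cancel, mul_one]
        exact hx)] at hs
  exact hs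

include hprod in
theorem le_centralizer_two {P : Subgroup Ω} (hP : P ≤ S₁) : P ≤ centralizerIn S S₂ :=
  fun x hx => H85.mem_centralizerIn.2
    ⟨hprod.1 (hP hx), fun b hb => (hprod.2.2.1 x (hP hx) b hb).symm⟩

include hprod in
theorem eq_of_mem_both {x : Ω} (hx : x ∈ S₁) (hy : x ∈ S₂) : x = 1 := by
  rw [← Subgroup.mem_bot, ← hprod.2.2.2.1]
  exact ⟨hx, hy⟩

include hprod in
theorem conj_eq_of_split {a b x : Ω} (hb : b ∈ S₂) (hx : x ∈ S₁) :
    a * b * x * (a * b)⁻¹ = a * x * a⁻¹ := by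
  have h : b * x * b⁻¹ = x := by rw [← hprod.2.2.1 x hx b hb, mul_inv_cancel_right]
  calc a * b * x * (a * b)⁻¹ = a * (b * x * b⁻¹) * a⁻¹ := by group
    _ = _ := by rw [h]

variable {R R' : FusionSystem S₁} (hR : ∀ P : Subgroup Ω, P ≤ S₁ → R.Hom P = F.Hom P)
  (hR' : ∀ P : Subgroup Ω, P ≤ S₁ → R'.Hom P = F.centralizerHom S₂ P)

include hR in
theorem full_mem {P : Subgroup Ω} {φ : P →* Ω} :
    φ ∈ R.Hom P ↔ P ≤ S₁ ∧ φ ∈ F.Hom P :=
  ⟨fun h => ⟨(R.le_of_mem h).1, hR P (R.le_of_mem h).1 ▸ h⟩,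
    fun h => (hR P h.1).symm ▸ h.2⟩

include hR' in
theorem fix_mem {P : Subgroup Ω} {φ : P →* Ω} :
    φ ∈ R'.Hom P ↔ P ≤ S₁ ∧ φ ∈ F.centralizerHom S₂ P :=
  ⟨fun h => ⟨(R'.le_of_mem h).1, hR' P (R'.le_of_mem h).1 ▸ h⟩,
    fun h => (hR' P h.1).symm ▸ h.2⟩

include hS hF hprod h₁ hR in
theorem full_saturated : R.IsSaturated p := by
  intro P hP
  obtain ⟨U, hPU, hU⟩ := H85.exists_fullyNormalized F (hP.trans h₁.1)
  obtain ⟨φ, hφ, hφr⟩ := hPU
  have hUT : U ≤ S₁ := hφr ▸ fun y ⟨x, hx⟩ => hx ▸ h₁.2 P hP φ hφ x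
  obtain ⟨⟨hUS, T, hT⟩, hrec⟩ := H85.automized_receptive_of_fullyNormalized hS hF hU
  have haut : R.autGroup U = F.autGroup U := by
    ext a
    rw [H85.mem_autGroup hUT, H85.mem_autGroup hUS]
    exact (full_mem hR).trans ⟨fun h => h.2, fun h => ⟨hUT, h⟩⟩
  have hind : autInducedBy S₁ U = autInducedBy S U := by
    refine le_antisymm (Subgroup.closure_mono fun a ⟨g, hg, h⟩ => ⟨g, hprod.1 hg, h⟩) ?_
    intro a ha
    obtain ⟨g, hg, hga⟩ := H85.mem_autInducedBy.1 ha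
    obtain ⟨x, hx, y, hy, rfl⟩ := split_mem hprod hg
    exact H85.mem_autInducedBy.2
      ⟨x, hx, fun u => (hga u).trans (conj_eq_of_split hprod hy (hUT u.2))⟩
  refine ⟨U, ⟨φ, (full_mem hR).2 ⟨hP, hφ⟩, hφr⟩, ⟨hUT, ?_⟩, hUT, fun V χ hχ hχr => ?_⟩
  · rw [haut, hind]
    exact ⟨T, hT⟩
  · obtain ⟨hV, hχF⟩ := (full_mem hR).1 hχ
    obtain ⟨ψ, hψ, hext⟩ := hrec.2 V χ hχF hχr
    have hle : extender S₁ V χ ≤ extender S V χ := by
      intro g hg
      obtain ⟨hgS, hgN, h, hh, hgh⟩ := H85.mem_extender.1 hg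
      exact H85.mem_extender.2 ⟨hprod.1 hgS, hgN, h, hprod.1 hh, hgh⟩
    exact ⟨_, (full_mem hR).2 ⟨H85.extender_le _ _, H85.restrict hψ hle⟩,
      fun x hxV hxN => hext x hxV (hle hxN)⟩

include hS hF hprod h₁ h₂ hR' in
/-- Conjugating a map fixing `S₂` by a map of the system gives a map fixing `S₂`. -/
theorem fix_strongInv : StrongInv R' F := by
  intro P Q hPQ hQ φ hφ hφQ ψ hψ
  obtain ⟨hP, hφF, -, -, φ', hφ', hext, hfix⟩ := (fix_mem hR').1 hφ
  obtain ⟨ψ', hψ', hψe⟩ := extend_sup hS hF h₁ h₂ hprod.2.2.1 hQ hψ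
  have hψQ : ∀ q, ψ q ∈ S₁ := fun q => h₁.2 Q hQ ψ hψ q
  have hPQ₂ : P ⊔ S₂ ≤ Q ⊔ S₂ := sup_le_sup_right hPQ S₂
  have hval : ∀ x, φ' x ∈ Q ⊔ S₂ := by
    intro x
    have h := H85.apply_mem_img (φ := φ') (x := x) x.2
    rw [img_sup _ le_sup_left le_sup_right] at h
    refine (sup_le_sup (?_ : H85.img φ' P ≤ Q) (?_ : H85.img φ' S₂ ≤ S₂)) h
    · intro y hy
      obtain ⟨z, hz, rfl⟩ := H85.mem_img.1 hy
      have h1 : φ' z = φ ⟨z, hz⟩ := hext ⟨z, hz⟩
      rw [h1]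
      exact hφQ _
    · intro y hy
      obtain ⟨z, hz, rfl⟩ := H85.mem_img.1 hy
      have h1 : φ' z = (z : Ω) := hfix ⟨z, hz⟩
      rw [h1]
      exact hz
  obtain ⟨inv, hinv, hinve⟩ := F.inv_mem (H85.restrict hψ' hPQ₂)
  have hinvP : ∀ y, inv y ∈ P ⊔ S₂ := by
    rintro ⟨_, x, rfl⟩
    rw [hinve]
    exact x.2
  have hcomp := F.comp_mem (F.comp_mem hinv hφ' hinvP) hψ' (fun y => hval _)
  set χ' := ψ'.comp (((φ'.comp (inv.codRestrict _ hinvP))).codRestrict _ (fun y => hval _))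
    with hχ'def
  have hχ'app : ∀ x : ↥(P ⊔ S₂), χ' ⟨ψ' (Subgroup.inclusion hPQ₂ x), ⟨x, rfl⟩⟩ =
      ψ' ⟨φ' x, hval x⟩ := by
    intro x
    show ψ' ⟨φ' ⟨inv _, _⟩, _⟩ = _
    congr 1
    refine Subtype.ext ?_
    show φ' ⟨inv _, _⟩ = φ' x
    congr 1
    exact Subtype.ext (hinve x)
  have hM : (P.subgroupOf Q).map ψ ⊔ S₂ ≤ (ψ'.comp (Subgroup.inclusion hPQ₂)).range := by
    refine sup_le ?_ ?_
    · rintro _ ⟨q, hq, rfl⟩
      exact ⟨⟨q, le_sup_left (b := S₂) hq⟩, hψe q⟩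
    · intro y hy
      obtain ⟨z, hz, hzy⟩ := exists_preimage_of_stronglyClosed h₂ le_sup_right
        (H85.restrict hψ' hPQ₂) hy
      exact ⟨z, hzy⟩
  have hχF : χ'.comp (Subgroup.inclusion hM) ∈ F.Hom _ := H85.restrict hcomp hM
  have hsrc : (P.subgroupOf Q).map ψ ≤ S₁ := by
    rintro _ ⟨q, -, rfl⟩
    exact hψQ q
  refine ⟨(χ'.comp (Subgroup.inclusion hM)).comp (Subgroup.inclusion le_sup_left),
    (fix_mem hR').2 ⟨hsrc, H85.restrict hχF le_sup_left, le_centralizer_two hprod hsrc,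
      fun y => le_centralizer_two hprod (le_refl S₁)
        (h₁.2 _ hsrc _ (H85.restrict hχF le_sup_left) y),
      _, hχF, fun y => rfl, ?_⟩, ?_⟩
  · intro z
    obtain ⟨w, hw, hwz⟩ := exists_preimage_of_stronglyClosed h₂ le_sup_right
      (H85.restrict hψ' hPQ₂) z.2
    show χ' ⟨(z : Ω), _⟩ = (z : Ω)
    have h1 : φ' w = (w : Ω) := hfix ⟨w, hw⟩
    calc χ' ⟨(z : Ω), _⟩ = χ' ⟨ψ' (Subgroup.inclusion hPQ₂ w), ⟨w, rfl⟩⟩ :=
          congrArg χ' (Subtype.ext hwz.symm)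
      _ = ψ' ⟨φ' w, hval w⟩ := hχ'app w
      _ = (z : Ω) := by
          refine Eq.trans ?_ hwz
          exact congrArg ψ' (Subtype.ext h1)
  · intro x hx
    show χ' ⟨ψ (Subgroup.inclusion hPQ x), _⟩ = ψ ⟨φ x, hφQ x⟩
    calc χ' ⟨ψ (Subgroup.inclusion hPQ x), _⟩
        = χ' ⟨ψ' (Subgroup.inclusion hPQ₂ (Subgroup.inclusion le_sup_left x)), ⟨_, rfl⟩⟩ :=
          congrArg χ' (Subtype.ext (hψe (Subgroup.inclusion hPQ x)).symm)
      _ = ψ' ⟨φ' (Subgroup.inclusion le_sup_left x), hval _⟩ := hχ'app _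
      _ = ψ' (Subgroup.inclusion le_sup_left ⟨φ x, hφQ x⟩) :=
          congrArg ψ' (Subtype.ext (hext x))
      _ = _ := hψe _

include hR' in
theorem fix_le (P : Subgroup Ω) : R'.Hom P ⊆ F.Hom P := fun _ h => ((fix_mem hR').1 h).2.1

include hS hF hprod h₁ h₂ hR' in
theorem fix_saturated : R'.IsSaturated p := by
  classical
  intro P hP
  have hPS : P ≤ S := hP.trans h₁.1
  obtain ⟨W, hPW, hW⟩ := H85.exists_fullyNormalized F (sup_le hPS h₂.1)
  obtain ⟨φ, hφ, hφr⟩ := hPW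
  -- the action on `S₂` extends to `S`
  have : Finite S₂ := H85.finite_of_le h₂.1
  have hφ₂ := H85.restrict hφ (le_sup_right : S₂ ≤ P ⊔ S₂)
  have hφ₂r : (φ.comp (Subgroup.inclusion (le_sup_right : S₂ ≤ P ⊔ S₂))).range = S₂ :=
    range_eq_self_of_le F hφ₂ (by rintro _ ⟨x, rfl⟩; exact h₂.2 S₂ le_rfl _ hφ₂ x)
  let α : MulAut S₂ := H85.isoOf _ hφ₂ hφ₂r
  have hα : H85.IsFIso F α := H85.isFIso_isoOf _ hφ₂ hφ₂r
  obtain ⟨β, hβ, hβe⟩ := H85.receptive_extend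
    (H85.receptive_of_fullyNormalized hS hF (fullyNormalized_stronglyClosed h₂)) hα
  have hX : S ≤ extender S S₂ (S₂.subtype.comp α.toMonoidHom) := by
    rw [← hprod.2.2.2.2]
    refine sup_le ?_ ?_
    · intro a ha
      have h := le_centralizer_two hprod (le_refl S₁) ha
      rw [hprod.2.2.2.2]
      exact H85.centralizerIn_le_extender _ _ h
    · rw [hprod.2.2.2.2]
      exact H85.le_extender h₂.1 fun x => H85.map_mem hα x
  have hβS := H85.restrict hβ hX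
  set β₀ := β.comp (Subgroup.inclusion hX) with hβ₀
  have hβr : β₀.range = S := range_eq_self_of_le F hβS (H85.range_le hβS)
  let b : MulAut S := H85.isoOf β₀ hβS hβr
  have hb : H85.IsFIso F b := H85.isFIso_isoOf β₀ hβS hβr
  have hbS₂ : ∀ z : S₂, ((b ⟨z, h₂.1 z.2⟩ : S) : Ω) = (α z : Ω) := fun z => hβe z z.2 _
  -- correct `φ` so that it fixes `S₂`
  have hφS := H85.map_mem hφ
  let ψ : ↥(P ⊔ S₂) →* Ω :=
    (S.subtype.comp b.symm.toMonoidHom).comp (φ.codRestrict S hφS)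
  have hψ : ψ ∈ F.Hom (P ⊔ S₂) := F.comp_mem hφ hb.symm hφS
  have hψfix : ∀ z : S₂, ψ (Subgroup.inclusion le_sup_right z) = z := by
    intro z
    show ((b.symm ⟨φ _, _⟩ : S) : Ω) = z
    have h1 : (⟨φ (Subgroup.inclusion le_sup_right z), hφS _⟩ : S) = b ⟨z, h₂.1 z.2⟩ :=
      Subtype.ext (hbS₂ z).symm
    rw [h1, b.symm_apply_apply]
  set U : Subgroup Ω := (ψ.comp (Subgroup.inclusion le_sup_left)).range with hUdef
  have hψP := H85.restrict hψ (le_sup_left : P ≤ P ⊔ S₂)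
  have hU : U ≤ S₁ := by
    rintro _ ⟨x, rfl⟩
    exact h₁.2 P hP _ hψP x
  have hψr : ψ.range = U ⊔ S₂ := by
    rw [← H85.img_self, img_sup _ le_sup_left le_sup_right,
      img_stronglyClosed h₂ le_sup_right hψ]
    congr 1
    ext y
    constructor
    · intro hy
      obtain ⟨x, hx, rfl⟩ := H85.mem_img.1 hy
      exact ⟨⟨x, hx⟩, rfl⟩
    · rintro ⟨x, rfl⟩
      exact H85.apply_mem_img x.2
  have hWbr : H85.img (S.subtype.comp b.toMonoidHom) (U ⊔ S₂) = W := by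
    rw [← hψr, ← hφr]
    ext y
    constructor
    · intro hy
      obtain ⟨x, ⟨z, hz⟩, rfl⟩ := H85.mem_img.1 hy
      refine ⟨z, ?_⟩
      show φ z = ((b x : S) : Ω)
      rw [show x = b.symm ⟨φ z, hφS z⟩ from Subtype.ext hz.symm, b.apply_symm_apply]
    · rintro ⟨z, rfl⟩
      refine H85.mem_img.2 ⟨b.symm ⟨φ z, hφS z⟩, ⟨z, rfl⟩, ?_⟩
      show ((b (b.symm _) : S) : Ω) = _
      rw [b.apply_symm_apply]
  -- `U ⊔ S₂` is fully normalized as it has the normaliser order of `W`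
  have hUS : U ⊔ S₂ ≤ S := sup_le (hU.trans h₁.1) h₂.1
  have hconj : F.IsConj (U ⊔ S₂) W :=
    hWbr ▸ H85.isConj_img (R := U ⊔ S₂) hb hUS
  have hWn : F.IsFullyNormalized (U ⊔ S₂) := by
    refine ⟨hUS, fun V hV => (hW.2 V (H85.isConj_trans (H85.isConj_symm hconj) hV)).trans ?_⟩
    have hmem : ∀ g : normalizerIn S W, ((b.symm ⟨g, g.2.1⟩ : S) : Ω) ∈ normalizerIn S (U ⊔ S₂) := by
      intro g
      have : Finite ↥(U ⊔ S₂) := H85.finite_of_le hUS
      refine ⟨SetLike.coe_mem _, H85.mem_normalizer_of_conj fun y hy => ?_⟩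
      have hbW : ((b ⟨y, hUS hy⟩ : S) : Ω) ∈ W := by
        rw [← hWbr]
        exact H85.apply_mem_img (φ := S.subtype.comp b.toMonoidHom) (x := ⟨y, hUS hy⟩) hy
      have h2 := H85.conj_mem_of_mem_normalizer g.2.2 hbW
      obtain ⟨w, hw, hwe⟩ := H85.mem_img.1 (hWbr.ge h2)
      have h3 : w = b.symm ⟨g, g.2.1⟩ * ⟨y, hUS hy⟩ * (b.symm ⟨g, g.2.1⟩)⁻¹ := by
        apply b.injective
        rw [map_mul, map_mul, map_inv, b.apply_symm_apply]
        exact Subtype.ext hwe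
      rw [h3] at hw
      exact hw
    have : Finite (normalizerIn S (U ⊔ S₂)) := H85.finite_of_le (H85.normalizerIn_le _)
    refine Nat.card_le_card_of_injective
      (fun g => (⟨_, hmem g⟩ : normalizerIn S (U ⊔ S₂))) fun g g' h => ?_
    have h' := b.symm.injective (Subtype.ext
      (congrArg (fun z : normalizerIn S (U ⊔ S₂) => (z : Ω)) h) :
      b.symm ⟨g, g.2.1⟩ = b.symm ⟨g', g'.2.1⟩)
    exact Subtype.ext (congrArg (fun z : S => (z : Ω)) h')
  obtain ⟨⟨-, T, hT⟩, hrec⟩ := H85.automized_receptive_of_fullyNormalized hS hF hWn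
  have hψF : ψ.comp (Subgroup.inclusion le_sup_left) ∈ R'.Hom P :=
    (fix_mem hR').2 ⟨hP, hψP, le_centralizer_two hprod hP,
      fun x => le_centralizer_two hprod (le_refl S₁) (h₁.2 P hP _ hψP x), ψ, hψ, fun _ => rfl, hψfix⟩
  refine ⟨U, ⟨_, hψF, rfl⟩, ?_, ?_⟩
  · -- fully automized
    let A := F.autGroup (U ⊔ S₂)
    let A₀ : Subgroup A :=
      { carrier := {a | ∀ z : S₂, (((a : MulAut ↥(U ⊔ S₂)) (Subgroup.inclusion le_sup_right z)) : Ω) = z}
        one_mem' := fun z => rfl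
        mul_mem' := fun {a a'} ha ha' z => by
          show (((a : MulAut ↥(U ⊔ S₂)) ((a' : MulAut ↥(U ⊔ S₂)) _)) : Ω) = z
          rw [show (a' : MulAut ↥(U ⊔ S₂)) (Subgroup.inclusion le_sup_right z) =
            Subgroup.inclusion le_sup_right z from Subtype.ext (ha' z)]
          exact ha z
        inv_mem' := fun {a} ha z => by
          show ((((a : MulAut ↥(U ⊔ S₂))⁻¹) (Subgroup.inclusion le_sup_right z)) : Ω) = z
          conv_lhs => rw [show Subgroup.inclusion le_sup_right z =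
            (a : MulAut ↥(U ⊔ S₂)) (Subgroup.inclusion le_sup_right z) from Subtype.ext (ha z).symm]
          rw [MulAut.inv_apply_self]
          rfl }
    have hn : A₀.Normal := by
      refine ⟨fun a ha c z => ?_⟩
      have hcF := (H85.mem_autGroup hUS).1 c⁻¹.2
      have hm : (((c⁻¹ : A) : MulAut ↥(U ⊔ S₂)) (Subgroup.inclusion le_sup_right z) : Ω) ∈ S₂ :=
        map_mem_of_stronglyClosed h₂ hcF z.2
      show (((c : MulAut ↥(U ⊔ S₂)) ((a : MulAut ↥(U ⊔ S₂))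
        ((c : MulAut ↥(U ⊔ S₂))⁻¹ (Subgroup.inclusion le_sup_right z)))) : Ω) = z
      rw [show (a : MulAut ↥(U ⊔ S₂)) ((c : MulAut ↥(U ⊔ S₂))⁻¹ (Subgroup.inclusion le_sup_right z)) =
        (c : MulAut ↥(U ⊔ S₂))⁻¹ (Subgroup.inclusion le_sup_right z) from Subtype.ext (ha ⟨_, hm⟩),
        MulAut.apply_inv_self]
      rfl
    have : Finite A := H85.finite_autGroup F hUS
    obtain ⟨T₀, hT₀⟩ := exists_sylow_inf_normal T A₀
    have : Finite U := H85.finite_of_le (hU.trans h₁.1)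
    have hmapsU : ∀ a : A, ∀ x : U,
        (((a : MulAut ↥(U ⊔ S₂)) (Subgroup.inclusion le_sup_left x)) : Ω) ∈ U := by
      intro a x
      have h1 : (((a : MulAut ↥(U ⊔ S₂)) (Subgroup.inclusion le_sup_left x)) : Ω) ∈ S₁ :=
        map_mem_of_stronglyClosed h₁ ((H85.mem_autGroup hUS).1 a.2) (hU x.2)
      obtain ⟨u, hu, z, hz, huz⟩ := mem_sup_stronglyClosed h₂ (hU.trans h₁.1)
        ((a : MulAut ↥(U ⊔ S₂)) (Subgroup.inclusion le_sup_left x)).2
      have hz1 : z = 1 := by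
        refine eq_of_mem_both hprod ?_ hz
        rw [eq_inv_mul_iff_mul_eq.2 huz]
        exact S₁.mul_mem (S₁.inv_mem (hU hu)) h1
      rw [← huz, hz1, mul_one]
      exact hu
    have hres : ∀ a : A₀, ∃ c : R'.autGroup U, ∀ x : U,
        (((c : MulAut U) x : U) : Ω) =
          (((a : A) : MulAut ↥(U ⊔ S₂)) (Subgroup.inclusion le_sup_left x) : Ω) := by
      intro a
      have haF := (H85.mem_autGroup hUS).1 (a : A).2
      have h1 := H85.restrict haF (le_sup_left : U ≤ U ⊔ S₂)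
      have h2 := range_eq_self_of_le F h1 (by rintro _ ⟨x, rfl⟩; exact hmapsU a x)
      have h3 : ((U ⊔ S₂).subtype.comp ((a : A) : MulAut ↥(U ⊔ S₂)).toMonoidHom).comp
          (Subgroup.inclusion le_sup_left) ∈ R'.Hom U := (fix_mem hR').2
        ⟨hU, h1, le_centralizer_two hprod hU,
          fun x => le_centralizer_two hprod (le_refl S₁) (hU (hmapsU a x)), _, haF,
          fun _ => rfl, a.2⟩
      exact ⟨⟨_, autOfHom_mem R' h3 h2⟩, fun x => rfl⟩
    choose rf hrf using hres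
    let Φ : A₀ →* R'.autGroup U := MonoidHom.mk' rf (fun a a' => by
      refine Subtype.ext (MulEquiv.ext fun x => Subtype.ext ?_)
      show (((rf (a * a') : MulAut U) x : U) : Ω) = (((rf a : MulAut U) ((rf a' : MulAut U) x) : U) : Ω)
      rw [hrf, hrf]
      show (((a : A) : MulAut ↥(U ⊔ S₂)) (((a' : A) : MulAut ↥(U ⊔ S₂)) _) : Ω) = _
      congr 2
      exact Subtype.ext (hrf a' x).symm)
    have hsur : Function.Surjective Φ := by
      intro c
      obtain ⟨-, -, -, -, c', hc', hce, hcf⟩ := (fix_mem hR').1 ((H85.mem_autGroup hU).1 c.2)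
      have : Finite ↥(U ⊔ S₂) := H85.finite_of_le hUS
      have hr : c'.range = U ⊔ S₂ := range_eq_self_of_le F hc' (by
        rw [← H85.img_self, img_sup _ le_sup_left le_sup_right,
          img_stronglyClosed h₂ le_sup_right hc']
        refine sup_le_sup_right ?_ _
        intro y hy
        obtain ⟨z, hz, rfl⟩ := H85.mem_img.1 hy
        have h : c' z = (((c : MulAut U) ⟨(z : Ω), hz⟩ : U) : Ω) := hce ⟨z, hz⟩
        rw [h]
        exact SetLike.coe_mem _)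
      refine ⟨⟨⟨_, autOfHom_mem F hc' hr⟩, hcf⟩,
        Subtype.ext (MulEquiv.ext fun x => Subtype.ext ?_)⟩
      show (((rf _ : MulAut U) x : U) : Ω) = _
      rw [hrf]
      exact hce x
    refine ⟨hU, T₀.mapSurjective hsur, ?_⟩
    rw [Sylow.coe_mapSurjective, hT₀]
    ext c
    constructor
    · rintro ⟨a, ha, rfl⟩
      have ha' : ((a : A) : MulAut ↥(U ⊔ S₂)) ∈ autInducedBy S (U ⊔ S₂) := hT.le ha
      obtain ⟨g, hg, hga⟩ := H85.mem_autInducedBy.1 ha'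
      obtain ⟨x, hx, y, hy, rfl⟩ := split_mem hprod hg
      refine H85.mem_autInducedBy.2 ⟨x, hx, fun u => ?_⟩
      refine (hrf a u).trans ((hga _).trans ?_)
      exact conj_eq_of_split hprod hy (hU u.2)
    · intro hc
      obtain ⟨g, hg, hgc⟩ := H85.mem_autInducedBy.1 hc
      have hfix : ∀ z ∈ S₂, g * z * g⁻¹ = z := fun z hz => by
        rw [hprod.2.2.1 g hg z hz, mul_inv_cancel_right]
      have hgN : g ∈ Subgroup.normalizer ((U ⊔ S₂ : Subgroup Ω) : Set Ω) := by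
        have : Finite ↥(U ⊔ S₂) := H85.finite_of_le hUS
        refine H85.mem_normalizer_of_conj ?_
        have : U ⊔ S₂ ≤ (U ⊔ S₂).comap (MulAut.conj g).toMonoidHom :=
          sup_le (fun u hu => Subgroup.mem_sup_left (hgc ⟨u, hu⟩ ▸ SetLike.coe_mem _ : g * u * g⁻¹ ∈ U))
            (fun z hz => Subgroup.mem_sup_right ((hfix z hz).symm ▸ hz : g * z * g⁻¹ ∈ S₂))
        exact fun y hy => this hy
      have hi : H85.conjAut S (U ⊔ S₂) ⟨g, hprod.1 hg, hgN⟩ ∈ autInducedBy S (U ⊔ S₂) :=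
        H85.mem_autInducedBy.2 ⟨g, hprod.1 hg, fun _ => rfl⟩
      refine ⟨⟨⟨_, H85.autInducedBy_le_autGroup F hUS hi⟩, fun z => hfix z z.2⟩, hT.ge hi,
        Subtype.ext (MulEquiv.ext fun x => Subtype.ext ?_)⟩
      show (((rf _ : MulAut U) x : U) : Ω) = _
      rw [hrf]
      exact (hgc x).symm
  · -- receptive
    refine ⟨hU, fun V χ hχ hχr => ?_⟩
    obtain ⟨hV, hχF, -, -, χ', hχ', hχe, hχf⟩ := (fix_mem hR').1 hχ
    have hr : χ'.range = U ⊔ S₂ := by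
      rw [← H85.img_self, img_sup _ le_sup_left le_sup_right,
        img_stronglyClosed h₂ le_sup_right hχ']
      congr 1
      ext y
      constructor
      · intro hy
        obtain ⟨z, hz, rfl⟩ := H85.mem_img.1 hy
        rw [← hχr]
        exact ⟨⟨z, hz⟩, (hχe ⟨z, hz⟩).symm⟩
      · intro hy
        rw [← hχr] at hy
        obtain ⟨z, rfl⟩ := hy
        rw [← hχe z]
        exact H85.apply_mem_img z.2
    obtain ⟨ξ, hξ, hξe⟩ := hrec.2 _ χ' hχ' hr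
    set N := extender S₁ V χ with hN
    have hVS : V ⊔ S₂ ≤ S := sup_le (hV.trans h₁.1) h₂.1
    have hsrc : V ⊔ S₂ ≤ extender S (V ⊔ S₂) χ' := H85.le_extender hVS (H85.map_mem hχ')
    have hNle : N ≤ extender S (V ⊔ S₂) χ' := by
      intro g hg
      obtain ⟨hgS, hgN, h, hh, hgh⟩ := H85.mem_extender.1 hg
      have hgf : ∀ z ∈ S₂, g * z * g⁻¹ = z := fun z hz => by
        rw [hprod.2.2.1 g hgS z hz, mul_inv_cancel_right]
      refine H85.mem_extender.2 ⟨hprod.1 hgS, ?_, h, hprod.1 hh, fun x hx => ?_⟩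
      · have : Finite ↥(V ⊔ S₂) := H85.finite_of_le hVS
        refine H85.mem_normalizer_of_conj ?_
        have : V ⊔ S₂ ≤ (V ⊔ S₂).comap (MulAut.conj g).toMonoidHom :=
          sup_le (fun u hu => Subgroup.mem_sup_left (H85.conj_mem_of_mem_normalizer hgN hu : g * u * g⁻¹ ∈ V))
            (fun z hz => Subgroup.mem_sup_right ((hgf z hz).symm ▸ hz : g * z * g⁻¹ ∈ S₂))
        exact fun y hy => this hy
      · obtain ⟨v, hv, z, hz, hvz⟩ := mem_sup_stronglyClosed h₂ (hV.trans h₁.1) x.2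
        have hgv := H85.conj_mem_of_mem_normalizer hgN hv
        have e1 : x = Subgroup.inclusion le_sup_left ⟨v, hv⟩ *
            Subgroup.inclusion le_sup_right ⟨z, hz⟩ := Subtype.ext hvz.symm
        have e2 : (⟨g * x * g⁻¹, hx⟩ : ↥(V ⊔ S₂)) = Subgroup.inclusion le_sup_left ⟨_, hgv⟩ *
            Subgroup.inclusion le_sup_right ⟨z, hz⟩ := by
          refine Subtype.ext ?_
          show g * (x : Ω) * g⁻¹ = g * v * g⁻¹ * z
          rw [← hvz]
          calc g * (v * z) * g⁻¹ = g * v * g⁻¹ * (g * z * g⁻¹) := by group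
            _ = _ := by rw [hgf z hz]
        have hhf : h * z * h⁻¹ = z := by rw [hprod.2.2.1 h hh z hz, mul_inv_cancel_right]
        rw [e2, e1, map_mul, map_mul, hχe, hχe, hχf ⟨z, hz⟩, hgh ⟨v, hv⟩ hgv]
        calc h * χ ⟨v, hv⟩ * h⁻¹ * z = h * χ ⟨v, hv⟩ * h⁻¹ * (h * z * h⁻¹) := by rw [hhf]
          _ = _ := by group
    have hξ' := H85.restrict hξ
      (sup_le hNle (le_sup_right.trans hsrc) : N ⊔ S₂ ≤ extender S (V ⊔ S₂) χ')
    have hNS : N ≤ S₁ := H85.extender_le _ _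
    have hξN := H85.restrict hξ' (le_sup_left : N ≤ N ⊔ S₂)
    refine ⟨_, (fix_mem hR').2 ⟨hNS, hξN, le_centralizer_two hprod hNS,
      fun x => le_centralizer_two hprod (le_refl S₁) (h₁.2 N hNS _ hξN x), _, hξ',
      fun _ => rfl, fun z => ?_⟩, fun x hxV hxN => ?_⟩
    · exact (hξe z (le_sup_right (a := V) z.2) _).trans (hχf z)
    · exact (hξe x (le_sup_left (b := S₂) hxV) _).trans (hχe ⟨x, hxV⟩)

include hS hF hprod h₁ h₂ hR hR' in
theorem split_spec :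
    R.IsSaturated p ∧ R'.IsSaturated p ∧ R'.IsNormalIn F p ∧ R'.IsNormalIn R p ∧
      R.IsWeaklyNormalIn F p := by
  have hRs := full_saturated hS hF hprod h₁ hR
  have hR's := fix_saturated hS hF hprod h₁ h₂ hR'
  have hsub : R'.IsSubsystemOf F := fix_le hR'
  have hsi := fix_strongInv hS hF hprod h₁ h₂ hR'
  have hsub' : R'.IsSubsystemOf R := fun P φ hφ =>
    (full_mem hR).2 ⟨(R'.le_of_mem hφ).1, hsub P hφ⟩
  have hscR : R.StronglyClosed S₁ := stronglyClosed_self R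
  have : Finite S₁ := H85.finite_of_le h₁.1
  have hS₁ : IsPGroup p S₁ := hS.to_le h₁.1
  have hsiR : StrongInv R' R := fun P Q hPQ hQ φ hφ hφQ ψ hψ =>
    hsi P Q hPQ hQ φ hφ hφQ ψ ((full_mem hR).1 hψ).2
  have hext₂ : ∀ α ∈ R'.autGroup S₁, ∃ β ∈ F.autGroup (S₁ ⊔ centralizerIn S S₁),
      (∀ x : S₁, ((β (Subgroup.inclusion le_sup_left x) : ↥(S₁ ⊔ centralizerIn S S₁)) : Ω) =
        ((α x : S₁) : Ω)) ∧
      ∀ c : ↥(S₁ ⊔ centralizerIn S S₁), (c : Ω) ∈ centralizerIn S S₁ →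
        (c : Ω)⁻¹ * ((β c : ↥(S₁ ⊔ centralizerIn S S₁)) : Ω) ∈
          S₁ ⊓ Subgroup.centralizer (S₁ : Set Ω) := by
    intro α hα
    obtain ⟨-, -, -, -, α', hα', hae, haf⟩ := (fix_mem hR').1 ((H85.mem_autGroup le_rfl).1 hα)
    have hCS : S₂ ≤ centralizerIn S S₁ := fun z hz =>
      H85.mem_centralizerIn.2 ⟨h₂.1 hz, fun a ha => hprod.2.2.1 a ha z hz⟩
    have htop : S₁ ⊔ centralizerIn S S₁ = S :=
      le_antisymm (sup_le h₁.1 inf_le_left) (hprod.2.2.2.2.ge.trans (sup_le_sup_left hCS _))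
    have hle : S₁ ⊔ centralizerIn S S₁ ≤ S₁ ⊔ S₂ := htop.le.trans hprod.2.2.2.2.ge
    have hβ := H85.restrict hα' hle
    have : Finite ↥(S₁ ⊔ centralizerIn S S₁) := H85.finite_of_le htop.le
    have hr := range_eq_self_of_le F hβ ((H85.range_le hβ).trans htop.ge)
    refine ⟨_, autOfHom_mem F hβ hr, fun x => hae x, fun c hc => ?_⟩
    obtain ⟨a, ha, z, hz, haz⟩ := split_mem hprod hc.1
    have hac : a ∈ Subgroup.centralizer (S₁ : Set Ω) := by
      refine Subgroup.mem_centralizer_iff.2 fun u hu => ?_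
      have h1 : u * (a * z) = a * z * u := by
        rw [haz]
        exact Subgroup.mem_centralizer_iff.1 hc.2 u hu
      rw [← mul_assoc, mul_assoc a z u, ← hprod.2.2.1 u hu z hz, ← mul_assoc] at h1
      exact mul_right_cancel h1
    show (c : Ω)⁻¹ * α' (Subgroup.inclusion hle c) ∈ _
    have e : Subgroup.inclusion hle c = Subgroup.inclusion le_sup_left ⟨a, ha⟩ *
        Subgroup.inclusion le_sup_right ⟨z, hz⟩ := Subtype.ext haz.symm
    have hcomm1 := hprod.2.2.1 ((α ⟨a, ha⟩ : S₁) : Ω) (SetLike.coe_mem _) z hz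
    rw [e, map_mul, hae, haf, ← haz]
    show (a * z)⁻¹ * (((α ⟨a, ha⟩ : S₁) : Ω) * z) ∈ _
    rw [hcomm1, mul_inv_rev,
      show z⁻¹ * a⁻¹ = a⁻¹ * z⁻¹ from
        ((hprod.2.2.1 a⁻¹ (inv_mem ha) z⁻¹ (inv_mem hz))).symm,
      mul_assoc, ← mul_assoc z⁻¹, inv_mul_cancel, one_mul]
    refine ⟨S₁.mul_mem (S₁.inv_mem ha) (SetLike.coe_mem _), mul_mem (Subgroup.inv_mem _ hac) ?_⟩
    refine Subgroup.mem_centralizer_iff.2 fun u hu => ?_
    have h2 : α.symm ⟨u, hu⟩ * ⟨a, ha⟩ = ⟨a, ha⟩ * α.symm ⟨u, hu⟩ :=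
      Subtype.ext (Subgroup.mem_centralizer_iff.1 hac _ (SetLike.coe_mem _))
    have h3 := congrArg α h2
    rw [map_mul, map_mul, α.apply_symm_apply] at h3
    exact congrArg Subtype.val h3
  refine ⟨hRs, hR's,
    ⟨⟨hR's, hF, invariant_of_strongInv hS hF hsub h₁ hsi⟩, hext₂⟩,
    ⟨⟨hR's, hRs, invariant_of_strongInv hS₁ hRs hsub' hscR hsiR⟩, fun α hα => ?_⟩,
    hRs, hF, ?_⟩
  · have he : S₁ ⊔ centralizerIn S₁ S₁ ≤ S₁ := sup_le le_rfl inf_le_left
    have hαR : H85.IsFIso R α :=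
      (full_mem hR).2 ⟨le_rfl, hsub _ ((H85.mem_autGroup le_rfl).1 hα)⟩
    have hβ := H85.restrict hαR he
    have : Finite ↥(S₁ ⊔ centralizerIn S₁ S₁) := H85.finite_of_le (he.trans h₁.1)
    have hr := range_eq_self_of_le R hβ ((H85.range_le hβ).trans le_sup_left)
    refine ⟨_, autOfHom_mem R hβ hr, fun x => rfl, fun c hc => ?_⟩
    refine ⟨S₁.mul_mem (S₁.inv_mem (he c.2)) (SetLike.coe_mem _), mul_mem (Subgroup.inv_mem _ hc.2) ?_⟩
    refine Subgroup.mem_centralizer_iff.2 fun u hu => ?_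
    have h2 : α.symm ⟨u, hu⟩ * ⟨c, he c.2⟩ = ⟨c, he c.2⟩ * α.symm ⟨u, hu⟩ :=
      Subtype.ext (Subgroup.mem_centralizer_iff.1 hc.2 _ (SetLike.coe_mem _))
    have h3 := congrArg α h2
    rw [map_mul, map_mul, α.apply_symm_apply] at h3
    exact congrArg Subtype.val h3
  · refine invariant_of_strongInv hS hF (fun P φ hφ => ((full_mem hR).1 hφ).2) h₁ ?_
    intro P Q hPQ hQ φ hφ hφQ ψ hψ
    obtain ⟨inv, hinv, hinve⟩ := F.inv_mem (H85.restrict hψ hPQ)
    have hinvP : ∀ y, inv y ∈ P := by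
      rintro ⟨_, x, rfl⟩
      rw [hinve]
      exact x.2
    have hc := F.comp_mem (F.comp_mem hinv ((full_mem hR).1 hφ).2 hinvP) hψ (fun y => hφQ _)
    have hle : (P.subgroupOf Q).map ψ ≤ (ψ.comp (Subgroup.inclusion hPQ)).range := by
      rintro _ ⟨q, hq, rfl⟩
      exact ⟨⟨q, hq⟩, rfl⟩
    have hsrc : (P.subgroupOf Q).map ψ ≤ S₁ := by
      rintro _ ⟨q, -, rfl⟩
      exact h₁.2 Q hQ ψ hψ q
    refine ⟨_, (full_mem hR).2 ⟨hsrc, H85.restrict hc hle⟩, fun x hx => ?_⟩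
    show ψ ⟨φ ⟨inv _, _⟩, _⟩ = _
    congr 1
    refine Subtype.ext ?_
    show φ ⟨inv _, _⟩ = φ x
    congr 1
    exact Subtype.ext (hinve x)

end Main

end H86
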