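import Cfsg.Agent.H86.Basic
import Cfsg.Agent.H85.CentricExt

/-! Automorphisms of a subgroup `D` acting trivially modulo a subgroup `P`. -/

set_option autoImplicit false

open Cfsg Cfsg.FusionSystem

namespace H86

variable {Ω : Type*} [Group Ω] {S P D D' : Subgroup Ω}

/-- The automorphisms of `D` moving each element inside its coset of `P`. -/
def trivMod (P D : Subgroup Ω) : Subgroup (MulAut D) where
  carrier := {k | ∀ x : D, (x : Ω)⁻¹ * k x ∈ P}
  one_mem' := fun x => by simp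
  mul_mem' := by
    intro k l hk hl x
    have h := P.mul_mem (hl x) (hk (l x))
    rwa [show (x : Ω)⁻¹ * l x * ((l x : Ω)⁻¹ * k (l x)) = (x : Ω)⁻¹ * (k * l) x by
      rw [MulAut.mul_apply]; group] at h
  inv_mem' := by
    intro k hk x
    have h := P.inv_mem (hk (k⁻¹ x))
    rw [MulAut.apply_inv_self] at h
    simpa using h

theorem mem_trivMod {k : MulAut D} : k ∈ trivMod P D ↔ ∀ x : D, (x : Ω)⁻¹ * k x ∈ P := Iff.rfl

theorem trivMod_mapsTo {k : MulAut D} (hk : k ∈ trivMod P D) (hPD' : P ≤ D') {x : D}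
    (hx : (x : Ω) ∈ D') : (k x : Ω) ∈ D' := by
  have h := D'.mul_mem hx (hPD' (hk x))
  rwa [mul_inv_cancel_left] at h

/-- It suffices to move the elements of generators inside their cosets. -/
theorem trivMod_of_sup {k : MulAut D} {A B : Subgroup Ω} (hn : D ≤ Subgroup.normalizer (P : Set Ω))
    (hD : D ≤ A ⊔ B) (hA : A ≤ D) (hB : B ≤ D)
    (ha : ∀ x : D, (x : Ω) ∈ A → (x : Ω)⁻¹ * k x ∈ P)
    (hb : ∀ x : D, (x : Ω) ∈ B → (x : Ω)⁻¹ * k x ∈ P) : k ∈ trivMod P D := by
  let M : Subgroup D :=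
    { carrier := {x | (x : Ω)⁻¹ * k x ∈ P}
      one_mem' := by simp
      mul_mem' := by
        intro x y hx hy
        show ((x * y : D) : Ω)⁻¹ * k (x * y) ∈ P
        rw [map_mul, Subgroup.coe_mul, Subgroup.coe_mul,
          show ((x : Ω) * y)⁻¹ * ((k x : Ω) * k y) =
            ((y : Ω)⁻¹ * ((x : Ω)⁻¹ * k x) * y) * ((y : Ω)⁻¹ * k y) by group]
        exact P.mul_mem (H85.conj_mem_of_mem_normalizer' (hn y.2) hx) hy
      inv_mem' := by
        intro x hx
        show ((x⁻¹ : D) : Ω)⁻¹ * k x⁻¹ ∈ P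
        rw [map_inv, Subgroup.coe_inv, Subgroup.coe_inv, inv_inv,
          show (x : Ω) * (k x : Ω)⁻¹ = (x : Ω) * ((x : Ω)⁻¹ * k x)⁻¹ * (x : Ω)⁻¹ by group]
        exact H85.conj_mem_of_mem_normalizer (hn x.2) (P.inv_mem hx) }
  have hle : A ⊔ B ≤ M.map D.subtype :=
    sup_le (fun z hz => ⟨⟨z, hA hz⟩, ha ⟨z, hA hz⟩ hz, rfl⟩)
      (fun z hz => ⟨⟨z, hB hz⟩, hb ⟨z, hB hz⟩ hz, rfl⟩)
  intro x
  obtain ⟨z, hz, hzx⟩ := hle (hD x.2)
  exact (Subtype.ext hzx : z = x) ▸ hz

/-- The restriction to `P` of an automorphism trivial modulo `P`. -/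
noncomputable def resTriv [Finite P] (hPD : P ≤ D) : trivMod P D →* MulAut P :=
  MonoidHom.mk' (fun k => MulEquiv.ofBijective
      (MonoidHom.mk' (fun x : P => (⟨(k : MulAut D) ⟨x, hPD x.2⟩, trivMod_mapsTo k.2 le_rfl x.2⟩ : P))
        fun x y => Subtype.ext (congrArg (fun z : D => (z : Ω))
          (map_mul (k : MulAut D) ⟨x, hPD x.2⟩ ⟨y, hPD y.2⟩)))
      (Function.Injective.bijective_of_finite (fun x y h => Subtype.ext
        (congrArg (fun z : D => (z : Ω)) ((k : MulAut D).injective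
          (Subtype.ext (congrArg (fun z : P => (z : Ω)) h) :
            (k : MulAut D) ⟨x, hPD x.2⟩ = (k : MulAut D) ⟨y, hPD y.2⟩))))))
    fun k l => MulEquiv.ext fun x => Subtype.ext rfl

theorem resTriv_apply [Finite P] (hPD : P ≤ D) (k : trivMod P D) (x : P) :
    ((resTriv hPD k x : P) : Ω) = (k : MulAut D) ⟨x, hPD x.2⟩ := rfl

variable {F : FusionSystem S}

/-- Restriction to an intermediate subgroup. -/
theorem exists_res_trivMod [Finite S] {k : MulAut D} (hD : D ≤ S) (hk : k ∈ F.autGroup D)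
    (hkt : k ∈ trivMod P D) (hPD' : P ≤ D') (hD' : D' ≤ D) :
    ∃ k' ∈ F.autGroup D', k' ∈ trivMod P D' ∧ orderOf k' ∣ orderOf k ∧
      ∀ x : D', (k' x : Ω) = k (Subgroup.inclusion hD' x) := by
  have hr := H85.restrict ((H85.mem_autGroup hD).1 hk) hD'
  have : Finite D' := H85.finite_of_le (hD'.trans hD)
  have hrr : ((D.subtype.comp k.toMonoidHom).comp (Subgroup.inclusion hD')).range = D' :=
    range_eq_self_of_le F hr (by
      rintro _ ⟨x, rfl⟩
      exact trivMod_mapsTo hkt hPD' x.2)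
  let k' := autOfHom _ (F.injective_of_mem hr) hrr
  have he : ∀ (n : ℕ) (x : D'), ((k' ^ n) x : Ω) = (k ^ n) (Subgroup.inclusion hD' x) := by
    intro n
    induction n with
    | zero => intro x; rfl
    | succ n ih =>
      intro x
      rw [pow_succ', pow_succ', MulAut.mul_apply, MulAut.mul_apply,
        show (k ^ n) (Subgroup.inclusion hD' x) = Subgroup.inclusion hD' ((k' ^ n) x) from
          Subtype.ext (ih x).symm]
      rfl
  refine ⟨k', autOfHom_mem F hr hrr, fun x => hkt (Subgroup.inclusion hD' x), ?_, fun x => rfl⟩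
  refine orderOf_dvd_of_pow_eq_one (MulEquiv.ext fun x => Subtype.ext ?_)
  rw [he, pow_orderOf_eq_one]
  rfl

/-- Automorphisms fixing `P` and trivial modulo `P` have `p`-power order. -/
theorem pow_eq_one_trivMod [Finite D] {p : ℕ} [Fact p.Prime] (hD : IsPGroup p D) {k : MulAut D}
    (hkt : k ∈ trivMod P D) (hfix : ∀ x : D, (x : Ω) ∈ P → k x = x) : ∃ j, k ^ p ^ j = 1 :=
  H85.aut_isPElement hD k hfix hkt

/-- A power of order prime to `p` with a prescribed image. -/
theorem exists_exp_coprime {p : ℕ} [hp : Fact p.Prime] {G H : Type*} [Group G] [Group H] [Finite G]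
    (g : G) (a : H) (ha : Nat.Coprime (orderOf a) p) :
    ∃ n : ℕ, Nat.Coprime (orderOf (g ^ n)) p ∧ a ^ n = a := by
  obtain ⟨k, m, hm, hkm⟩ :=
    Nat.exists_eq_pow_mul_and_not_dvd (orderOf_pos g).ne' p hp.1.ne_one
  obtain ⟨j, hj⟩ := exists_pow_eq_self_of_coprime
    (show Nat.Coprime (p ^ k) (orderOf a) from Nat.Coprime.pow_left k ha.symm)
  refine ⟨p ^ k * j, ?_, by rw [pow_mul, hj]⟩
  rw [pow_mul]
  refine Nat.Coprime.of_dvd_left (orderOf_pow_dvd j) ?_
  rw [orderOf_pow_of_dvd (pow_ne_zero _ hp.1.ne_zero) (hkm ▸ dvd_mul_right _ _), hkm,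
    Nat.mul_div_cancel_left _ (pow_pos hp.1.pos _)]
  exact ((hp.1.coprime_iff_not_dvd).2 hm).symm

end H86
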